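import Groth.Agent.QCohPush72.CoprodBdd
import Groth.Agent.S1040

/-!
# `Rf_*` commutes with coproducts on `D_QCoh` (qcqs `f`)
-/

set_option autoImplicit false
set_option linter.style.haveILetI false
set_option backward.isDefEq.respectTransparency.types false
set_option maxHeartbeats 1000000

noncomputable section

universe u

open CategoryTheory CategoryTheory.Limits CategoryTheory.Pretriangulated DerivedCategory AlgebraicGeometry
  TopologicalSpace Opposite
open scoped ZeroObject

attribute [local instance] HasDerivedCategory.standard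

namespace Groth.Agent.QCohPush72

variable {X Y : Scheme.{u}}

/-- A uniform bound after restricting to an affine open of the base. -/
theorem exists_bound_restrict (f : X ⟶ Y) [QuasiCompact f] [QuasiSeparated f] [DCoh.HasRpush f]
    {V : Y.Opens} (hV : IsAffineOpen V) :
    ∃ d : ℤ, ∀ (K : DCoh.D X), DCoh.IsQCohD K → ∀ b : ℤ, K.IsLE b → ∀ j : ℤ, b + d < j →
      IsZero ((Scheme.Modules.restrictFunctor V.ι).obj (DCoh.HD ((DCoh.Rpush f).obj K) j)) := by
  haveI : IsAffine V.toScheme := hV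
  haveI := DCX42.hasRpush (f ∣_ V)
  obtain ⟨e⟩ := DCX42.nonempty_Rpush_restrict f V
  obtain ⟨d, hd⟩ := exists_isZero_HD_Rpush_affine (f ∣_ V)
  refine ⟨d, fun K hK b hb j hj => ?_⟩
  exact (hd _ (DCX42.isQCohD_resD hK (f ⁻¹ᵁ V).ι) b
    (DCX42.isLE_map (Scheme.Modules.restrictFunctor (f ⁻¹ᵁ V).ι) hb) j hj).of_iso
    (((Mod48.homologyMapDerivedIso (Scheme.Modules.restrictFunctor V.ι) j).app _).symm ≪≫
      (homologyFunctor _ j).mapIso (e.app K))

/-- If the cone vanishes in degrees `j - 1, j` on `V`, the map is an isomorphism on `Hʲ` on `V`. -/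
theorem isIso_restrict_homology {V : Y.Opens} (T : Triangle (DCoh.D Y)) (hT : T ∈ distTriang (DCoh.D Y)) (j : ℤ)
    (z₁ : IsZero ((Scheme.Modules.restrictFunctor V.ι).obj (DCoh.HD T.obj₃ (j - 1))))
    (z₂ : IsZero ((Scheme.Modules.restrictFunctor V.ι).obj (DCoh.HD T.obj₃ j))) :
    IsIso ((Scheme.Modules.restrictFunctor V.ι).map ((homologyFunctor Y.Modules j).map T.mor₁)) := by
  let R := Scheme.Modules.restrictFunctor V.ι
  have e₁ := (HomologySequence.exact₁ T hT (j - 1) j (by omega)).map R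
  have e₂ := (HomologySequence.exact₂ T hT j).map R
  have : Mono (R.map ((homologyFunctor Y.Modules j).map T.mor₁)) := e₁.mono_g (z₁.eq_of_src _ _)
  have : Epi (R.map ((homologyFunctor Y.Modules j).map T.mor₁)) := e₂.epi_f (z₂.eq_of_tgt _ _)
  exact isIso_of_mono_of_epi _

/-- A restriction of a coproduct vanishes when the restrictions of all summands do. -/
theorem isZero_restrict_coprod (V : Y.Opens) {ι : Type u} (M : ι → Y.Modules)
    (h : ∀ i, IsZero ((Scheme.Modules.restrictFunctor V.ι).obj (M i))) :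
    IsZero ((Scheme.Modules.restrictFunctor V.ι).obj (∐ M)) := by
  let R := Scheme.Modules.restrictFunctor V.ι
  haveI := (Scheme.Modules.restrictAdjunction V.ι).leftAdjoint_preservesColimits
  refine IsZero.of_iso ?_ (PreservesCoproduct.iso R M)
  rw [IsZero.iff_id_eq_zero]
  exact Sigma.hom_ext _ _ fun i => (h i).eq_of_src _ _

/-- `Rf_*` commutes with coproducts of objects with quasi-coherent cohomology. -/
theorem isIso_comparison (f : X ⟶ Y) [QuasiCompact f] [QuasiSeparated f] [DCoh.HasRpush f]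
    {ι : Type u} (K : ι → DCoh.D X) (hK : ∀ i, DCoh.IsQCohD (K i)) [HasCoproduct K]
    [HasCoproduct (fun i => (DCoh.Rpush f).obj (K i))] :
    IsIso (Sigma.desc (fun i => (DCoh.Rpush f).map (Sigma.ι K i))) := by
  haveI := isWeakSerre_qcoh X
  rw [DerivedCategory.isIso_iff]
  intro j
  refine Omega57.isIso_of_restrict _ fun y => ?_
  obtain ⟨V, hV, hy, -⟩ := exists_isAffineOpen_mem_and_subset (x := y) (U := (⊤ : Y.Opens)) trivial
  refine ⟨V, V.ι, inferInstance, ⟨⟨y, hy⟩, rfl⟩, ?_⟩
  obtain ⟨d, hd⟩ := exists_bound_restrict f hV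
  let t : Triangulated.TStructure (DCoh.D X) := TStructure.t
  let n : ℕ := (d - j + 1).toNat
  let τ : ι → DCoh.D X := fun i => (t.truncGE (-(n : ℤ))).obj (K i)
  let π : ∀ i, K i ⟶ τ i := fun i => (t.truncGEπ (-(n : ℤ))).app (K i)
  choose C α β hT using fun i => distinguished_cocone_triangle (π i)
  have hτ : ∀ i, DCoh.IsQCohD (τ i) := fun i k => by
    by_cases hk : -(n : ℤ) ≤ k
    · have := Mod48.isIso_homology_truncGEπ (K i) (-(n : ℤ)) k hk
      exact QC70.isQuasicoherent_of_iso (asIso ((homologyFunctor X.Modules k).map (π i))) (hK i k)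
    · exact QC70.isQuasicoherent_of_isZero
        (DerivedCategory.isZero_of_isGE (τ i) (-(n : ℤ)) k (by omega))
  have hC : ∀ i, DCoh.IsQCohD (C i) := fun i k =>
    Mod48.prop_homology_obj₂ (Coh.IsQCoh : ObjectProperty X.Modules) _ (rot_of_distTriang _ (hT i)) (hτ i)
      (fun l => QC70.isQuasicoherent_of_iso
        (((homologyFunctor X.Modules 0).shiftIso (1 : ℤ) l (l + 1) (by omega)).app (K i)).symm (hK i (l + 1))) k
  have hCle : ∀ i, (C i).IsLE (-(n : ℤ) - 1) := fun i =>
    (DerivedCategory.isLE_iff (C i) (-(n : ℤ) - 1)).2 fun k hk => by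
      have hi1 := Mod48.isIso_homology_truncGEπ (K i) (-(n : ℤ)) k (by omega)
      have hi2 := Mod48.isIso_homology_truncGEπ (K i) (-(n : ℤ)) (k + 1) (by omega)
      exact (HomologySequence.exact₃ _ (hT i) k (k + 1) rfl).isZero_X₂
        ((HomologySequence.exact₂ _ (hT i) k).epi_f_iff.1 (@IsIso.epi_of_iso _ _ _ _ _ hi1))
        ((HomologySequence.exact₁ _ (hT i) k (k + 1) rfl).mono_g_iff.1 (@IsIso.mono_of_iso _ _ _ _ _ hi2))
  choose c hc using fun i => PropPush72.exists_distinguished f _ (hT i)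
  haveI := hasCoproduct_D τ
  haveI := hasCoproduct_D C
  haveI := hasCoproduct_D fun i => (DCoh.Rpush f).obj (τ i)
  haveI := hasCoproduct_D fun i => (DCoh.Rpush f).obj (C i)
  have hX := @CohDer42.coproduct_triangle_distinguished _ _ _ _ _ _ _ _ (fun i => Triangle.mk (π i) (α i) (β i)) hT
    ‹HasCoproduct K› (hasCoproduct_D τ) (hasCoproduct_D C)
  have hY := @CohDer42.coproduct_triangle_distinguished _ _ _ _ _ _ _ _
    (fun i => Triangle.mk ((DCoh.Rpush f).map (π i)) ((DCoh.Rpush f).map (α i)) (c i)) hc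
    ‹HasCoproduct fun i => (DCoh.Rpush f).obj (K i)› (hasCoproduct_D _) (hasCoproduct_D _)
  obtain ⟨c', hX'⟩ := PropPush72.exists_distinguished f _ hX
  have hCq : DCoh.IsQCohD (∐ C) := S1040.result X C hC
  have hCl : (∐ C).IsLE (-(n : ℤ) - 1) := (DerivedCategory.isLE_iff _ _).2 fun k hk => by
    obtain ⟨e⟩ := DCX42.nonempty_HD_coprod C k
    refine IsZero.of_iso ?_ e
    rw [IsZero.iff_id_eq_zero]
    exact Sigma.hom_ext _ _ fun i =>
      (haveI := hCle i; DerivedCategory.isZero_of_isLE (C i) (-(n : ℤ) - 1) k hk).eq_of_src _ _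
  have zX : ∀ k, j - 1 ≤ k →
      IsZero ((Scheme.Modules.restrictFunctor V.ι).obj (DCoh.HD ((DCoh.Rpush f).obj (∐ C)) k)) :=
    fun k hk => hd _ hCq _ hCl k (by omega)
  have zY : ∀ k, j - 1 ≤ k → IsZero ((Scheme.Modules.restrictFunctor V.ι).obj
      (DCoh.HD (∐ fun i => (DCoh.Rpush f).obj (C i)) k)) := fun k hk => by
    obtain ⟨e⟩ := DCX42.nonempty_HD_coprod (fun i => (DCoh.Rpush f).obj (C i)) k
    exact (isZero_restrict_coprod V _ fun i => hd _ (hC i) _ (hCle i) k (by omega)).of_iso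
      ((Scheme.Modules.restrictFunctor V.ι).mapIso e)
  haveI hp := preservesColimit_Rpush_of_isGE f τ (-(n : ℤ)) fun i =>
    (inferInstance : ((t.truncGE (-(n : ℤ))).obj (K i)).IsGE (-(n : ℤ)))
  let F : DCoh.D Y ⥤ V.toScheme.Modules := homologyFunctor Y.Modules j ⋙ Scheme.Modules.restrictFunctor V.ι
  let cK := Sigma.desc (fun i => (DCoh.Rpush f).map (Sigma.ι K i))
  let cτ := sigmaComparison (DCoh.Rpush f) τ
  have h1 : IsIso (F.map (Limits.Sigma.map fun i => (DCoh.Rpush f).map (π i))) :=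
    isIso_restrict_homology _ hY j (zY _ le_rfl) (zY j (by omega))
  have h2 : IsIso (F.map ((DCoh.Rpush f).map (Limits.Sigma.map π))) :=
    isIso_restrict_homology _ hX' j (zX _ le_rfl) (zX j (by omega))
  have hsq : cK ≫ (DCoh.Rpush f).map (Limits.Sigma.map π) =
      Limits.Sigma.map (fun i => (DCoh.Rpush f).map (π i)) ≫ cτ := by
    refine Sigma.hom_ext _ _ fun i => ?_
    simp only [cK, cτ, Sigma.ι_desc_assoc, Sigma.ι_map_assoc, ι_comp_sigmaComparison, ← Functor.map_comp,
      Sigma.ι_map]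
  change IsIso (F.map cK)
  have h3 : IsIso (F.map cK ≫ F.map ((DCoh.Rpush f).map (Limits.Sigma.map π))) := by
    rw [← F.map_comp, hsq, F.map_comp]
    infer_instance
  exact IsIso.of_isIso_comp_right _ (F.map ((DCoh.Rpush f).map (Limits.Sigma.map π)))

end Groth.Agent.QCohPush72
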