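import Groth.Agent.QCohPush72.AffineUnit
import Groth.Agent.QCohPush72.Coprod
import Groth.Agent.Mod48.KFlatBounded

/-!
# Complexes of acyclic quasi-coherent modules compute `Rf_*`
-/

set_option autoImplicit false
set_option linter.style.haveILetI false
set_option backward.isDefEq.respectTransparency.types false
set_option maxHeartbeats 1000000

noncomputable section

universe u

open CategoryTheory CategoryTheory.Limits CategoryTheory.Pretriangulated DerivedCategory AlgebraicGeometry
  TopologicalSpace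
open scoped ZeroObject

attribute [local instance] HasDerivedCategory.standard

namespace Groth.Agent.QCohPush72

variable {X Y : Scheme.{u}}

/-- A map of complexes which is an isomorphism in degrees `≥ m` is one on homology in degrees `> m`. -/
theorem quasiIsoAt_of_isIso_f {C : Type*} [Category C] [Abelian C] {K L : CochainComplex C ℤ} (φ : K ⟶ L)
    (m : ℤ) (h : ∀ n, m ≤ n → IsIso (φ.f n)) (i : ℤ) (hi : m + 1 ≤ i) : QuasiIsoAt φ i := by
  rw [quasiIsoAt_iff' _ (i - 1) i (i + 1) (by simp) (by simp)]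
  let ψ := (HomologicalComplex.shortComplexFunctor' C (ComplexShape.up ℤ) (i - 1) i (i + 1)).map φ
  haveI : IsIso ψ.τ₁ := h (i - 1) (by omega)
  haveI : IsIso ψ.τ₂ := h i (by omega)
  haveI : IsIso ψ.τ₃ := h (i + 1) (by omega)
  exact ShortComplex.quasiIso_of_epi_of_isIso_of_mono ψ

/-- A map inducing isomorphisms on cohomology in degrees `≥ m` does so on `V` after `Rf_*`, up to the bound. -/
theorem exists_isIso_restrict_HD_map_Rpush (f : X ⟶ Y) [QuasiCompact f] [QuasiSeparated f] [DCoh.HasRpush f]
    {V : Y.Opens} (hV : IsAffineOpen V) :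
    ∃ d : ℤ, ∀ {A B : DCoh.D X} (φ : A ⟶ B), DCoh.IsQCohD A → DCoh.IsQCohD B → ∀ m : ℤ,
      (∀ i, m ≤ i → IsIso ((homologyFunctor X.Modules i).map φ)) → ∀ j : ℤ, m + d < j →
        IsIso ((Scheme.Modules.restrictFunctor V.ι).map
          ((homologyFunctor Y.Modules j).map ((DCoh.Rpush f).map φ))) := by
  haveI := isWeakSerre_qcoh X
  obtain ⟨d, hd⟩ := exists_bound_restrict f hV
  refine ⟨d, fun {A B} φ hA hB m hφ j hj => ?_⟩
  obtain ⟨C, α, β, hT⟩ := distinguished_cocone_triangle φ
  have hC : DCoh.IsQCohD C := fun i =>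
    Mod48.prop_homology_obj₂ (Coh.IsQCoh : ObjectProperty X.Modules) _ (rot_of_distTriang _ hT) hB
      (fun k => QC70.isQuasicoherent_of_iso
        (((homologyFunctor X.Modules 0).shiftIso (1 : ℤ) k (k + 1) (by omega)).app A).symm (hA (k + 1))) i
  have hCle : C.IsLE (m - 1) := (DerivedCategory.isLE_iff C (m - 1)).2 fun i hi => by
    have hi1 := hφ i (by omega)
    have hi2 := hφ (i + 1) (by omega)
    exact (HomologySequence.exact₃ _ hT i (i + 1) rfl).isZero_X₂
      ((HomologySequence.exact₂ _ hT i).epi_f_iff.1 (@IsIso.epi_of_iso _ _ _ _ _ hi1))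
      ((HomologySequence.exact₁ _ hT i (i + 1) rfl).mono_g_iff.1 (@IsIso.mono_of_iso _ _ _ _ _ hi2))
  obtain ⟨c, hT'⟩ := PropPush72.exists_distinguished f _ hT
  exact isIso_restrict_homology _ hT' j (hd C hC _ hCle (j - 1) (by omega)) (hd C hC _ hCle j (by omega))

/-- Complexes of quasi-coherent `f_*`-acyclic modules compute `Rf_*`. -/
theorem isIso_unit_acyclic (f : X ⟶ Y) [QuasiCompact f] [QuasiSeparated f] [DCoh.HasRpush f]
    (F : CochainComplex X.Modules ℤ) (hq : ∀ n : ℤ, Coh.IsQCoh (F.X n))
    (hac : ∀ (n : ℤ) (i : ℕ), 0 < i → IsZero ((Coh.Rpush f i).obj (F.X n))) :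
    IsIso ((PropPush72.αu f).app ((HomotopyCategory.quotient X.Modules (ComplexShape.up ℤ)).obj F)) := by
  rw [DerivedCategory.isIso_iff]
  intro j
  refine Omega57.isIso_of_restrict _ fun y => ?_
  obtain ⟨V, hV, hy, -⟩ := exists_isAffineOpen_mem_and_subset (x := y) (U := (⊤ : Y.Opens)) trivial
  refine ⟨V, V.ι, inferInstance, ⟨⟨y, hy⟩, rfl⟩, ?_⟩
  obtain ⟨d, hd⟩ := exists_isIso_restrict_HD_map_Rpush f hV
  let m := min (j - 2) (j - d - 2)
  let S : CochainComplex X.Modules ℤ := Mod48.sigGE (O := X.sheaf) F m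
  let ι : S ⟶ F := Mod48.sigι (O := X.sheaf) F m
  have hι : ∀ n, m ≤ n → IsIso (ι.f n) := fun n hn => Mod48.isIso_sigι_f (O := X.sheaf) F m n hn
  have hz : ∀ n, ¬ m ≤ n → IsZero (S.X n) := fun n hn => Mod48.isZero_sigGE_X (O := X.sheaf) F m n hn
  haveI : S.IsStrictlyGE m := by
    rw [CochainComplex.isStrictlyGE_iff]
    exact fun n hn => hz n (by omega)
  have hSq : ∀ n, Coh.IsQCoh (S.X n) := fun n => by
    by_cases hn : m ≤ n
    · haveI := hι n hn
      exact QC70.isQuasicoherent_of_iso (asIso (ι.f n)).symm (hq n)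
    · exact QC70.isQuasicoherent_of_isZero (hz n hn)
  have hu := isIso_unit_of_isStrictlyGE f S m fun n q hq' => by
    by_cases hn : m ≤ n
    · haveI := hι n hn
      exact (hac n q hq').of_iso ((Coh.Rpush f q).mapIso (asIso (ι.f n)))
    · exact (Coh.Rpush f q).map_isZero (hz n hn)
  let G := Scheme.Modules.pushforward f
  let R := Scheme.Modules.restrictFunctor V.ι
  let q := (HomotopyCategory.quotient X.Modules (ComplexShape.up ℤ)).map ι
  have hR : IsIso (R.map ((homologyFunctor Y.Modules j).map ((DerivedCategory.Qh ⋙ DCoh.Rpush f).map q))) := by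
    refine hd (DerivedCategory.Q.map ι) (A := DerivedCategory.Q.obj S) (B := DerivedCategory.Q.obj F)
      ?_ ?_ (m + 1) (fun i hi => ?_) j (by omega)
    · exact fun i => QC70.isQuasicoherent_of_iso ((homologyFunctorFactors X.Modules i).app S).symm
        (DCX42.isQCoh_homology S hSq i)
    · exact fun i => QC70.isQuasicoherent_of_iso ((homologyFunctorFactors X.Modules i).app F).symm
        (DCX42.isQCoh_homology F hq i)
    · refine (NatIso.isIso_map_iff (homologyFunctorFactors X.Modules i) ι).2 ?_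
      exact (quasiIsoAt_iff_isIso_homologyMap ι i).1 (quasiIsoAt_of_isIso_f ι m hι i hi)
  have hL : IsIso ((homologyFunctor Y.Modules j).map ((DCoh.pushKh f).map q)) := by
    refine (NatIso.isIso_map_iff (homologyFunctorFactors Y.Modules j)
      ((G.mapHomologicalComplex (ComplexShape.up ℤ)).map ι)).2 ?_
    refine (quasiIsoAt_iff_isIso_homologyMap _ j).1 (quasiIsoAt_of_isIso_f _ m (fun n hn => ?_) j (by omega))
    haveI := hι n hn
    exact inferInstanceAs (IsIso (G.map (ι.f n)))
  have hnat := congrArg (fun z => R.map ((homologyFunctor Y.Modules j).map z)) ((PropPush72.αu f).naturality q)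
  simp only [Functor.map_comp] at hnat
  haveI := hu
  haveI := hL
  haveI := hR
  have : IsIso (R.map ((homologyFunctor Y.Modules j).map ((DCoh.pushKh f).map q)) ≫
      R.map ((homologyFunctor Y.Modules j).map ((PropPush72.αu f).app _))) := by
    rw [hnat]
    infer_instance
  exact IsIso.of_isIso_comp_left (R.map ((homologyFunctor Y.Modules j).map ((DCoh.pushKh f).map q))) _

end Groth.Agent.QCohPush72
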