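import Groth.Agent.QCohPush72.Bound
import Groth.Agent.GSS45.Single
import Mathlib.Algebra.Homology.Embedding.CochainComplex

/-!
# Along an affine morphism `f_*` computes `Rf_*` on complexes of quasi-coherent modules
-/

set_option autoImplicit false
set_option linter.style.haveILetI false
set_option backward.isDefEq.respectTransparency.types false

noncomputable section

universe u

open CategoryTheory CategoryTheory.Limits CategoryTheory.Pretriangulated DerivedCategory AlgebraicGeometry
  TopologicalSpace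
open scoped ZeroObject

attribute [local instance] HasDerivedCategory.standard

namespace Groth.Agent.QCohPush72

variable {X Y : Scheme.{u}}

/-- On bounded below complexes of acyclic modules the unit of `Rf_*` is an isomorphism. -/
theorem isIso_unit_of_isStrictlyGE (f : X ⟶ Y) [DCoh.HasRpush f] (K : CochainComplex X.Modules ℤ) (a : ℤ)
    [K.IsStrictlyGE a]
    (hK : ∀ (n : ℤ) (q : ℕ), 0 < q → IsZero ((Coh.Rpush f q).obj (K.X n))) :
    IsIso ((PropPush72.αu f).app ((HomotopyCategory.quotient X.Modules (ComplexShape.up ℤ)).obj K)) := by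
  let G := Scheme.Modules.pushforward f
  haveI : PreservesFiniteLimits G :=
    have := (Scheme.Modules.pullbackPushforwardAdjunction f).isRightAdjoint
    inferInstance
  obtain ⟨I, hI, s, hs⟩ := CochainComplex.Plus.exists_quasiIso_injective
    (C := X.Modules) ⟨K, ⟨a, inferInstance⟩⟩ a
  let J := (InjectiveObject.ι X.Modules).mapCochainComplexPlus.obj I
  have hsQ : QuasiIso s.hom := hs
  have hJge : J.obj.IsStrictlyGE a :=
    (CochainComplex.isStrictlyGE_mapHomologicalComplex_obj_iff _ _ _).2 hI
  let M := CochainComplex.mappingCone s.hom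
  have : M.IsStrictlyGE (a - 1) := CochainComplex.isStrictlyGE_mappingCone s.hom a a (a - 1)
  have hT := HomotopyCategory.mappingCone_triangleh_distinguished s.hom
  have hMac : M.Acyclic := by
    have h := ((HomotopyCategory.subcategoryAcyclic X.Modules).trW_iff_of_distinguished _ hT).1 (by
      rw [← HomotopyCategory.quasiIso_eq_trW_subcategoryAcyclic]
      exact (HomotopyCategory.quotient_map_mem_quasiIso_iff _).2
        ((HomologicalComplex.mem_quasiIso_iff _).2 hsQ))
    exact (HomotopyCategory.quotient_obj_mem_subcategoryAcyclic_iff_acyclic _).1 h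
  have hinj : ∀ n, Injective (J.obj.X n) := fun n =>
    inferInstanceAs (Injective ((InjectiveObject.ι X.Modules).obj (I.obj.X n)))
  have hMX : ∀ n, RFPlus43.IsAc G (M.X n) := fun n =>
    RFPlus43.IsAc.of_iso (HomologicalComplex.homotopyCofiber.XIsoBiprod s.hom n (n + 1) rfl).symm
      ((GSS45.isAc_of_isZero G (hK _)).biprod (RFPlus43.isAc_of_injective G _))
  have hGM := RFPlus43.acyclic_map G M (a - 1) hMac hMX
  have hq : HomotopyCategory.quasiIso Y.Modules (ComplexShape.up ℤ)
      ((G.mapHomotopyCategory (ComplexShape.up ℤ)).map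
        ((HomotopyCategory.quotient X.Modules (ComplexShape.up ℤ)).map s.hom)) := by
    rw [HomotopyCategory.quasiIso_eq_trW_subcategoryAcyclic]
    exact ((HomotopyCategory.subcategoryAcyclic Y.Modules).trW_iff_of_distinguished _
      ((G.mapHomotopyCategory (ComplexShape.up ℤ)).map_distinguished _ hT)).2
        ((HomotopyCategory.quotient_obj_mem_subcategoryAcyclic_iff_acyclic _).2 hGM)
  have h1 : IsIso ((DCoh.pushKh f).map
      ((HomotopyCategory.quotient X.Modules (ComplexShape.up ℤ)).map s.hom)) :=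
    Localization.inverts DerivedCategory.Qh (HomotopyCategory.quasiIso Y.Modules (ComplexShape.up ℤ)) _ hq
  have hQ : IsIso (DerivedCategory.Qh.map
      ((HomotopyCategory.quotient X.Modules (ComplexShape.up ℤ)).map s.hom)) :=
    Localization.inverts DerivedCategory.Qh (HomotopyCategory.quasiIso X.Modules (ComplexShape.up ℤ)) _
      ((HomotopyCategory.quotient_map_mem_quasiIso_iff _).2 ((HomologicalComplex.mem_quasiIso_iff _).2 hsQ))
  have hJ : IsIso ((PropPush72.αu f).app ((HomotopyCategory.quotient X.Modules (ComplexShape.up ℤ)).obj J.obj)) :=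
    PropPush72.hα f J.obj (CochainComplex.isKInjective_of_injective J.obj a)
  have hnat := (PropPush72.αu f).naturality ((HomotopyCategory.quotient X.Modules (ComplexShape.up ℤ)).map s.hom)
  haveI : IsIso ((DerivedCategory.Qh ⋙ DCoh.Rpush f).map
      ((HomotopyCategory.quotient X.Modules (ComplexShape.up ℤ)).map s.hom)) :=
    inferInstanceAs (IsIso ((DCoh.Rpush f).map (DerivedCategory.Qh.map _)))
  haveI : IsIso ((PropPush72.αu f).app ((HomotopyCategory.quotient X.Modules (ComplexShape.up ℤ)).obj K) ≫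
      (DerivedCategory.Qh ⋙ DCoh.Rpush f).map
        ((HomotopyCategory.quotient X.Modules (ComplexShape.up ℤ)).map s.hom)) := by
    rw [← hnat]
    exact @IsIso.comp_isIso _ _ _ _ _ _ _ h1 hJ
  exact IsIso.of_isIso_comp_right _ ((DerivedCategory.Qh ⋙ DCoh.Rpush f).map
    ((HomotopyCategory.quotient X.Modules (ComplexShape.up ℤ)).map s.hom))

/-- The truncation map is an isomorphism above the boundary degree. -/
theorem isIso_πTruncGE_f {C : Type*} [Category C] [Abelian C] (K : CochainComplex C ℤ) (m n : ℤ) (h : m < n) :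
    IsIso ((K.πTruncGE m).f n) := by
  obtain ⟨k, rfl⟩ : ∃ k : ℕ, n = m + k := ⟨(n - m).toNat, by omega⟩
  have hi : (ComplexShape.embeddingUpIntGE m).f k = m + k := by simp
  have hb : ¬ (ComplexShape.embeddingUpIntGE m).BoundaryGE k := by
    rw [ComplexShape.boundaryGE_embeddingUpIntGE_iff]
    omega
  refine ((ComplexShape.embeddingUpIntGE m).isIso_liftExtend_f_iff _
    (HomologicalComplex.restrictionToTruncGE'_hasLift K (ComplexShape.embeddingUpIntGE m)) hi).2 ?_
  rw [K.restrictionToTruncGE'_f_eq_iso_hom_iso_inv (ComplexShape.embeddingUpIntGE m) hi hb]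
  infer_instance

/-- Affine morphisms have no higher direct images of quasi-coherent modules. -/
theorem isZero_Rpush_affineHom (f : X ⟶ Y) [IsAffineHom f] (F : X.Modules) (hF : Coh.IsQCoh F)
    (q : ℕ) (hq : 0 < q) : IsZero ((Coh.Rpush f q).obj F) := by
  haveI := hF
  obtain ⟨k, rfl⟩ : ∃ k, q = k + 1 := ⟨q - 1, by omega⟩
  refine FMK72.isZero_Rpush_of_subsingleton f F (k + 1) fun U y hy => ?_
  obtain ⟨V, hV, hyV, hVU⟩ := exists_isAffineOpen_mem_and_subset (x := y) (U := U) hy
  exact ⟨V, hVU, hyV, Coh69.qcoh_subsingleton_HE (X := X) F (hV.preimage f) k⟩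

/-- The bound for affine morphisms is zero. -/
theorem isZero_HD_Rpush_affineHom (f : X ⟶ Y) [IsAffineHom f] [DCoh.HasRpush f]
    (K : DCoh.D X) (hK : DCoh.IsQCohD K) (b : ℤ) (hb : K.IsLE b) (j : ℤ) (hj : b < j) :
    IsZero (DCoh.HD ((DCoh.Rpush f).obj K) j) := by
  haveI := isWeakSerre_qcoh X
  have hN : ∀ (F : X.Modules), Coh.IsQCoh F → ∀ i : ℤ, 0 < i →
      IsZero ((homologyFunctor Y.Modules i).obj ((DCoh.Rpush f).obj ((singleFunctor X.Modules 0).obj F))) := by
    intro F hF i hi
    obtain ⟨p, rfl⟩ : ∃ p : ℕ, i = (p : ℤ) := ⟨i.toNat, by omega⟩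
    obtain ⟨e⟩ := PropPush72.nonempty_HD_Rpush_inD f F p
    exact (isZero_Rpush_affineHom f F hF p (by omega)).of_iso e
  let adjf := Scheme.Modules.pullbackPushforwardAdjunction f
  haveI := adjf.isLeftAdjoint
  haveI : (Scheme.Modules.pullback f).PreservesZeroMorphisms :=
    Functor.preservesZeroMorphisms_of_isLeftAdjoint _
  refine isZero_HD_Rpush_of_bound f 0 hN (fun K hK n j hj => ?_) K hK b hb j (by omega)
  exact Mod48.LocGen.isIso_homology_push_truncGEπ (A := X.Modules) (B := Y.Modules)
    (DCoh.Rpush f) (PropPush72.αu f) (PropPush72.hα f) adjf (Mod48.modGen Y.sheaf)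
    CohDer42.RdAdj.enoughKInj (Coh.IsQCoh : ObjectProperty X.Modules) 0 hN
    (Mod48.modGen X.sheaf) {V : X.Opens | IsAffineOpen V} {V : Y.Opens | IsAffineOpen V}
    DerComp18.affine_cover
    (fun V _ => ⟨0, fun T hT => by
      obtain ⟨ι, W, g, h1, h2, h3⟩ := Mod48.exists_refinement _ DerComp18.affine_cover T hT
      refine ⟨ι, W, g, h1, h2, fun i => Mod48.vanishAbove_of_hu fun F hF k hk => ?_⟩
      obtain ⟨k, rfl⟩ : ∃ k', k = k' + 1 := ⟨k - 1, by omega⟩
      haveI := hF
      exact Coh69.qcoh_subsingleton_HE (X := X) F (h3 i) k⟩)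
    DerComp18.affine_cover
    (fun V _ => ⟨0, fun T hT => by
      obtain ⟨ι, W, g, h1, h2, h3⟩ := Mod48.exists_refinement _ DerComp18.affine_cover T hT
      refine ⟨ι, W, g, h1, h2, fun i => vanishAbove_of_iso ((ModSite.RMor.ofSchemePull f).app _)
        (Mod48.vanishAbove_pull (ModSite.RMor.ofScheme f) (W i) fun F hF k hk => ?_)⟩
      obtain ⟨k, rfl⟩ : ∃ k', k = k' + 1 := ⟨k - 1, by omega⟩
      haveI := hF
      exact Coh69.qcoh_subsingleton_HE (X := X) F (IsAffineOpen.preimage (h3 i) f) k⟩)
    K hK n j hj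

/-- A morphism inducing isomorphisms on cohomology in degrees `≥ m` does so after `Rf_*`. -/
theorem isIso_HD_map_Rpush_affineHom (f : X ⟶ Y) [IsAffineHom f] [DCoh.HasRpush f] {A B : DCoh.D X}
    (φ : A ⟶ B) (hA : DCoh.IsQCohD A) (hB : DCoh.IsQCohD B) (m : ℤ)
    (hφ : ∀ i, m ≤ i → IsIso ((homologyFunctor X.Modules i).map φ)) (j : ℤ) (hj : m + 1 ≤ j) :
    IsIso ((homologyFunctor Y.Modules j).map ((DCoh.Rpush f).map φ)) := by
  haveI := isWeakSerre_qcoh X
  obtain ⟨C, α, β, hT⟩ := distinguished_cocone_triangle φ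
  have hC : DCoh.IsQCohD C := fun i =>
    Mod48.prop_homology_obj₂ (Coh.IsQCoh : ObjectProperty X.Modules) _ (rot_of_distTriang _ hT) hB
      (fun k => QC70.isQuasicoherent_of_iso
        (((homologyFunctor X.Modules 0).shiftIso (1 : ℤ) k (k + 1) (by omega)).app A).symm (hA (k + 1))) i
  have hCle : C.IsLE (m - 1) := (DerivedCategory.isLE_iff C (m - 1)).2 fun i hi => by
    have hi1 := hφ i (by omega)
    have hi2 := hφ (i + 1) (by omega)
    exact (HomologySequence.exact₃ _ hT i (i + 1) rfl).isZero_X₂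
      ((HomologySequence.exact₂ _ hT i).epi_f_iff.1
        (@IsIso.epi_of_iso _ _ _ _ _ hi1))
      ((HomologySequence.exact₁ _ hT i (i + 1) rfl).mono_g_iff.1
        (@IsIso.mono_of_iso _ _ _ _ _ hi2))
  obtain ⟨c, hT'⟩ := PropPush72.exists_distinguished f _ hT
  have z₁ := isZero_HD_Rpush_affineHom f C hC (m - 1) hCle j (by omega)
  have z₂ := isZero_HD_Rpush_affineHom f C hC (m - 1) hCle (j - 1) (by omega)
  have : Mono ((homologyFunctor Y.Modules j).map ((DCoh.Rpush f).map φ)) :=
    (HomologySequence.exact₁ _ hT' (j - 1) j (by omega)).mono_g (z₂.eq_of_src _ _)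
  have : Epi ((homologyFunctor Y.Modules j).map ((DCoh.Rpush f).map φ)) :=
    (HomologySequence.exact₂ _ hT' j).epi_f (z₁.eq_of_tgt _ _)
  exact isIso_of_mono_of_epi _

/-- Along an affine morphism, `f_*` computes `Rf_*` on complexes of quasi-coherent modules. -/
theorem isIso_unit_affineHom (f : X ⟶ Y) [IsAffineHom f] [DCoh.HasRpush f]
    (F : CochainComplex X.Modules ℤ) (hq : ∀ n : ℤ, Coh.IsQCoh (F.X n)) :
    IsIso ((PropPush72.αu f).app ((HomotopyCategory.quotient X.Modules (ComplexShape.up ℤ)).obj F)) := by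
  rw [DerivedCategory.isIso_iff]
  intro j
  let m := j - 2
  let G := Scheme.Modules.pushforward f
  have hT : ∀ n : ℤ, Coh.IsQCoh ((F.truncGE m).X n) := fun n => by
    rcases lt_trichotomy n m with h | rfl | h
    · exact QC70.isQuasicoherent_of_isZero ((F.truncGE m).isZero_of_isStrictlyGE m n h)
    · haveI := hq (m - 1)
      haveI := hq m
      refine QC70.isQuasicoherent_of_iso ((F.truncGEXIsoOpcycles m).symm) ?_
      exact QC70.isQuasicoherent_of_iso
        (((cokernelIsCokernel (F.d (m - 1) m)).coconePointUniqueUpToIso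
          (F.opcyclesIsCokernel (m - 1) m (by simp))))
        (QC70.isQuasicoherent_cokernel (F.d (m - 1) m))
    · exact QC70.isQuasicoherent_of_iso (F.truncGEXIso m n h).symm (hq n)
  have hu := isIso_unit_of_isStrictlyGE f (F.truncGE m) m fun n q hq' =>
    isZero_Rpush_affineHom f _ (hT n) q hq'
  let π : F ⟶ F.truncGE m := F.πTruncGE m
  let q := (HomotopyCategory.quotient X.Modules (ComplexShape.up ℤ)).map π
  have hR : IsIso ((homologyFunctor Y.Modules j).map ((DerivedCategory.Qh ⋙ DCoh.Rpush f).map q)) := by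
    refine isIso_HD_map_Rpush_affineHom f (DerivedCategory.Q.map π) (A := DerivedCategory.Q.obj F)
      (B := DerivedCategory.Q.obj (F.truncGE m)) ?_ ?_ m (fun i hi => ?_) j (by omega)
    · exact fun i => QC70.isQuasicoherent_of_iso ((homologyFunctorFactors X.Modules i).app F).symm
        (DCX42.isQCoh_homology F hq i)
    · exact fun i => QC70.isQuasicoherent_of_iso ((homologyFunctorFactors X.Modules i).app (F.truncGE m)).symm
        (DCX42.isQCoh_homology _ hT i)
    · refine (NatIso.isIso_map_iff (homologyFunctorFactors X.Modules i) π).2 ?_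
      exact (quasiIsoAt_iff_isIso_homologyMap π i).1 (F.quasiIsoAt_πTruncGE m i hi)
  have hL : IsIso ((homologyFunctor Y.Modules j).map ((DCoh.pushKh f).map q)) := by
    refine (NatIso.isIso_map_iff (homologyFunctorFactors Y.Modules j)
      ((G.mapHomologicalComplex (ComplexShape.up ℤ)).map π)).2 ?_
    refine (quasiIsoAt_iff_isIso_homologyMap _ j).1 ?_
    rw [quasiIsoAt_iff' _ (j - 1) j (j + 1) (by simp) (by simp)]
    have hf : ∀ n, m < n → IsIso (((G.mapHomologicalComplex (ComplexShape.up ℤ)).map π).f n) := fun n hn => by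
      have : IsIso (π.f n) := isIso_πTruncGE_f F m n hn
      exact inferInstanceAs (IsIso (G.map (π.f n)))
    let ψ := (HomologicalComplex.shortComplexFunctor' Y.Modules (ComplexShape.up ℤ) (j - 1) j (j + 1)).map
      ((G.mapHomologicalComplex (ComplexShape.up ℤ)).map π)
    haveI : IsIso ψ.τ₁ := hf (j - 1) (by omega)
    haveI : IsIso ψ.τ₂ := hf j (by omega)
    haveI : IsIso ψ.τ₃ := hf (j + 1) (by omega)
    exact ShortComplex.quasiIso_of_epi_of_isIso_of_mono ψ
  have hnat := congrArg (homologyFunctor Y.Modules j).map ((PropPush72.αu f).naturality q)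
  rw [Functor.map_comp, Functor.map_comp] at hnat
  haveI := hu
  haveI := hL
  haveI := hR
  have : IsIso ((homologyFunctor Y.Modules j).map ((PropPush72.αu f).app _) ≫
      (homologyFunctor Y.Modules j).map ((DerivedCategory.Qh ⋙ DCoh.Rpush f).map q)) := by
    rw [← hnat]
    infer_instance
  exact IsIso.of_isIso_comp_right _ ((homologyFunctor Y.Modules j).map ((DerivedCategory.Qh ⋙ DCoh.Rpush f).map q))

end Groth.Agent.QCohPush72
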