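import Groth.Agent.QCohPush72.AffineUnit
import Groth.Agent.DCX42.MVTri
import Groth.Agent.DCX42.PushAdj
import Groth.Agent.DCK91.TorFlat
import Groth.Agent.DCK91.Tri
import Groth.Agent.Coh69.QcInd
import Groth.Agent.FlatMor68.FlatSections

/-!
# Finite flat amplitude of derived direct images

If an object of `D(O_X)` is, on every affine open, a bounded complex of quasi-coherent modules flat
over the affine base, then its derived direct image has finite flat amplitude.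
-/

set_option autoImplicit false
set_option linter.style.haveILetI false
set_option backward.isDefEq.respectTransparency.types false
set_option maxHeartbeats 1000000

noncomputable section

universe u

open CategoryTheory CategoryTheory.Limits CategoryTheory.Pretriangulated DerivedCategory AlgebraicGeometry
  TopologicalSpace
open scoped ZeroObject

attribute [local instance] HasDerivedCategory.standard

namespace Groth.Agent.QCohPush72

variable {X Y : Scheme.{u}}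

/-- Flatness over the identity is flatness. -/
theorem isFlat_of_isFlatOver_id (M : Y.Modules) (h : FlatMod.IsFlatOver (𝟙 Y) M) : FlatMod.IsFlat M := by
  intro y
  have h' := h y
  unfold FlatMod.IsFlatOverAt at h'
  unfold FlatMod.IsFlatAt
  have e : FlatMod.moduleStalkOver (𝟙 Y) M y =
      (inferInstance : Module (Y.presheaf.stalk y) (M.presheaf.stalk y)) := by
    refine Module.ext' _ _ fun r m => ?_
    change ((Scheme.Hom.stalkMap (𝟙 Y) y).hom r : Y.presheaf.stalk y) • m =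
      @HSMul.hSMul (Y.presheaf.stalk y) _ _ _ r m
    rw [Scheme.Hom.stalkMap_id]
    rfl
  rw [e] at h'
  exact h'

/-- `E` has, along `j`, a bounded model by quasi-coherent modules flat over `Y`. -/
def HasFlatModel (f : X ⟶ Y) {U : Scheme.{u}} (j : U ⟶ X) [IsOpenImmersion j] (E : DCoh.D X) : Prop :=
  ∃ (C : CochainComplex U.Modules ℤ) (a b : ℤ), DCoh.VanishesOutside C a b ∧
    (∀ i, Coh.IsQCoh (C.X i)) ∧ (∀ i, FlatMod.IsFlatOver (j ≫ f) (C.X i)) ∧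
    Nonempty (DCoh.toD U C ≅ (DCX42.resD j).obj E)

/-- `K` has finite flat amplitude. -/
def FinAmp (K : DCoh.D Y) : Prop := ∃ a b : ℤ, a ≤ b ∧ DCoh.HasFlatAmplitudeIn a b K

theorem FinAmp.of_iso {K L : DCoh.D Y} (h : FinAmp K) (e : K ≅ L) : FinAmp L := by
  obtain ⟨a, b, hab, C, h1, h2, ⟨i⟩⟩ := h
  exact ⟨a, b, hab, C, h1, h2, ⟨i ≪≫ e⟩⟩

theorem torAmp_mono {K : DCoh.D Y} {a b a' b' : ℤ} (h : DCoh.HasTorAmplitudeIn a b K) (ha : a' ≤ a) (hb : b ≤ b') :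
    DCoh.HasTorAmplitudeIn a' b' K := fun F _ i hi => h F i (by omega)

theorem FinAmp.exists_torAmp {K : DCoh.D Y} (h : FinAmp K) :
    ∃ a b : ℤ, a ≤ b ∧ DCoh.HasTorAmplitudeIn a b K := by
  obtain ⟨a, b, hab, hK⟩ := h
  exact ⟨a, b, hab, DCK91.torAmp_of_flatAmp hK⟩

theorem FinAmp.of_torAmp {K : DCoh.D Y} {a b : ℤ} (hab : a ≤ b) (h : DCoh.HasTorAmplitudeIn a b K) : FinAmp K :=
  ⟨a, b, hab, DCK91.flatAmp_of_torAmp hab h⟩

/-- Finite amplitude: middle term. -/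
theorem FinAmp.obj₂ (T : Triangle (DCoh.D Y)) (hT : T ∈ distTriang (DCoh.D Y)) (h1 : FinAmp T.obj₁)
    (h3 : FinAmp T.obj₃) : FinAmp T.obj₂ := by
  obtain ⟨a, b, hab, h1⟩ := h1.exists_torAmp
  obtain ⟨c, d, hcd, h3⟩ := h3.exists_torAmp
  exact FinAmp.of_torAmp (a := min a c) (b := max b d) (by omega)
    (DCK91.torAmp₂ hT (torAmp_mono h1 (by omega) (by omega)) (torAmp_mono h3 (by omega) (by omega)))

/-- Finite amplitude: first term. -/
theorem FinAmp.obj₁ (T : Triangle (DCoh.D Y)) (hT : T ∈ distTriang (DCoh.D Y)) (h2 : FinAmp T.obj₂)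
    (h3 : FinAmp T.obj₃) : FinAmp T.obj₁ := by
  obtain ⟨a, b, hab, h2⟩ := h2.exists_torAmp
  obtain ⟨c, d, hcd, h3⟩ := h3.exists_torAmp
  let a' := min (a - 1) c
  let b' := max b d
  exact FinAmp.of_torAmp (a := a' + 1 - 1) (b := b' + 1) (by omega)
    (torAmp_mono (DCK91.torAmp₁ (a := a') (b := b') hT
      (torAmp_mono h2 (by omega) (by omega)) (torAmp_mono h3 (by omega) (by omega))) (by omega) (by omega))

/-- Finite amplitude: sums. -/
theorem FinAmp.biprod {K L : DCoh.D Y} (hK : FinAmp K) (hL : FinAmp L) : FinAmp (K ⊞ L) :=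
  FinAmp.obj₂ (binaryBiproductTriangle K L) (binaryBiproductTriangle_distinguished K L) hK hL

/-- The affine case: the direct image of a flat model. -/
theorem finAmp_of_isAffine [IsAffine Y] {U : Scheme.{u}} [IsAffine U] (g : U ⟶ Y) [DCoh.HasRpush g]
    (C : CochainComplex U.Modules ℤ) (a b : ℤ) (hv : DCoh.VanishesOutside C a b)
    (hq : ∀ i, Coh.IsQCoh (C.X i)) (hf : ∀ i, FlatMod.IsFlatOver g (C.X i)) :
    FinAmp ((DCoh.Rpush g).obj (DCoh.toD U C)) := by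
  have hu := isIso_unit_affineHom g C hq
  let G := Scheme.Modules.pushforward g
  refine ⟨min a b, max a b, by omega, (G.mapHomologicalComplex (ComplexShape.up ℤ)).obj C,
    fun i hi => G.map_isZero (hv i (by omega)), fun i => isFlat_of_isFlatOver_id _ ?_, ⟨?_⟩⟩
  · exact (FlatMor68.FlatSections.t9349 g (𝟙 Y) (C.X i) (hq i)).1 (by rw [Category.comp_id]; exact hf i)
  · exact @asIso _ _ _ _ _ hu

/-- Finite flat amplitude of `R(j ≫ f)_*` for every open immersion with range `U`. -/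
def Good (f : X ⟶ Y) (E : DCoh.D X) (U : X.Opens) : Prop :=
  ∀ (Z : Scheme.{u}) (j : Z ⟶ X) [IsOpenImmersion j], j.opensRange = U → ∀ [DCoh.HasRpush (j ≫ f)],
    FinAmp ((DCoh.Rpush (j ≫ f)).obj ((DCX42.resD j).obj E))

theorem good_of_isAffineOpen [IsAffine Y] (f : X ⟶ Y) (E : DCoh.D X)
    (hE : ∀ (U : Scheme.{u}) (j : U ⟶ X) [IsOpenImmersion j], IsAffine U → HasFlatModel f j E)
    (U : X.Opens) (hU : IsAffineOpen U) : Good f E U := fun Z j _ hj _ => by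
  haveI : IsAffine U.toScheme := hU
  haveI : IsAffine Z := IsAffine.of_isIso (j.isoOpensRange ≪≫ X.isoOfEq hj).hom
  obtain ⟨C, a, b, hv, hq, hf, ⟨e⟩⟩ := hE Z j inferInstance
  exact (finAmp_of_isAffine (j ≫ f) C a b hv hq hf).of_iso ((DCoh.Rpush (j ≫ f)).mapIso e)

theorem good_sup (f : X ⟶ Y) (E : DCoh.D X) (U V : X.Opens) (hU : Good f E U) (hV : Good f E V)
    (hUV : Good f E (U ⊓ V)) : Good f E (U ⊔ V) := fun Z j _ hj _ => by
  have hsup : j ⁻¹ᵁ U ⊔ j ⁻¹ᵁ V = ⊤ := by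
    refine top_unique fun z _ => ?_
    have : j z ∈ U ⊔ V := hj ▸ ⟨z, rfl⟩
    exact this
  have hle : ∀ W : X.Opens, W ≤ U ⊔ V → ((j ⁻¹ᵁ W).ι ≫ j).opensRange = W := fun W hW => by
    rw [Scheme.Hom.opensRange_comp, Scheme.Opens.opensRange_ι, j.image_preimage_eq_opensRange_inf, hj]
    exact inf_eq_right.mpr hW
  have piece : ∀ W : X.Opens, W ≤ U ⊔ V → Good f E W → ∀ [DCoh.HasRpush ((j ⁻¹ᵁ W).ι ≫ j ≫ f)],
      FinAmp ((DCoh.Rpush ((j ⁻¹ᵁ W).ι ≫ j ≫ f)).obj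
        ((DCoh.restrictD (j ⁻¹ᵁ W).ι).obj ((DCX42.resD j).obj E))) := fun W hW h _ => by
    haveI : DCoh.HasRpush (((j ⁻¹ᵁ W).ι ≫ j) ≫ f) := DCX42.hasRpush _
    have h1 := h _ ((j ⁻¹ᵁ W).ι ≫ j) (hle W hW)
    have e0 : ((j ⁻¹ᵁ W).ι ≫ j) ≫ f = (j ⁻¹ᵁ W).ι ≫ j ≫ f := Category.assoc _ _ _
    have h2 : ∀ (g : (j ⁻¹ᵁ W).toScheme ⟶ Y) [DCoh.HasRpush g], ((j ⁻¹ᵁ W).ι ≫ j) ≫ f = g →
        FinAmp ((DCoh.Rpush g).obj ((DCX42.resD ((j ⁻¹ᵁ W).ι ≫ j)).obj E)) := by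
      rintro g _ rfl
      exact h1
    exact (h2 _ e0).of_iso ((DCoh.Rpush _).mapIso ((DCX42.resDComp (j ⁻¹ᵁ W).ι j).app E).symm)
  haveI := DCX42.hasRpush ((j ⁻¹ᵁ U).ι ≫ j ≫ f)
  haveI := DCX42.hasRpush ((j ⁻¹ᵁ V).ι ≫ j ≫ f)
  haveI := DCX42.hasRpush ((j ⁻¹ᵁ U ⊓ j ⁻¹ᵁ V).ι ≫ j ≫ f)
  haveI := DCX42.hasRpush (j ⁻¹ᵁ U).ι
  haveI := DCX42.hasRpush (j ⁻¹ᵁ V).ι
  haveI := DCX42.hasRpush (j ⁻¹ᵁ U ⊓ j ⁻¹ᵁ V).ι
  let E' := (DCX42.resD j).obj E
  obtain ⟨a, b, c, hT⟩ := DCX42.exists_mv_triangle (j ⁻¹ᵁ U) (j ⁻¹ᵁ V) hsup E'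
  obtain ⟨eU⟩ := DCX42.Rpush_comp (j ⁻¹ᵁ U).ι (j ≫ f)
  obtain ⟨eV⟩ := DCX42.Rpush_comp (j ⁻¹ᵁ V).ι (j ≫ f)
  obtain ⟨eW⟩ := DCX42.Rpush_comp (j ⁻¹ᵁ U ⊓ j ⁻¹ᵁ V).ι (j ≫ f)
  obtain ⟨a', b', c', hT'⟩ := DCX42.exists_triangle_push (DCoh.Rpush (j ≫ f)) (PropPush72.αu (j ≫ f))
    (PropPush72.hα (j ≫ f)) hT (Iso.refl _) (eU.app _) (eV.app _) (eW.app _)
  refine FinAmp.obj₁ _ hT' (FinAmp.biprod (piece U le_sup_left hU) (piece V le_sup_right hV)) ?_
  haveI : DCoh.HasRpush ((j ⁻¹ᵁ (U ⊓ V)).ι ≫ j ≫ f) := DCX42.hasRpush _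
  exact piece (U ⊓ V) (inf_le_left.trans le_sup_left) hUV

/-- Restriction along the identity. -/
theorem nonempty_resD_id (E : DCoh.D X) : Nonempty ((DCX42.resD (𝟙 X)).obj E ≅ E) :=
  ⟨(DCX42.resD (𝟙 X)).mapIso (DCX42.rep E).symm ≪≫ DCX42.resQ (𝟙 X) _ ≪≫
    DerivedCategory.Q.mapIso ((NatIso.mapHomologicalComplex (Scheme.Modules.restrictFunctorId (X := X))
      (ComplexShape.up ℤ)).app _) ≪≫
    DerivedCategory.Q.mapIso ((Functor.mapHomologicalComplexIdIso X.Modules (ComplexShape.up ℤ)).app _) ≪≫ DCX42.rep E⟩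

/-- Finite flat amplitude of `Rf_*` over an affine base. -/
theorem finAmp_Rpush [IsAffine Y] (f : X ⟶ Y) [CompactSpace X] [QuasiSeparatedSpace X] [DCoh.HasRpush f]
    (E : DCoh.D X)
    (hE : ∀ (U : Scheme.{u}) (j : U ⟶ X) [IsOpenImmersion j], IsAffine U → HasFlatModel f j E) :
    FinAmp ((DCoh.Rpush f).obj E) := by
  have htop : Good f E ⊤ := Coh69.qc_induction (Good f E) (good_of_isAffineOpen f E hE)
    (fun U V _ _ => good_sup f E U V) ⊤ (by simpa using isCompact_univ)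
  haveI := DCX42.hasRpush (𝟙 X ≫ f)
  have h1 := htop X (𝟙 X) (Scheme.Hom.opensRange_of_isIso _)
  have h2 : ∀ (g : X ⟶ Y) [DCoh.HasRpush g], 𝟙 X ≫ f = g →
      FinAmp ((DCoh.Rpush g).obj ((DCX42.resD (𝟙 X)).obj E)) := by
    rintro g _ rfl
    exact h1
  obtain ⟨e⟩ := nonempty_resD_id E
  exact (h2 f (Category.id_comp f)).of_iso ((DCoh.Rpush f).mapIso e)

end Groth.Agent.QCohPush72
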