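import Groth.Agent.Mod48.ModPush
import Groth.Agent.Coh69.RpushQCoh
import Groth.Agent.S0016
import Groth.Agent.DCX42.KInjPush
import Groth.Agent.DCX42.QCohPull
import Groth.Agent.PropPush72.Basic
import Groth.Agent.FMK72.Acyclic
import Groth.Agent.DerComp18.AffineSec
import Groth.Prelude.Def_FSch6

/-!
# The derived direct image along qcqs morphisms preserves quasi-coherent cohomology
-/

set_option autoImplicit false
set_option linter.style.haveILetI false
set_option backward.isDefEq.respectTransparency.types false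

noncomputable section

universe u

open CategoryTheory CategoryTheory.Limits DerivedCategory AlgebraicGeometry TopologicalSpace
open scoped ZeroObject

attribute [local instance] HasDerivedCategory.standard

namespace Groth.Agent.QCohPush72

variable {X Y : Scheme.{u}}

lemma isWeakSerre_qcoh (X : Scheme.{u}) : WSerre.IsWeakSerre (Coh.IsQCoh : ObjectProperty X.Modules) :=
  haveI : ObjectProperty.IsClosedUnderIsomorphisms (Coh.IsQCoh : ObjectProperty X.Modules) :=
    ⟨fun e h => QC70.isQuasicoherent_of_iso e h⟩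
  haveI : ObjectProperty.ContainsZero (Coh.IsQCoh : ObjectProperty X.Modules) :=
    ⟨⟨0, isZero_zero _, QC70.isQuasicoherent_of_isZero (isZero_zero _)⟩⟩
  haveI : ObjectProperty.IsClosedUnderKernels (Coh.IsQCoh : ObjectProperty X.Modules) :=
    ⟨by
      rintro _ ⟨φ, k, hk, hφ⟩
      exact QC70.isQuasicoherent_of_iso ((kernelIsKernel φ).conePointUniqueUpToIso hk)
        (@QC70.isQuasicoherent_kernel _ _ _ φ hφ.1 hφ.2)⟩
  haveI : ObjectProperty.IsClosedUnderCokernels (Coh.IsQCoh : ObjectProperty X.Modules) :=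
    ⟨by
      rintro _ ⟨φ, k, hk, hφ⟩
      haveI := hφ.1
      haveI := hφ.2
      exact QC70.isQuasicoherent_of_iso ((cokernelIsCokernel φ).coconePointUniqueUpToIso hk)
        (QC70.isQuasicoherent_cokernel φ)⟩
  haveI : ObjectProperty.IsClosedUnderExtensions (Coh.IsQCoh : ObjectProperty X.Modules) :=
    ⟨fun {S} hS h₁ h₃ => by
      haveI := h₁
      haveI := h₃
      exact QC70.isQuasicoherent_X₂ S hS⟩
  { }

/-- Uniform vanishing over the preimages of basic opens of an affine target. -/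
theorem exists_bound_basicOpen (f : X ⟶ Y) [CompactSpace X] [QuasiSeparatedSpace X] :
    ∃ d : ℕ, ∀ (F : X.Modules), Coh.IsQCoh F → ∀ k : ℕ, d ≤ k → ∀ g : Γ(Y, ⊤),
      Subsingleton (Coh69.HE (Coh.toAb F) k (f ⁻¹ᵁ Y.basicOpen g)) := by
  obtain ⟨d, hd⟩ := S0016.result X
  refine ⟨d, fun F hF k hk g => ?_⟩
  haveI := hF
  haveI := hd F hF k hk
  exact FMK72.subsingleton_HE_preimage_basicOpen f F k rfl (Coh69.hhEquiv F k).symm.toEquiv.subsingleton g

/-- The basic opens cover, inside any covering sieve. -/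
theorem basic_cover [IsAffine Y] (U : Y.Opens) : ∃ (ι : Type u) (V : ι → Y.Opens) (g : ∀ i, V i ⟶ U),
    Sieve.ofArrows V g ∈ Opens.grothendieckTopology Y U ∧
      ∀ i, V i ∈ Set.range fun a : Γ(Y, ⊤) => Y.basicOpen a := by
  refine ⟨{a : Γ(Y, ⊤) // Y.basicOpen a ≤ U}, fun a => Y.basicOpen a.1, fun a => homOfLE a.2,
    fun y hy => ?_, fun a => ⟨a.1, rfl⟩⟩
  obtain ⟨a, ha, hya⟩ := (isAffineOpen_top Y).exists_basicOpen_le (V := U) ⟨y, hy⟩ trivial
  exact ⟨Y.basicOpen a, homOfLE ha, Sieve.ofArrows_mk _ _ (⟨a, ha⟩ : {a : Γ(Y, ⊤) // Y.basicOpen a ≤ U}), hya⟩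

/-- Vanishing is invariant under isomorphisms of the source. -/
theorem vanishAbove_of_iso {A A' : X.Modules} (e : A ≅ A') {P : ObjectProperty X.Modules} {d : ℕ}
    (h : Mod48.LocGen.VanishAbove A P d) : Mod48.LocGen.VanishAbove A' P d := fun F hF m q hq x => by
  have h1 := h F hF m q hq ((singleFunctor X.Modules m).map e.hom ≫ x)
  exact (cancel_epi ((singleFunctor X.Modules m).map e.hom)).1 (h1.trans comp_zero.symm)

/-- The affine case. -/
theorem isQCohD_Rpush_affine [IsAffine Y] (f : X ⟶ Y) [QuasiCompact f] [QuasiSeparated f]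
    [DCoh.HasRpush f] (K : DCoh.D X) (hK : DCoh.IsQCohD K) : DCoh.IsQCohD ((DCoh.Rpush f).obj K) := by
  haveI : CompactSpace X := QuasiCompact.compactSpace_of_compactSpace f
  haveI : QuasiSeparatedSpace X := quasiSeparatedSpace_of_quasiSeparated f
  haveI := isWeakSerre_qcoh X
  haveI := isWeakSerre_qcoh Y
  obtain ⟨d, hd⟩ := exists_bound_basicOpen f
  have hRd : ∀ (F : X.Modules), Coh.IsQCoh F → ∀ p : ℕ, d ≤ p → IsZero ((Coh.Rpush f p).obj F) :=
    fun F hF p hp => FMK72.isZero_Rpush_of_subsingleton f F p fun U y hy => by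
      obtain ⟨a, ha, hya⟩ := (isAffineOpen_top Y).exists_basicOpen_le (V := U) ⟨y, hy⟩ trivial
      exact ⟨Y.basicOpen a, ha, hya, hd F hF p hp a⟩
  have hN : ∀ (F : X.Modules), Coh.IsQCoh F → ∀ i : ℤ, (d : ℤ) < i →
      IsZero ((homologyFunctor Y.Modules i).obj ((DCoh.Rpush f).obj ((singleFunctor X.Modules 0).obj F))) := by
    intro F hF i hi
    obtain ⟨p, rfl⟩ : ∃ p : ℕ, i = (p : ℤ) := ⟨i.toNat, by omega⟩
    obtain ⟨e⟩ := PropPush72.nonempty_HD_Rpush_inD f F p
    exact (hRd F hF p (by omega)).of_iso e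
  have hP' : ∀ (F : X.Modules), Coh.IsQCoh F → ∀ i : ℤ,
      Coh.IsQCoh ((homologyFunctor Y.Modules i).obj ((DCoh.Rpush f).obj ((singleFunctor X.Modules 0).obj F))) := by
    intro F hF i
    by_cases hi : i < 0
    · exact QC70.isQuasicoherent_of_isZero
        (DerivedCategory.isZero_of_isGE _ 0 _ hi (hX := PropPush72.isGE_Rpush f _ 0))
    · obtain ⟨p, rfl⟩ : ∃ p : ℕ, i = (p : ℤ) := ⟨i.toNat, by omega⟩
      obtain ⟨e⟩ := PropPush72.nonempty_HD_Rpush_inD f F p
      haveI : F.IsQuasicoherent := hF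
      exact QC70.isQuasicoherent_of_iso e.symm (Coh69.isQuasicoherent_rpush f F p)
  let adjf := Scheme.Modules.pullbackPushforwardAdjunction f
  haveI := adjf.isLeftAdjoint
  haveI : (Scheme.Modules.pullback f).PreservesZeroMorphisms :=
    Functor.preservesZeroMorphisms_of_isLeftAdjoint _
  intro j
  let n := ((d : ℤ) - j).toNat
  have hiso := Mod48.LocGen.isIso_homology_push_truncGEπ (A := X.Modules) (B := Y.Modules)
    (DCoh.Rpush f) (PropPush72.αu f) (PropPush72.hα f) adjf (Mod48.modGen Y.sheaf)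
    CohDer42.RdAdj.enoughKInj (Coh.IsQCoh : ObjectProperty X.Modules) (d : ℤ) hN
    (Mod48.modGen X.sheaf) {V : X.Opens | IsAffineOpen V} (Set.range fun a : Γ(Y, ⊤) => Y.basicOpen a)
    DerComp18.affine_cover
    (fun V _ => ⟨0, fun T hT => by
      obtain ⟨ι, W, g, h1, h2, h3⟩ := Mod48.exists_refinement _ DerComp18.affine_cover T hT
      refine ⟨ι, W, g, h1, h2, fun i => Mod48.vanishAbove_of_hu fun F hF k hk => ?_⟩
      obtain ⟨k, rfl⟩ : ∃ k', k = k' + 1 := ⟨k - 1, by omega⟩
      haveI := hF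
      exact Coh69.qcoh_subsingleton_HE (X := X) F (h3 i) k⟩)
    basic_cover
    (fun V _ => ⟨d, fun T hT => by
      obtain ⟨ι, W, g, h1, h2, h3⟩ := Mod48.exists_refinement _ basic_cover T hT
      refine ⟨ι, W, g, h1, h2, fun i => vanishAbove_of_iso ((ModSite.RMor.ofSchemePull f).app _)
        (Mod48.vanishAbove_pull (ModSite.RMor.ofScheme f) (W i) fun F hF k hk => ?_)⟩
      obtain ⟨a, ha⟩ := h3 i
      have h := hd F hF k hk.le a
      rwa [show Y.basicOpen a = W i from ha] at h⟩)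
    K hK n j (by omega)
  refine QC70.isQuasicoherent_of_iso (asIso ((homologyFunctor Y.Modules j).map
    ((DCoh.Rpush f).map ((TStructure.t.truncGEπ (-(n : ℤ))).app K)))).symm ?_
  refine Mod48.LocGen.homology_push_prop_of_cohInPlus (A := X.Modules) (B := Y.Modules)
    (DCoh.Rpush f) (PropPush72.αu f) (PropPush72.hα f) adjf (Mod48.modGen Y.sheaf)
    CohDer42.RdAdj.enoughKInj (Coh.IsQCoh : ObjectProperty X.Modules)
    (Coh.IsQCoh : ObjectProperty Y.Modules) hP' _ ⟨fun i => ?_, -(n : ℤ), inferInstance⟩ j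
  by_cases hi : -(n : ℤ) ≤ i
  · have := Mod48.isIso_homology_truncGEπ K (-(n : ℤ)) i hi
    exact QC70.isQuasicoherent_of_iso
      (asIso ((homologyFunctor X.Modules i).map ((TStructure.t.truncGEπ (-(n : ℤ))).app K))) (hK i)
  · exact QC70.isQuasicoherent_of_isZero (DerivedCategory.isZero_of_isGE _ (-(n : ℤ)) i (by omega))

/-- `Rf_*` along a qcqs morphism preserves quasi-coherent cohomology. -/
theorem isQCohD_Rpush (f : X ⟶ Y) [QuasiCompact f] [QuasiSeparated f]
    [DCoh.HasRpush f] (K : DCoh.D X) (hK : DCoh.IsQCohD K) : DCoh.IsQCohD ((DCoh.Rpush f).obj K) := by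
  refine DCX42.isQCohD_of_local fun y => ?_
  obtain ⟨V, hV, hy, -⟩ := exists_isAffineOpen_mem_and_subset (x := y) (U := (⊤ : Y.Opens)) trivial
  haveI : IsAffine V.toScheme := hV
  haveI := DCX42.hasRpush (f ∣_ V)
  obtain ⟨e⟩ := DCX42.nonempty_Rpush_restrict f V
  refine ⟨_, V.ι, inferInstance, by rw [Scheme.Opens.range_ι]; exact hy,
    DCX42.isQCohD_of_iso (e.app K).symm (isQCohD_Rpush_affine (f ∣_ V) _ (DCX42.isQCohD_resD hK _))⟩

end Groth.Agent.QCohPush72
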