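import Groth.Agent.QCohPush72.FlatAmp
import Groth.Agent.DCX42.Amp
import Groth.Agent.DCK91.LpullTensor
import Groth.Agent.PropPush72.Complex
import Groth.Agent.FDesc60.TensorFlat
import Groth.Agent.QCTens72.Basic

/-!
# Flat models of `E ⊗^L G` for perfect `E` and `G` flat over the base

`Rf_*(E ⊗^L G)` has finite flat amplitude over an affine base.
-/

set_option autoImplicit false
set_option linter.style.haveILetI false
set_option backward.isDefEq.respectTransparency.types false
set_option maxHeartbeats 1000000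

noncomputable section

universe u

open CategoryTheory CategoryTheory.Limits CategoryTheory.Pretriangulated DerivedCategory AlgebraicGeometry
  TopologicalSpace
open scoped ZeroObject

attribute [local instance] HasDerivedCategory.standard

namespace Groth.Agent.QCohPush72

variable {X Y : Scheme.{u}}

/-- Flatness is flatness over the identity. -/
theorem isFlatOverAt_id (M : Y.Modules) (h : FlatMod.IsFlat M) (y : Y) : FlatMod.IsFlatOverAt (𝟙 Y) M y := by
  have h' := h y
  unfold FlatMod.IsFlatOverAt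
  unfold FlatMod.IsFlatAt at h'
  have e : FlatMod.moduleStalkOver (𝟙 Y) M y =
      (inferInstance : Module (Y.presheaf.stalk y) (M.presheaf.stalk y)) := by
    refine Module.ext' _ _ fun r m => ?_
    change ((Scheme.Hom.stalkMap (𝟙 Y) y).hom r : Y.presheaf.stalk y) • m =
      @HSMul.hSMul (Y.presheaf.stalk y) _ _ _ r m
    rw [Scheme.Hom.stalkMap_id]
    rfl
  rw [e]
  exact h'

/-- Flat ⊗ flat over the base is flat over the base. -/
theorem isFlatOver_tensorRightMod {U : Scheme.{u}} (g : U ⟶ Y) (P G : U.Modules) (hP : Coh.IsQCoh P)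
    (hG : Coh.IsQCoh G) (hPf : FlatMod.IsFlat P) (hGf : FlatMod.IsFlatOver g G) :
    FlatMod.IsFlatOver g ((DCoh.tensorRightMod G).obj P) := fun x => by
  haveI : P.IsQuasicoherent := hP
  haveI : G.IsQuasicoherent := hG
  have h1 := (FDesc60.tensor_pullback_facts (𝟙 U) g P G x (isFlatOverAt_id P hPf x)).1 (hGf x)
  simp only [Category.id_comp] at h1
  refine (FlatMor68.FlatDimFun.isFlatOverAt_iff_of_iso g ?_ x).1 h1
  exact ((DCoh.tensorBi (X := U)).obj P).mapIso ((Scheme.Modules.pullbackId (X := U)).app G)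

/-- Restriction commutes with tensor products. -/
def resTensIso {U : Scheme.{u}} (j : U ⟶ X) [IsOpenImmersion j] (G : X.Modules) :
    DCoh.tensorRightMod G ⋙ Scheme.Modules.restrictFunctor j ≅
      Scheme.Modules.restrictFunctor j ⋙ DCoh.tensorRightMod ((Scheme.Modules.pullback j).obj G) :=
  Functor.isoWhiskerLeft _ (Scheme.Modules.restrictFunctorIsoPullback j) ≪≫
    (NatIso.ofComponents (fun M => (DCK91.pullTensBi j M G).symm) (fun {M M'} g => by
      change (Scheme.Modules.pullback j).map ((DCoh.tensorBi.map g).app G) ≫ (DCK91.pullTensBi j M' G).inv =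
        (DCK91.pullTensBi j M G).inv ≫ (DCoh.tensorBi.map ((Scheme.Modules.pullback j).map g)).app _
      rw [Iso.comp_inv_eq, Category.assoc, DCK91.pullTens_left, Iso.inv_hom_id_assoc]) :
      DCoh.tensorRightMod G ⋙ Scheme.Modules.pullback j ≅
        Scheme.Modules.pullback j ⋙ DCoh.tensorRightMod ((Scheme.Modules.pullback j).obj G)) ≪≫
    Functor.isoWhiskerRight (Scheme.Modules.restrictFunctorIsoPullback j).symm _

/-- A perfect object on an affine scheme is a strictly perfect complex. -/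
theorem hasPerfRep_of_isAffine {U : Scheme.{u}} [IsAffine U] {K : DCoh.D U} (hK : DCoh.IsPerfect K) :
    DCX42.HasPerfRep K := by
  obtain ⟨M, ⟨e⟩⟩ := DCX42.exists_affine_model (DCX42.isQCohD_of_isPerfect hK) (isAffineOpen_top U)
  have hM : DCX42.HasPerfRep ((DCX42.resD (isAffineOpen_top U).fromSpec).obj K) :=
    (DCX42.hasPerfRep_tildeD _ ((DCX42.isPerfect_tildeD_iff Γ(U, ⊤) M).1
      (DCX42.isPerfect_of_iso e.symm (DCX42.isPerfect_resD hK _)))).of_iso e
  obtain ⟨eid⟩ := nonempty_resD_id K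
  have hc : U.isoSpec.hom ≫ (isAffineOpen_top U).fromSpec = 𝟙 U := by
    rw [IsAffineOpen.fromSpec_top, Iso.hom_inv_id]
  exact (hM.restrict U.isoSpec.hom).of_iso ((DCX42.resDComp U.isoSpec.hom (isAffineOpen_top U).fromSpec).app K ≪≫
    (DCX42.resDCongr hc).app K ≪≫ eid)

/-- Flat models of `E ⊗^L G`. -/
theorem hasFlatModel_LTensorMod [CompactSpace X] (f : X ⟶ Y) (E : DCoh.D X) (hE : DCoh.IsPerfect E)
    (G : X.Modules) (hG : Coh.IsQCoh G) (hflat : FlatMod.IsFlatOver f G) [DCoh.HasLTensorMod G]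
    {U : Scheme.{u}} (j : U ⟶ X) [IsOpenImmersion j] [IsAffine U] :
    HasFlatModel f j ((DCoh.LTensorMod G).obj E) := by
  obtain ⟨a, b, E', hv, hfl, ⟨e⟩⟩ := PropPush72.exists_flatAmp_of_isPerfect hE
  obtain ⟨P, hP, ⟨eP⟩⟩ := hasPerfRep_of_isAffine (DCX42.isPerfect_resD hE j)
  obtain ⟨⟨c, d, hcd⟩, hPf⟩ := hP
  let G' := (Scheme.Modules.pullback j).obj G
  haveI := DCK91.hasLTensorMod G'
  obtain ⟨hK, hf⟩ := DCK91.kff_of_le E' b (fun i hi => hv i (Or.inr hi)) hfl
  let A := (DCX42.resCx j).obj E'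
  obtain ⟨hKA, hfA⟩ := DCK91.kff_of_le A b (fun i hi => (Scheme.Modules.restrictFunctor j).map_isZero (hv i (Or.inr hi)))
    (fun i => PerfAmp41.isFlat_restrict j (hfl i))
  have hflP : ∀ i, FlatMod.IsFlat (P.X i) := fun i => DCK91.flatMod_of_isFlat _ (PerfAmp41.isFinLocFree_flat (hPf i))
  obtain ⟨hKP, hfP⟩ := DCK91.kff_of_le P d (fun i hi => hcd i (Or.inr hi)) hflP
  have hG' : Coh.IsQCoh G' :=
    haveI : G.IsQuasicoherent := hG
    QCPull72.isQuasicoherent_pullback j G
  have hG'f : FlatMod.IsFlatOver (j ≫ f) G' := fun x =>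
    (FlatMor68.PullbackStalk.t9350 j f G hG x
      (RingHom.Flat.of_bijective (ConcreteCategory.bijective_of_isIso (j.stalkMap x)))).1 (hflat (j.base x))
  refine ⟨((DCoh.tensorRightMod G').mapHomologicalComplex (ComplexShape.up ℤ)).obj P, c, d,
    fun i hi => (DCoh.tensorRightMod G').map_isZero (hcd i hi), fun i => ?_,
    fun i => isFlatOver_tensorRightMod (j ≫ f) (P.X i) G' (DCX42.isQCoh_of_isFinLocFree (hPf i)) hG' (hflP i) hG'f, ⟨?_⟩⟩
  · haveI : (P.X i).IsQuasicoherent := DCX42.isQCoh_of_isFinLocFree (hPf i)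
    haveI : G'.IsQuasicoherent := hG'
    exact QCTens72.isQuasicoherent_tensorMod (P.X i) G'
  · let eA : DCoh.toD U P ≅ DCoh.toD U A := eP.symm ≪≫ (DCX42.resD j).mapIso e.symm ≪≫ DCX42.resQ j E'
    exact (DCK91.ltmIso G' P hKP hfP).symm ≪≫ (DCoh.LTensorMod G').mapIso eA ≪≫ DCK91.ltmIso G' A hKA hfA ≪≫
      DerivedCategory.Q.mapIso (HomologicalComplex.Hom.isoOfComponents (fun i => ((resTensIso j G).app (E'.X i)).symm)
        (fun i k _ => ((resTensIso j G).inv.naturality (E'.d i k)).symm) :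
        ((DCoh.tensorRightMod G').mapHomologicalComplex (ComplexShape.up ℤ)).obj A ≅
          (DCX42.resCx j).obj (((DCoh.tensorRightMod G).mapHomologicalComplex (ComplexShape.up ℤ)).obj E')) ≪≫
      (DCX42.resQ j (((DCoh.tensorRightMod G).mapHomologicalComplex (ComplexShape.up ℤ)).obj E')).symm ≪≫
      (DCX42.resD j).mapIso ((DCK91.ltmIso G E' hK hf).symm ≪≫ (DCoh.LTensorMod G).mapIso e)

/-- `Rf_*(E ⊗^L G)` has finite flat amplitude over an affine base. -/
theorem finAmp_Rpush_LTensorMod [IsAffine Y] (f : X ⟶ Y) [CompactSpace X] [QuasiSeparatedSpace X]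
    [DCoh.HasRpush f] (E : DCoh.D X) (hE : DCoh.IsPerfect E) (G : X.Modules) (hG : Coh.IsQCoh G)
    (hflat : FlatMod.IsFlatOver f G) [DCoh.HasLTensorMod G] :
    FinAmp ((DCoh.Rpush f).obj ((DCoh.LTensorMod G).obj E)) :=
  finAmp_Rpush f _ fun U j _ hU => @hasFlatModel_LTensorMod _ _ _ f E hE G hG hflat _ U j _ hU

end Groth.Agent.QCohPush72
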