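import Groth.Agent.DCX42.TildePC
import Groth.Agent.DCX42.LpullLoc
import Groth.Agent.DCX42.MVTri
import Groth.Agent.DCX42.Affine
import Groth.Agent.QCohPush72.RelPerf
import Groth.Agent.Coh69.QcInd

/-!
# Maps out of perfect objects into very connective objects vanish
-/

set_option autoImplicit false
set_option linter.style.haveILetI false
set_option backward.isDefEq.respectTransparency.types false
set_option maxHeartbeats 1000000

noncomputable section

universe u

open CategoryTheory CategoryTheory.Limits CategoryTheory.Pretriangulated DerivedCategory AlgebraicGeometry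
  TopologicalSpace
open scoped ZeroObject

attribute [local instance] HasDerivedCategory.standard

namespace Groth.Agent.QCohPush72

variable {W X : Scheme.{u}}

/-- Restriction along the identity is the identity. -/
def resDId (X : Scheme.{u}) : DCX42.resD (𝟙 X) ≅ 𝟭 (DCoh.D X) :=
  letI : Localization.Lifting Q (DCX42.qis X) (DCX42.resCx (𝟙 X) ⋙ Q) (DCX42.resD (𝟙 X)) :=
    ⟨(Scheme.Modules.restrictFunctor (𝟙 X)).mapDerivedCategoryFactors⟩
  letI : Localization.Lifting Q (DCX42.qis X) (𝟭 (CochainComplex X.Modules ℤ) ⋙ Q) (𝟭 (DCoh.D X)) :=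
    ⟨Iso.refl _⟩
  Localization.liftNatIso Q (DCX42.qis X) (DCX42.resCx (𝟙 X) ⋙ Q) (𝟭 (CochainComplex X.Modules ℤ) ⋙ Q) _ _
    (Functor.isoWhiskerRight (NatIso.mapHomologicalComplex (Scheme.Modules.restrictFunctorId (X := X))
      (ComplexShape.up ℤ) ≪≫ Functor.mapHomologicalComplexIdIso X.Modules (ComplexShape.up ℤ)) Q)

theorem eq_zero_of_resD_isIso {W' : Scheme.{u}} (g : W' ⟶ W) [IsIso g] {A B : DCoh.D W} (φ : A ⟶ B)
    (h : (DCX42.resD g).map φ = 0) : φ = 0 := by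
  let e : DCX42.resD g ⋙ DCX42.resD (inv g) ≅ 𝟭 _ :=
    DCX42.resDComp (inv g) g ≪≫ DCX42.resDCongr (IsIso.inv_hom_id g) ≪≫ resDId W
  have := e.hom.naturality φ
  rw [Functor.comp_map, h, Functor.map_zero, zero_comp] at this
  rw [Functor.id_map] at this
  rw [← cancel_epi (e.hom.app A), comp_zero]
  exact this.symm

theorem isLE_resD {V : Scheme.{u}} (j : V ⟶ X) [IsOpenImmersion j] (L : DCoh.D X) (b : ℤ) (h : L.IsLE b) :
    ((DCX42.resD j).obj L).IsLE b :=
  (DerivedCategory.isLE_iff _ _).2 fun i hi =>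
    ((Scheme.Modules.restrictFunctor j).map_isZero (DerivedCategory.isZero_of_isLE L b i hi)).of_iso
      ((Mod48.homologyMapDerivedIso (Scheme.Modules.restrictFunctor j) i).app L)

/-- The affine case. -/
theorem hom_eq_zero_spec (R : CommRingCat.{u}) (P : CochainComplex (Spec R).Modules ℤ)
    (c d : ℤ) (hv : ∀ i, (i < c ∨ d < i) → IsZero (P.X i)) (hF : ∀ i, FlatMod.IsFinLocFree (P.X i))
    (L : DCoh.D (Spec R)) (hL : DCoh.IsQCohD L) (b : ℤ) (hb : L.IsLE b) (hbc : b < c)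
    (φ : Q.obj P ⟶ L) : φ = 0 := by
  let T := (tilde.functor R).mapDerivedCategory
  obtain ⟨hfull, hfaith, hess⟩ := DCX42.tildeD_fullyFaithful_essImage R
  obtain ⟨N, ⟨eN⟩⟩ := (hess L).1 hL
  let adj := tilde.adjunction (R := R)
  let E₀ := ((moduleSpecΓFunctor (R := R)).mapHomologicalComplex (ComplexShape.up ℤ)).obj P
  have hc : ∀ i, IsIso (adj.counit.app (P.X i)) := fun i =>
    have : (P.X i).IsQuasicoherent := DCX42.isQCoh_of_isFinLocFree (hF i)
    inferInstanceAs (IsIso (Scheme.Modules.fromTildeΓ (P.X i)))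
  have : IsIso (Mod48.cxCounit adj P) := by
    have : ∀ n, IsIso ((Mod48.cxCounit adj P).f n) := hc
    exact HomologicalComplex.Hom.isIso_of_components _
  let e : T.obj (Q.obj E₀) ≅ Q.obj P :=
    (tilde.functor R).mapDerivedCategoryFactors.app E₀ ≪≫ Q.mapIso (asIso (Mod48.cxCounit adj P))
  have hE₀ : DRing.VanishesOutside (A := R) E₀ c d :=
    (DR39.vanishesOutside_iff E₀ c d).2 fun i hi => (moduleSpecΓFunctor (R := R)).map_isZero (hv i (by
      rw [Set.mem_Icc] at hi; omega))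
  have hp : ∀ i, Module.Projective R (E₀.X i) := fun i =>
    have := hc i
    ((Props58.LocFree.isFinLocFree_tilde_iff _).mp
      (DCX42.isFinLocFree_of_iso (asIso (adj.counit.app (P.X i))).symm (hF i))).2
  have hN : DR39.Acyc c N := fun i hi => by
    have hz : IsZero ((tilde.functor R).obj ((homologyFunctor (ModuleCat.{u} R) i).obj N)) :=
      (DerivedCategory.isZero_of_isLE L b i (by omega)).of_iso
        (((Mod48.homologyMapDerivedIso (tilde.functor R) i).app N).symm ≪≫ (homologyFunctor _ i).mapIso eN)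
    rw [IsZero.iff_id_eq_zero] at hz ⊢
    exact (tilde.functor R).map_injective (by rw [CategoryTheory.Functor.map_id, Functor.map_zero]; exact hz)
  obtain ⟨ψ, hψ⟩ := T.map_surjective (e.hom ≫ φ ≫ eN.inv)
  rw [DR39.hom_eq_zero_of_projective E₀ c d hE₀ hp hN ψ, Functor.map_zero] at hψ
  rw [← cancel_epi e.hom, ← cancel_mono eN.inv, comp_zero, zero_comp, Category.assoc]
  exact hψ.symm

/-- `Hom` from a family into objects in degrees `≤ N` vanishes over `U`. -/
def HomVanish {κ : Type*} (K : κ → DCoh.D X) (U : X.Opens) : Prop :=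
  ∃ N : ℤ, ∀ (W : Scheme.{u}) (j : W ⟶ X) [IsOpenImmersion j], j.opensRange = U → ∀ (k : κ) (L : DCoh.D W),
    DCoh.IsQCohD L → L.IsLE N → ∀ φ : (DCX42.resD j).obj (K k) ⟶ L, φ = 0

theorem homVanish_of_isAffineOpen {κ : Type*} (K : κ → DCoh.D X) (U : X.Opens) (hU : IsAffineOpen U) (c : ℤ)
    (hK : ∀ k, ∃ (P : CochainComplex (Spec Γ(X, U)).Modules ℤ) (d : ℤ),
      (∀ i, (i < c ∨ d < i) → IsZero (P.X i)) ∧ (∀ i, FlatMod.IsFinLocFree (P.X i)) ∧
        Nonempty ((DCX42.resD hU.fromSpec).obj (K k) ≅ Q.obj P)) :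
    HomVanish K U := by
  refine ⟨c - 1, fun W j _ hj k L hL hb φ => ?_⟩
  obtain ⟨P, d, hv, hF, ⟨e⟩⟩ := hK k
  let g : Spec Γ(X, U) ⟶ W := IsOpenImmersion.lift j hU.fromSpec (by
    rw [← Scheme.Hom.coe_opensRange, ← Scheme.Hom.coe_opensRange, hj, hU.opensRange_fromSpec])
  have hg : g ≫ j = hU.fromSpec := IsOpenImmersion.lift_fac _ _ _
  haveI : IsIso g := by
    haveI : IsOpenImmersion (g ≫ j) := by rw [hg]; infer_instance
    haveI := IsOpenImmersion.of_comp g j
    haveI : Epi g.base := (TopCat.epi_iff_surjective _).2 fun w => by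
      have hw : j.base w ∈ hU.fromSpec.opensRange := by
        rw [hU.opensRange_fromSpec, ← hj]; exact ⟨w, rfl⟩
      obtain ⟨z, hz⟩ := hw
      refine ⟨z, j.isOpenEmbedding.injective ?_⟩
      rw [← Scheme.Hom.comp_apply, hg]
      exact hz
    exact IsOpenImmersion.isIso g
  refine eq_zero_of_resD_isIso g φ ?_
  let e' : (DCX42.resD g).obj ((DCX42.resD j).obj (K k)) ≅ Q.obj P :=
    (DCX42.resDComp g j).app _ ≪≫ (DCX42.resDCongr hg).app _ ≪≫ e
  rw [← cancel_epi e'.inv, comp_zero]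
  exact hom_eq_zero_spec Γ(X, U) P c d hv hF _ (DCX42.isQCohD_resD hL g) (c - 1) (isLE_resD g L _ hb)
    (by omega) _

theorem homVanish_sup {κ : Type*} (K : κ → DCoh.D X) (U V : X.Opens) (hU : HomVanish K U) (hV : HomVanish K V)
    (hUV : HomVanish K (U ⊓ V)) : HomVanish K (U ⊔ V) := by
  obtain ⟨N₁, h₁⟩ := hU
  obtain ⟨N₂, h₂⟩ := hV
  obtain ⟨N₃, h₃⟩ := hUV
  refine ⟨min (min N₁ N₂) (N₃ - 1), fun W j _ hj k L hL hb φ => ?_⟩
  let U' := j ⁻¹ᵁ U
  let V' := j ⁻¹ᵁ V
  have hsup : U' ⊔ V' = ⊤ := by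
    rw [← Scheme.Hom.preimage_sup, ← hj, Scheme.Hom.preimage_opensRange]
  haveI := DCX42.hasRpush U'.ι
  haveI := DCX42.hasRpush V'.ι
  haveI := DCX42.hasRpush (U' ⊓ V').ι
  obtain ⟨a, b', c, hT⟩ := DCX42.exists_mv_triangle U' V' hsup L
  have hvan : ∀ (O : X.Opens), O ≤ U ⊔ V → ∀ (N : ℤ), (∀ (W : Scheme.{u}) (j : W ⟶ X) [IsOpenImmersion j],
      j.opensRange = O → ∀ (k : κ) (L : DCoh.D W),
      DCoh.IsQCohD L → L.IsLE N → ∀ φ : (DCX42.resD j).obj (K k) ⟶ L, φ = 0) →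
      ∀ (M : DCoh.D (j ⁻¹ᵁ O).toScheme), DCoh.IsQCohD M → M.IsLE N →
      ∀ χ : (DCX42.resD (j ⁻¹ᵁ O).ι).obj ((DCX42.resD j).obj (K k)) ⟶ M, χ = 0 := by
    intro O hO N hN M hM hb' χ
    have hr : ((j ⁻¹ᵁ O).ι ≫ j).opensRange = O := by
      rw [Scheme.Hom.opensRange_comp, Scheme.Opens.opensRange_ι, j.image_preimage_eq_opensRange_inf, hj]
      exact inf_eq_right.mpr hO
    let e := (DCX42.resDComp (j ⁻¹ᵁ O).ι j).app (K k)
    rw [← cancel_epi e.inv, comp_zero]
    exact hN _ ((j ⁻¹ᵁ O).ι ≫ j) hr k M hM hb' _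
  have hadj : ∀ (T : W.Opens) [DCoh.HasRpush T.ι] (A L' : DCoh.D W)
      (_ : ∀ χ : (DCX42.resD T.ι).obj A ⟶ (DCX42.resD T.ι).obj L', χ = 0)
      (ψ : A ⟶ (DCoh.Rpush T.ι).obj ((DCX42.resD T.ι).obj L')), ψ = 0 := by
    intro T _ A L' hA ψ
    haveI := DCK91.hasLpull T.ι
    obtain ⟨eL⟩ := DCX42.nonempty_Lpull_iso_resD T.ι
    let Ad := DCX42.LpullRpushAdj T.ι
    have h1 : (Ad.homEquiv _ _).symm ψ = 0 := by
      rw [← cancel_epi (eL.inv.app A), comp_zero]
      exact hA _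
    haveI := PropPush72.additive_Rpush T.ι
    rw [← (Ad.homEquiv _ _).apply_symm_apply ψ, h1, Adjunction.homEquiv_unit, Functor.map_zero, comp_zero]
  haveI := PropPush72.additive_Rpush U'.ι
  haveI := PropPush72.additive_Rpush V'.ι
  have hbN : ∀ N, min (min N₁ N₂) (N₃ - 1) ≤ N → L.IsLE N := fun N hN =>
    TStructure.t.isLE_of_le L _ N hN
  have h0 : φ ≫ a = 0 := by
    refine biprod.hom_ext _ _ ?_ ?_
    · rw [zero_comp]
      exact hadj U' _ _ (hvan U le_sup_left N₁ h₁ _ (DCX42.isQCohD_resD hL _) (isLE_resD _ L N₁ (hbN _ (by omega)))) _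
    · rw [zero_comp]
      exact hadj V' _ _ (hvan V le_sup_right N₂ h₂ _ (DCX42.isQCohD_resD hL _) (isLE_resD _ L N₂ (hbN _ (by omega)))) _
  obtain ⟨ψ, hψ⟩ := Triangle.coyoneda_exact₂ _ (inv_rot_of_distTriang _ hT) φ h0
  suffices hψ0 : ψ = 0 from hψ.trans (by rw [hψ0]; exact zero_comp)
  let G := DCX42.resD (U' ⊓ V').ι
  let R := (DCoh.Rpush (U' ⊓ V').ι).obj (G.obj L)
  let s1 := (shiftFunctorCompIsoId (DCoh.D W) (-1 : ℤ) 1 (by omega)).app R
  have hs : ψ⟦(1 : ℤ)⟧' ≫ s1.hom = 0 := by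
    refine hadj (U' ⊓ V') _ L (fun χ => ?_) _
    rw [← cancel_epi ((G.commShiftIso (1 : ℤ)).inv.app _), comp_zero]
    refine (shiftFunctor (DCoh.D _) (-1 : ℤ)).map_injective ?_
    rw [Functor.map_zero, ← cancel_epi
      ((shiftFunctorCompIsoId (DCoh.D _) (1 : ℤ) (-1) (by omega)).inv.app _), comp_zero]
    refine hvan (U ⊓ V) (inf_le_left.trans le_sup_left) N₃ h₃ _
      (DCX42.isQCohD_shift (DCX42.isQCohD_resD hL (U' ⊓ V').ι) (-1))
      (((DerivedCategory.isLE_iff _ _).2 fun i hi => ?hle)) _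
    exact (DerivedCategory.isZero_of_isLE (G.obj L) (min (min N₁ N₂) (N₃ - 1)) (i + -1) (by omega)
      (hX := isLE_resD (U' ⊓ V').ι L _ hb)).of_iso
      (((homologyFunctor _ 0).shiftIso (-1) i (i + -1) (by omega)).app (G.obj L))
  refine (shiftFunctor (DCoh.D W) (1 : ℤ)).map_injective ?_
  rw [Functor.map_zero]
  exact (cancel_mono s1.hom).1 (hs.trans zero_comp.symm)


/-- Bound for a perfect object. -/
theorem exists_hom_eq_zero_of_isPerfect [CompactSpace X] [QuasiSeparatedSpace X] (K : DCoh.D X)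
    (hK : DCoh.IsPerfect K) :
    ∃ N : ℤ, ∀ L : DCoh.D X, DCoh.IsQCohD L → L.IsLE N → ∀ φ : K ⟶ L, φ = 0 := by
  obtain ⟨N, hN⟩ := Coh69.qc_induction (HomVanish (fun _ : Unit => K))
    (fun U hU => by
      obtain ⟨P, ⟨⟨c, d, hcd⟩, hF⟩, ⟨e⟩⟩ := hasPerfRep_of_isAffine (DCX42.isPerfect_resD hK hU.fromSpec)
      exact homVanish_of_isAffineOpen _ U hU c fun _ => ⟨P, d, hcd, hF, ⟨e⟩⟩)
    (fun U V _ _ => homVanish_sup _ U V) ⊤ (by simpa using isCompact_univ)
  refine ⟨N, fun L hL hb φ => ?_⟩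
  have h := hN X (𝟙 X) (Scheme.Hom.opensRange_of_isIso _) () L hL hb (((resDId X).hom.app K) ≫ φ)
  rw [← cancel_epi ((resDId X).hom.app K), comp_zero]
  exact h

/-- Bound uniform in the finite locally free module. -/
theorem exists_hom_eq_zero_of_isFinLocFree [CompactSpace X] [QuasiSeparatedSpace X] :
    ∃ N : ℤ, ∀ (F : X.Modules), FlatMod.IsFinLocFree F → ∀ L : DCoh.D X, DCoh.IsQCohD L → L.IsLE N →
      ∀ φ : DCoh.inD X F ⟶ L, φ = 0 := by
  obtain ⟨N, hN⟩ := Coh69.qc_induction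
    (HomVanish (fun F : {F : X.Modules // FlatMod.IsFinLocFree F} => DCoh.inD X F.1))
    (fun U hU => homVanish_of_isAffineOpen _ U hU 0 fun F => by
      let j := hU.fromSpec
      let M := (Scheme.Modules.restrictFunctor j).obj F.1
      refine ⟨(CochainComplex.singleFunctor (Spec Γ(X, U)).Modules 0).obj M, 0,
        fun i hi => HomologicalComplex.isZero_single_obj_X _ _ _ _ (by omega), fun i => ?_, ⟨?_⟩⟩
      · by_cases hi : i = 0
        · subst hi
          exact DCX42.isFinLocFree_of_iso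
            (((Scheme.Modules.restrictFunctorIsoPullback j).app F.1).symm ≪≫
              (HomologicalComplex.singleObjXSelf (ComplexShape.up ℤ) 0 M).symm)
            (DCX42.isFinLocFree_pullback j F.2)
        · exact DCX42.isFinLocFree_of_isZero (HomologicalComplex.isZero_single_obj_X _ _ _ _ hi)
      · exact ((Scheme.Modules.restrictFunctor j).mapDerivedCategorySingleFunctor 0).app F.1)
    (fun U V _ _ => homVanish_sup _ U V) ⊤ (by simpa using isCompact_univ)
  refine ⟨N, fun F hF L hL hb φ => ?_⟩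
  have h := hN X (𝟙 X) (Scheme.Hom.opensRange_of_isIso _) ⟨F, hF⟩ L hL hb (((resDId X).hom.app _) ≫ φ)
  rw [← cancel_epi ((resDId X).hom.app (DCoh.inD X F)), comp_zero]
  exact h

/-- Maps out of a perfect object vanish on objects without cohomology in a range. -/
theorem exists_range_hom_eq_zero [CompactSpace X] [QuasiSeparatedSpace X] (K : DCoh.D X)
    (hK : DCoh.IsPerfect K) :
    ∃ a b : ℤ, a ≤ b ∧ ∀ L : DCoh.D X, DCoh.IsQCohD L → (∀ i : ℤ, a ≤ i → i ≤ b → IsZero (DCoh.HD L i)) →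
      ∀ φ : K ⟶ L, φ = 0 := by
  obtain ⟨N, hN⟩ := exists_hom_eq_zero_of_isPerfect K hK
  obtain ⟨a₀, d, -, hd⟩ := DCX42.isBounded_of_isPerfect hK
  refine ⟨N + 1, max (N + 1) d, le_max_left _ _, fun L hL hz φ => ?_⟩
  let G := (TStructure.t.truncGE (N + 1)).obj L
  haveI hG : G.IsGE (max (N + 1) d + 1) := (DerivedCategory.isGE_iff _ _).2 fun i hi => by
    by_cases h : N + 1 ≤ i
    · haveI := Mod48.isIso_homology_truncGEπ L (N + 1) i h
      exact (hz i h (by omega)).of_iso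
        (asIso ((homologyFunctor X.Modules i).map ((TStructure.t.truncGEπ (N + 1)).app L))).symm
    · exact DerivedCategory.isZero_of_isGE _ (N + 1) i (by omega)
  have h0 : φ ≫ (TStructure.t.truncGEπ (N + 1)).app L = 0 := by
    haveI : K.IsLE (max (N + 1) d) := TStructure.t.isLE_of_le K d _ (le_max_right _ _)
    exact TStructure.t.zero _ (max (N + 1) d) (max (N + 1) d + 1) (by omega)
  obtain ⟨ψ, hψ⟩ := Triangle.coyoneda_exact₂ _ (TStructure.t.triangleLTGE_distinguished (N + 1) L) φ h0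
  rw [hψ, hN _ ?_ ?_ ψ]
  · exact zero_comp
  · intro i
    by_cases h : i < N + 1
    · haveI := Mod48.isIso_homology_truncLTι L (N + 1) i h
      exact QC70.isQuasicoherent_of_iso
        (asIso ((homologyFunctor X.Modules i).map ((TStructure.t.truncLTι (N + 1)).app L))).symm (hL i)
    · exact QC70.isQuasicoherent_of_isZero (DerivedCategory.isZero_of_isLE _ N i (by omega)
        (hX := TStructure.t.isLE_truncLT_obj L (N + 1) N (by omega)))
  · exact TStructure.t.isLE_truncLT_obj L (N + 1) N (by omega)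

/-- Only finitely many shifts of a bounded object receive maps from a perfect one. -/
theorem finite_shifts [CompactSpace X] [QuasiSeparatedSpace X] (K : DCoh.D X) (hK : DCoh.IsPerfect K)
    (L : DCoh.D X) (a' b' : ℤ) (hL : DCoh.IsQCohD L) (ha : L.IsGE a') (hb : L.IsLE b') :
    {n : ℤ | ∃ φ : K ⟶ L⟦n⟧, φ ≠ 0}.Finite := by
  obtain ⟨N, hN⟩ := exists_hom_eq_zero_of_isPerfect K hK
  obtain ⟨a₀, d, -, hd⟩ := DCX42.isBounded_of_isPerfect hK
  refine Set.Finite.subset (Set.finite_Icc (a' - d) (b' - N)) fun n ⟨φ, hφ⟩ => ?_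
  constructor
  · by_contra h
    haveI := TStructure.t.isGE_shift L a' n (a' - n) (by omega)
    exact hφ (TStructure.t.zero φ d (a' - n) (by omega))
  · by_contra h
    haveI := TStructure.t.isLE_shift L b' n (b' - n) (by omega)
    exact hφ (hN _ (DCX42.isQCohD_shift hL n) (TStructure.t.isLE_of_le (L⟦n⟧) (b' - n) N (by omega)) φ)

end Groth.Agent.QCohPush72
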