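import Groth.Agent.QCohPush72.Main
import Groth.Agent.DCX42.Coh

/-!
# Uniform cohomological bound for the derived direct image along qcqs morphisms
-/

set_option autoImplicit false
set_option linter.style.haveILetI false
set_option backward.isDefEq.respectTransparency.types false

noncomputable section

universe u

open CategoryTheory CategoryTheory.Limits DerivedCategory AlgebraicGeometry TopologicalSpace
open scoped ZeroObject Pretriangulated

attribute [local instance] HasDerivedCategory.standard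

namespace Groth.Agent.QCohPush72

variable {X Y : Scheme.{u}}

/-- Over an affine base: a number `d` bounding the degrees of `Rf_*`, with truncations computing `Rf_*`. -/
theorem exists_bound_affine [IsAffine Y] (f : X ⟶ Y) [QuasiCompact f] [QuasiSeparated f]
    [DCoh.HasRpush f] :
    ∃ d : ℤ, (∀ (F : X.Modules), Coh.IsQCoh F → ∀ i : ℤ, d < i →
        IsZero ((homologyFunctor Y.Modules i).obj ((DCoh.Rpush f).obj ((singleFunctor X.Modules 0).obj F)))) ∧
      ∀ (K : DCoh.D X), DCoh.IsQCohD K → ∀ (n : ℕ) (j : ℤ), d - n ≤ j →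
        IsIso ((homologyFunctor Y.Modules j).map
          ((DCoh.Rpush f).map ((TStructure.t.truncGEπ (-(n : ℤ))).app K))) := by
  haveI : CompactSpace X := QuasiCompact.compactSpace_of_compactSpace f
  haveI : QuasiSeparatedSpace X := quasiSeparatedSpace_of_quasiSeparated f
  haveI := isWeakSerre_qcoh X
  obtain ⟨d, hd⟩ := exists_bound_basicOpen f
  have hN : ∀ (F : X.Modules), Coh.IsQCoh F → ∀ i : ℤ, (d : ℤ) < i →
      IsZero ((homologyFunctor Y.Modules i).obj ((DCoh.Rpush f).obj ((singleFunctor X.Modules 0).obj F))) := by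
    intro F hF i hi
    obtain ⟨p, rfl⟩ : ∃ p : ℕ, i = (p : ℤ) := ⟨i.toNat, by omega⟩
    obtain ⟨e⟩ := PropPush72.nonempty_HD_Rpush_inD f F p
    exact (FMK72.isZero_Rpush_of_subsingleton f F p fun U y hy => by
      obtain ⟨a, ha, hya⟩ := (isAffineOpen_top Y).exists_basicOpen_le (V := U) ⟨y, hy⟩ trivial
      exact ⟨Y.basicOpen a, ha, hya, hd F hF p (by omega) a⟩).of_iso e
  let adjf := Scheme.Modules.pullbackPushforwardAdjunction f
  haveI := adjf.isLeftAdjoint
  haveI : (Scheme.Modules.pullback f).PreservesZeroMorphisms :=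
    Functor.preservesZeroMorphisms_of_isLeftAdjoint _
  refine ⟨d, hN, fun K hK n j hj => ?_⟩
  exact Mod48.LocGen.isIso_homology_push_truncGEπ (A := X.Modules) (B := Y.Modules)
    (DCoh.Rpush f) (PropPush72.αu f) (PropPush72.hα f) adjf (Mod48.modGen Y.sheaf)
    CohDer42.RdAdj.enoughKInj (Coh.IsQCoh : ObjectProperty X.Modules) (d : ℤ) hN
    (Mod48.modGen X.sheaf) {V : X.Opens | IsAffineOpen V} (Set.range fun a : Γ(Y, ⊤) => Y.basicOpen a)
    DerComp18.affine_cover
    (fun V _ => ⟨0, fun T hT => by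
      obtain ⟨ι, W, g, h1, h2, h3⟩ := Mod48.exists_refinement _ DerComp18.affine_cover T hT
      refine ⟨ι, W, g, h1, h2, fun i => Mod48.vanishAbove_of_hu fun F hF k hk => ?_⟩
      obtain ⟨k, rfl⟩ : ∃ k', k = k' + 1 := ⟨k - 1, by omega⟩
      haveI := hF
      exact Coh69.qcoh_subsingleton_HE (X := X) F (h3 i) k⟩)
    basic_cover
    (fun V _ => ⟨d, fun T hT => by
      obtain ⟨ι, W, g, h1, h2, h3⟩ := Mod48.exists_refinement _ basic_cover T hT
      refine ⟨ι, W, g, h1, h2, fun i => vanishAbove_of_iso ((ModSite.RMor.ofSchemePull f).app _)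
        (Mod48.vanishAbove_pull (ModSite.RMor.ofScheme f) (W i) fun F hF k hk => ?_)⟩
      obtain ⟨a, ha⟩ := h3 i
      have h := hd F hF k hk.le a
      rwa [show Y.basicOpen a = W i from ha] at h⟩)
    K hK n j hj

/-- `Rf_*` has bounded amplitude on objects with quasi-coherent cohomology. -/
theorem isZero_HD_Rpush_of_bound (f : X ⟶ Y) [DCoh.HasRpush f] (d : ℤ)
    (hN : ∀ (F : X.Modules), Coh.IsQCoh F → ∀ i : ℤ, d < i →
      IsZero ((homologyFunctor Y.Modules i).obj ((DCoh.Rpush f).obj ((singleFunctor X.Modules 0).obj F))))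
    (htr : ∀ (K : DCoh.D X), DCoh.IsQCohD K → ∀ (n : ℕ) (j : ℤ), d - n ≤ j →
      IsIso ((homologyFunctor Y.Modules j).map
        ((DCoh.Rpush f).map ((TStructure.t.truncGEπ (-(n : ℤ))).app K))))
    (K : DCoh.D X) (hK : DCoh.IsQCohD K) (b : ℤ) (hb : K.IsLE b) (j : ℤ) (hj : b + d < j) :
    IsZero (DCoh.HD ((DCoh.Rpush f).obj K) j) := by
  let adjf := Scheme.Modules.pullbackPushforwardAdjunction f
  haveI := adjf.isLeftAdjoint
  haveI : (Scheme.Modules.pullback f).PreservesZeroMorphisms :=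
    Functor.preservesZeroMorphisms_of_isLeftAdjoint _
  let n := (d - j).toNat + (-b).toNat
  haveI := htr K hK n j (by omega)
  refine IsZero.of_iso ?_ (asIso ((homologyFunctor Y.Modules j).map
    ((DCoh.Rpush f).map ((TStructure.t.truncGEπ (-(n : ℤ))).app K))))
  haveI := Mod48.LocGen.preservesZeroMorphisms_push (A := X.Modules) (B := Y.Modules) (DCoh.Rpush f)
    (PropPush72.αu f) (PropPush72.hα f) CohDer42.RdAdj.enoughKInj j
  let S : ObjectProperty (DCoh.D X) := fun Z =>
    IsZero ((homologyFunctor Y.Modules j).obj ((DCoh.Rpush f).obj Z))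
  haveI : S.IsClosedUnderIsomorphisms :=
    ⟨fun e h => h.of_iso ((homologyFunctor Y.Modules j).mapIso ((DCoh.Rpush f).mapIso e)).symm⟩
  have hz : ∀ Z, IsZero Z → S Z := fun Z hZ => ((DCoh.Rpush f) ⋙ homologyFunctor Y.Modules j).map_isZero hZ
  change S _
  refine Mod48.bounded_induction S hz (fun T hT h₁ h₃ => ?_) (b + n + 1).toNat (-(n : ℤ)) _ inferInstance
    (TStructure.t.isLE_of_le _ b _ (by omega)) fun q => ?_
  · obtain ⟨w, e⟩ := Mod48.LocGen.exact_homology_push (A := X.Modules) (B := Y.Modules) (DCoh.Rpush f)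
      (PropPush72.αu f) (PropPush72.hα f) adjf (Mod48.modGen Y.sheaf) CohDer42.RdAdj.enoughKInj T hT j
    exact e.isZero_X₂ (IsZero.eq_of_src h₁ _ _) (IsZero.eq_of_tgt h₃ _ _)
  · by_cases hq : -(n : ℤ) ≤ q ∧ q ≤ b
    · haveI := Mod48.isIso_homology_truncGEπ K (-(n : ℤ)) q hq.1
      obtain ⟨e⟩ := Mod48.LocGen.nonempty_homology_push_single_iso (A := X.Modules) (B := Y.Modules)
        (DCoh.Rpush f) (PropPush72.αu f) (PropPush72.hα f) CohDer42.RdAdj.enoughKInj
        ((homologyFunctor X.Modules q).obj ((TStructure.t.truncGE (-(n : ℤ))).obj K)) q j (j - q) (by omega)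
      exact (hN _ (QC70.isQuasicoherent_of_iso (asIso ((homologyFunctor X.Modules q).map
        ((TStructure.t.truncGEπ (-(n : ℤ))).app K))) (hK q)) _ (by omega)).of_iso e
    · refine hz _ ((singleFunctor X.Modules q).map_isZero ?_)
      by_cases h : q < -(n : ℤ)
      · exact DerivedCategory.isZero_of_isGE _ (-(n : ℤ)) q h
      · exact DerivedCategory.isZero_of_isLE _ b q (by omega)

/-- Over an affine base. -/
theorem exists_isZero_HD_Rpush_affine [IsAffine Y] (f : X ⟶ Y) [QuasiCompact f] [QuasiSeparated f]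
    [DCoh.HasRpush f] :
    ∃ d : ℤ, ∀ (K : DCoh.D X), DCoh.IsQCohD K → ∀ b : ℤ, K.IsLE b → ∀ j : ℤ, b + d < j →
      IsZero (DCoh.HD ((DCoh.Rpush f).obj K) j) := by
  obtain ⟨d, hN, htr⟩ := exists_bound_affine f
  exact ⟨d, isZero_HD_Rpush_of_bound f d hN htr⟩

/-- Uniform bound over a quasi-compact base. -/
theorem exists_isZero_HD_Rpush (f : X ⟶ Y) [QuasiCompact f] [QuasiSeparated f] [CompactSpace Y]
    [DCoh.HasRpush f] :
    ∃ d : ℤ, ∀ (K : DCoh.D X), DCoh.IsQCohD K → ∀ b : ℤ, K.IsLE b → ∀ j : ℤ, b + d < j →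
      IsZero (DCoh.HD ((DCoh.Rpush f).obj K) j) := by
  choose V hV hy _ using fun y : Y =>
    exists_isAffineOpen_mem_and_subset (x := y) (U := (⊤ : Y.Opens)) trivial
  have key : ∀ y, ∃ d : ℤ, ∀ (K : DCoh.D X), DCoh.IsQCohD K → ∀ b : ℤ, K.IsLE b → ∀ j : ℤ, b + d < j →
      IsZero ((Scheme.Modules.restrictFunctor (V y).ι).obj (DCoh.HD ((DCoh.Rpush f).obj K) j)) := by
    intro y
    haveI : IsAffine (V y).toScheme := hV y
    haveI := DCX42.hasRpush (f ∣_ V y)
    obtain ⟨e⟩ := DCX42.nonempty_Rpush_restrict f (V y)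
    obtain ⟨d, hd⟩ := exists_isZero_HD_Rpush_affine (f ∣_ V y)
    refine ⟨d, fun K hK b hb j hj => ?_⟩
    refine (hd _ (DCX42.isQCohD_resD hK (f ⁻¹ᵁ V y).ι) b (DCX42.isLE_map (Scheme.Modules.restrictFunctor (f ⁻¹ᵁ V y).ι) hb) j hj).of_iso ?_
    exact ((Mod48.homologyMapDerivedIso (Scheme.Modules.restrictFunctor (V y).ι) j).app _).symm ≪≫
      (homologyFunctor _ j).mapIso (e.app K)
  choose d hd using key
  obtain ⟨t, ht⟩ := IsCompact.elim_finite_subcover isCompact_univ (fun y => (V y : Set Y))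
    (fun y => (V y).2) fun y _ => Set.mem_iUnion.mpr ⟨y, hy y⟩
  obtain ⟨D, hD⟩ := (t.finite_toSet.image d).bddAbove
  refine ⟨D, fun K hK b hb j hj => DCX42.isZero_of_local _ fun z => ?_⟩
  obtain ⟨y, hyt, hz⟩ := Set.mem_iUnion₂.mp (ht (Set.mem_univ z))
  exact ⟨V y, hz, hd y K hK b hb j (by have := hD ⟨y, hyt, rfl⟩; omega)⟩

end Groth.Agent.QCohPush72
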