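import Groth.Agent.CohDer42.SubRes
import Groth.Agent.QC70.InjEnvelope
import Groth.Agent.QCohPush72.Bound

/-!
# Quasi-coherent representatives on locally Noetherian schemes
-/

set_option autoImplicit false
set_option linter.style.haveILetI false
set_option backward.isDefEq.respectTransparency.types false

noncomputable section

universe u

open CategoryTheory CategoryTheory.Limits DerivedCategory AlgebraicGeometry
open scoped ZeroObject

attribute [local instance] HasDerivedCategory.standard

namespace Groth.Agent.QCohPush72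

variable {X : Scheme.{u}}

theorem subResHyp_qcoh [IsLocallyNoetherian X] :
    CohDer42.SubResHyp (Coh.IsQCoh (X := X)) fun M => Coh.IsQCoh M ∧ Injective M where
  iso e h := QC70.isQuasicoherent_of_iso e h
  zero := ⟨0, isZero_zero _, QC70.isQuasicoherent_of_isZero (isZero_zero _), (isZero_zero X.Modules).injective⟩
  le _ h := h.1
  emb {M Z} i hi hM := by
    haveI : M.IsQuasicoherent := hM
    obtain ⟨H, j, hj, hH, hinj⟩ := QC70.exists_qcoh_injective_hull M
    haveI := hinj
    refine ⟨H, Injective.factorThru j i, ⟨hH, hinj⟩, ?_⟩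
    rw [Injective.comp_factorThru]
    exact hj
  coker {A B} f _ hA hB := by
    haveI := isWeakSerre_qcoh X
    exact ObjectProperty.prop_cokernel (P := (Coh.IsQCoh : ObjectProperty X.Modules)) f hA hB
  ext S hS h₁ h₃ := by
    haveI : S.X₁.IsQuasicoherent := h₁
    haveI : S.X₃.IsQuasicoherent := h₃
    exact QC70.isQuasicoherent_X₂ S hS

/-- Bounded below objects with quasi-coherent cohomology are complexes of quasi-coherent modules. -/
theorem exists_qc_rep [IsLocallyNoetherian X] (C : DCoh.D X) (hC : DCoh.IsQCohD C) (a : ℤ) [C.IsGE a] :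
    ∃ K : CochainComplex X.Modules ℤ, (∀ n, Coh.IsQCoh (K.X n)) ∧ Nonempty (DCoh.toD X K ≅ C) := by
  let M := DerivedCategory.Q.objPreimage C
  let e : DCoh.toD X M ≅ C := DerivedCategory.Q.objObjPreimageIso C
  have hh : ∀ i, DCoh.HD C i ≅ M.homology i := fun i =>
    (homologyFunctor X.Modules i).mapIso e.symm ≪≫ (homologyFunctorFactors X.Modules i).app M
  haveI : M.IsGE a := (CochainComplex.isGE_iff _ _).2 fun i hi =>
    (HomologicalComplex.exactAt_iff_isZero_homology _ _).2
      ((DerivedCategory.isZero_of_isGE C a i hi).of_iso (hh i).symm)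
  obtain ⟨L, α, -, hL, hα⟩ := CohDer42.exists_subResolution' M subResHyp_qcoh a fun i =>
    QC70.isQuasicoherent_of_iso (hh i) (hC i)
  haveI : IsIso (Q.map α) := (isIso_Q_map_iff_quasiIso _ _).2 hα
  exact ⟨L, fun n => (hL n).1, ⟨(asIso (Q.map α)).symm ≪≫ e⟩⟩

end Groth.Agent.QCohPush72
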