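import Groth.Agent.QCohPush72.AffineUnit

/-!
# `Rf_*` along an affine morphism is conservative on objects with quasi-coherent cohomology
-/

set_option autoImplicit false
set_option linter.style.haveILetI false
set_option backward.isDefEq.respectTransparency.types false

noncomputable section

universe u

open CategoryTheory CategoryTheory.Limits CategoryTheory.Pretriangulated DerivedCategory AlgebraicGeometry
  TopologicalSpace
open scoped ZeroObject

attribute [local instance] HasDerivedCategory.standard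

namespace Groth.Agent.QCohPush72

variable {X Y : Scheme.{u}}

/-- A quasi-coherent module with zero direct image along an affine morphism is zero. -/
theorem isZero_of_isZero_pushforward (f : X ⟶ Y) [IsAffineHom f] (M : X.Modules) (hM : Coh.IsQCoh M)
    (h : IsZero ((Scheme.Modules.pushforward f).obj M)) : IsZero M := by
  haveI : M.IsQuasicoherent := hM
  refine QC70.isZero_of_support_eq_empty (Set.eq_empty_iff_forall_notMem.mpr fun p hp => hp ?_)
  obtain ⟨V, hV, hpV, -⟩ := exists_isAffineOpen_mem_and_subset (x := f p) (U := (⊤ : Y.Opens)) trivial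
  have hU : IsAffineOpen (f ⁻¹ᵁ V) := hV.preimage f
  have hs : Subsingleton Γ(M, f ⁻¹ᵁ V) := subsingleton_of_forall_eq 0 fun s =>
    show (show Γ((Scheme.Modules.pushforward f).obj M, V) from s) = 0 from
      congr((Scheme.Modules.Hom.app $(h.eq_of_src (𝟙 _) 0) V) s)
  refine subsingleton_of_forall_eq 0 fun e => ?_
  obtain ⟨g, t, hg, hgt⟩ := QC70.stalk_exists_smul (QC70.isLocAt_of_isQuasicoherent M hU) hU hpV e
  rw [← (QC70.isUnit_germ hg).smul_eq_zero, hgt, Subsingleton.elim t 0, QC70.germM_zero]

/-- Top cohomology: `f_* H^j(C)` is a quotient of `H^j(Rf_* C)` for `C ∈ D_QCoh` bounded above by `j`. -/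
theorem isZero_top_of_isZero_Rpush (f : X ⟶ Y) [IsAffineHom f] [DCoh.HasRpush f] (C : DCoh.D X)
    (hC : DCoh.IsQCohD C) (j : ℤ) (hj : C.IsLE j)
    (h : IsZero (DCoh.HD ((DCoh.Rpush f).obj C) j)) : IsZero (DCoh.HD C j) := by
  haveI := isWeakSerre_qcoh X
  refine isZero_of_isZero_pushforward f _ (hC j) ?_
  let t : Triangulated.TStructure (DCoh.D X) := TStructure.t
  haveI : t.IsLE ((t.truncGE j).obj C) j := by
    haveI : t.IsLE C j := hj
    infer_instance
  obtain ⟨M, ⟨eM⟩⟩ := exists_iso_singleFunctor_obj_of_isGE_of_isLE ((t.truncGE j).obj C) j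
  have := Mod48.isIso_homology_truncGEπ C j j le_rfl
  let eH : DCoh.HD C j ≅ M :=
    asIso ((homologyFunctor X.Modules j).map ((t.truncGEπ j).app C)) ≪≫
      (homologyFunctor X.Modules j).mapIso eM ≪≫ (singleFunctorCompHomologyFunctorIso X.Modules j).app M
  have hW : ((t.truncLT j).obj C).IsLE (j - 1) := t.isLE_truncLT_obj C j (j - 1) (by omega)
  have hWq : DCoh.IsQCohD ((t.truncLT j).obj C) := fun i => by
    by_cases hi : i < j
    · have := Mod48.isIso_homology_truncLTι C j i hi
      exact QC70.isQuasicoherent_of_iso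
        (asIso ((homologyFunctor X.Modules i).map ((t.truncLTι j).app C))).symm (hC i)
    · exact QC70.isQuasicoherent_of_isZero (DerivedCategory.isZero_of_isLE _ (j - 1) i (by omega))
  obtain ⟨c, hT⟩ := PropPush72.exists_distinguished f _ (t.triangleLTGE_distinguished j C)
  have hz : IsZero (DCoh.HD ((DCoh.Rpush f).obj ((t.truncGE j).obj C)) j) :=
    (HomologySequence.exact₃ _ hT j (j + 1) rfl).isZero_X₂ (h.eq_of_src _ _)
      ((isZero_HD_Rpush_affineHom f _ hWq (j - 1) hW (j + 1) (by omega)).eq_of_tgt _ _)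
  obtain ⟨e1⟩ := PropPush72.nonempty_HD_Rpush_single f M j j ((0 : ℕ) : ℤ) (by simp)
  obtain ⟨e2⟩ := PropPush72.nonempty_HD_Rpush_inD f M 0
  refine hz.of_iso ((Scheme.Modules.pushforward f).mapIso eH ≪≫ ?_)
  haveI : PreservesFiniteLimits (Scheme.Modules.pushforward f) :=
    have := (Scheme.Modules.pullbackPushforwardAdjunction f).isRightAdjoint
    inferInstance
  exact ((homologyFunctor Y.Modules j).mapIso ((DCoh.Rpush f).mapIso eM) ≪≫ e1 ≪≫ e2 ≪≫
    ((Scheme.Modules.pushforward f).rightDerivedZeroIsoSelf).app M).symm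

/-- An object of `D_QCoh` killed by `Rf_*` along an affine morphism is zero. -/
theorem isZero_of_isZero_Rpush (f : X ⟶ Y) [IsAffineHom f] [DCoh.HasRpush f] (C : DCoh.D X)
    (hC : DCoh.IsQCohD C) (h : IsZero ((DCoh.Rpush f).obj C)) : IsZero C := by
  refine Mod48.isZero_of_isZero_homology fun j => ?_
  let t : Triangulated.TStructure (DCoh.D X) := TStructure.t
  have hV : DCoh.IsQCohD ((t.truncLT (j + 1)).obj C) := fun i => by
    by_cases hi : i < j + 1
    · have := Mod48.isIso_homology_truncLTι C (j + 1) i hi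
      exact QC70.isQuasicoherent_of_iso
        (asIso ((homologyFunctor X.Modules i).map ((t.truncLTι (j + 1)).app C))).symm (hC i)
    · exact QC70.isQuasicoherent_of_isZero
        (DerivedCategory.isZero_of_isLE ((t.truncLT (j + 1)).obj C) j i (by omega)
          (hX := t.isLE_truncLT_obj C (j + 1) j (by omega)))
  obtain ⟨c, hT⟩ := PropPush72.exists_distinguished f _ (t.triangleLTGE_distinguished (j + 1) C)
  have hz : IsZero (DCoh.HD ((DCoh.Rpush f).obj ((t.truncLT (j + 1)).obj C)) j) := by
    have hg := PropPush72.isGE_Rpush f ((t.truncGE (j + 1)).obj C) (j + 1)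
    exact (HomologySequence.exact₁ _ hT (j - 1) j (by omega)).isZero_X₂
      ((DerivedCategory.isZero_of_isGE _ (j + 1) (j - 1) (by omega) (hX := hg)).eq_of_src _ _)
      (((homologyFunctor Y.Modules j).map_isZero h).eq_of_tgt _ _)
  have := Mod48.isIso_homology_truncLTι C (j + 1) j (by omega)
  exact (isZero_top_of_isZero_Rpush f _ hV j (t.isLE_truncLT_obj C (j + 1) j (by omega)) hz).of_iso
    (asIso ((homologyFunctor X.Modules j).map ((t.truncLTι (j + 1)).app C))).symm

/-- `Rf_*` along an affine morphism reflects isomorphisms of `D_QCoh`. -/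
theorem isIso_of_isIso_Rpush (f : X ⟶ Y) [IsAffineHom f] [DCoh.HasRpush f] {E F : DCoh.D X}
    (hE : DCoh.IsQCohD E) (hF : DCoh.IsQCohD F) (α : E ⟶ F)
    (hα : IsIso ((DCoh.Rpush f).map α)) : IsIso α := by
  haveI := isWeakSerre_qcoh X
  obtain ⟨C, β, γ, hT⟩ := distinguished_cocone_triangle α
  have hC : DCoh.IsQCohD C := fun i =>
    Mod48.prop_homology_obj₂ (Coh.IsQCoh : ObjectProperty X.Modules) _ (rot_of_distTriang _ hT) hF
      (fun k => QC70.isQuasicoherent_of_iso
        (((homologyFunctor X.Modules 0).shiftIso (1 : ℤ) k (k + 1) (by omega)).app E).symm (hE (k + 1))) i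
  obtain ⟨c, hT'⟩ := PropPush72.exists_distinguished f _ hT
  have h3 : IsZero ((DCoh.Rpush f).obj C) := (Triangle.isZero₃_iff_isIso₁ _ hT').2 hα
  exact (Triangle.isZero₃_iff_isIso₁ _ hT).1 (isZero_of_isZero_Rpush f C hC h3)

end Groth.Agent.QCohPush72
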