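import Groth.Agent.QCohPush72.ProperPushPC
import Groth.Agent.PropPush72.Basic

/-!
# The Noetherian model: `Rf₀_*(E₀ ⊗^L F₀)` is pseudo-coherent
-/

set_option autoImplicit false
set_option linter.style.haveILetI false
set_option backward.isDefEq.respectTransparency.types false

noncomputable section

universe u

open CategoryTheory CategoryTheory.Limits CategoryTheory.Pretriangulated DerivedCategory AlgebraicGeometry

attribute [local instance] HasDerivedCategory.standard

namespace Groth.Agent.QCohPush72

variable {X₀ S₀ : Scheme.{u}}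

/-- Direct images of bounded above coherent complexes are pseudo-coherent when the
cohomology is supported in a closed subset proper over the base. -/
theorem isPC_Rpush_of_isCohD [IsAffine S₀] [IsLocallyNoetherian S₀] (f : X₀ ⟶ S₀) [LocallyOfFiniteType f]
    [QuasiCompact f] [DCoh.HasRpush f] (K : DCoh.D X₀) (hK : DCoh.IsCohD K) (b : ℤ) (hb : K.IsLE b)
    (Z : Set X₀) (hZ : ClSub.IsProperOver f Z) (hs : ∀ i, CohB1.support (DCoh.HD K i) ⊆ Z) (m : ℤ) :
    DCoh.IsPseudoCoherentD m ((DCoh.Rpush f).obj K) := by
  haveI := LocallyOfFiniteType.isLocallyNoetherian f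
  obtain ⟨c, hc⟩ := exists_isZero_HD_Rpush_affine f
  let k := m - c
  let t : Triangulated.TStructure (DCoh.D X₀) := TStructure.t
  haveI : t.IsLE K b := hb
  let K' := (t.truncGE k).obj K
  let W := (t.truncLT k).obj K
  have hT := t.triangleLTGE_distinguished k K
  have hW : W.IsLE (k - 1) := t.isLE_truncLT_obj K k (k - 1) (by omega)
  have hK' : DCoh.IsCohD K' := fun j => by
    by_cases hj : k ≤ j
    · have := Mod48.isIso_homology_truncGEπ K k j hj
      exact QC70.isCoh_of_iso (asIso ((homologyFunctor X₀.Modules j).map ((t.truncGEπ k).app K))) (hK j)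
    · exact QC70.isCoh_of_isZero (DerivedCategory.isZero_of_isGE K' k j (by omega)
        (hX := (inferInstance : t.IsGE K' k)))
  have hWq : DCoh.IsQCohD W := fun j => by
    by_cases hj : j < k
    · have := Mod48.isIso_homology_truncLTι K k j hj
      exact QC70.isQuasicoherent_of_iso (asIso ((homologyFunctor X₀.Modules j).map ((t.truncLTι k).app K))).symm (hK j).1
    · exact QC70.isQuasicoherent_of_isZero (DerivedCategory.isZero_of_isLE W (k - 1) j (by omega) (hX := hW))
  obtain ⟨h1, h2⟩ := PropPush72.isCohD_Rpush_bounded f K' k b (inferInstance : t.IsGE K' k)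
    (inferInstance : t.IsLE K' b) hK' fun i => by
      haveI : (DCoh.HD K' i).IsFiniteType := (hK' i).2
      refine Coh69.PO.mono hZ (QC70.isClosed_support _) ?_
      by_cases hi : k ≤ i
      · have := Mod48.isIso_homology_truncGEπ K k i hi
        exact (QC70.mem_support_of_epi ((homologyFunctor X₀.Modules i).map ((t.truncGEπ k).app K))).trans (hs i)
      · intro z hz
        refine absurd hz (QC70.notMem_support_iff.2 ?_)
        exact AddCommGrpCat.subsingleton_of_isZero ((TopCat.Presheaf.stalkFunctor AddCommGrpCat.{u} z).map_isZero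
          ((Scheme.Modules.toPresheaf X₀).map_isZero (DerivedCategory.isZero_of_isGE K' k i (by omega)
            (hX := (inferInstance : t.IsGE K' k)))))
  obtain ⟨b', hb'⟩ := h2 inferInstance
  obtain ⟨c', hT'⟩ := PropPush72.exists_distinguished f _ hT
  have hle : ((DCoh.Rpush f).obj W).IsLE (m - 1) :=
    (DerivedCategory.isLE_iff _ _).2 fun j hj => hc W hWq (k - 1) hW j (by omega)
  exact DCX42.isPC₂ _ hT' (DCX42.isPC_of_isLE hle) (HTor49.isPC_of_isCohD _ h1 hb' m)

end Groth.Agent.QCohPush72
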