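import Groth.Agent.QCohPush72.FlatEpi
import Groth.Agent.HTor49.Loc
import Mathlib.Algebra.Homology.DerivedCategory.ShortExact
import Mathlib.Algebra.Homology.HomotopyCategory.Triangulated

/-!
# Finite flat quasi-coherent approximations
-/

set_option autoImplicit false
set_option linter.style.haveILetI false
set_option backward.isDefEq.respectTransparency.types false

noncomputable section

universe u

open CategoryTheory CategoryTheory.Limits CategoryTheory.Pretriangulated DerivedCategory AlgebraicGeometry
open scoped ZeroObject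

attribute [local instance] HasDerivedCategory.standard

namespace Groth.Agent.QCohPush72

variable {X : Scheme.{u}}

/-- A quasi-coherent module is approximated, to any order, by a finite complex of flat quasi-coherent
modules. -/
theorem exists_flat_approx [CompactSpace X]
    (hd : ∀ V W : X.Opens, IsAffineOpen V → IsAffineOpen W → IsAffineOpen (V ⊓ W)) :
    ∀ (n : ℕ) (F : X.Modules), Coh.IsQCoh F →
      ∃ (P : CochainComplex X.Modules ℤ) (ε : P ⟶ (HomologicalComplex.single X.Modules (ComplexShape.up ℤ) 0).obj F)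
        (R : DCoh.D X) (v : Q.obj ((HomologicalComplex.single X.Modules (ComplexShape.up ℤ) 0).obj F) ⟶ R)
        (w : R ⟶ (Q.obj P)⟦(1 : ℤ)⟧),
        (∀ i : ℤ, (i ≤ -(n : ℤ) ∨ 0 < i) → IsZero (P.X i)) ∧ (∀ i, Coh.IsQCoh (P.X i)) ∧
        (∀ i, FlatMod.IsFlat (P.X i)) ∧ Triangle.mk (Q.map ε) v w ∈ distTriang (DCoh.D X) ∧ R.IsLE (-(n : ℤ)) := by
  intro n
  induction n with
  | zero =>
    intro F _
    let S₀ := (HomologicalComplex.single X.Modules (ComplexShape.up ℤ) 0).obj F
    have hz : IsZero (0 : CochainComplex X.Modules ℤ) := isZero_zero _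
    have hzX : ∀ i : ℤ, IsZero ((0 : CochainComplex X.Modules ℤ).X i) := fun i =>
      (HomologicalComplex.eval X.Modules (ComplexShape.up ℤ) i).map_isZero hz
    refine ⟨0, 0, Q.obj S₀, 𝟙 _, 0, fun i _ => hzX i, fun i => QC70.isQuasicoherent_of_isZero (hzX i),
      fun i x => ?_, ?_, ?_⟩
    · haveI : Subsingleton ((DCK91.SP x).obj ((0 : CochainComplex X.Modules ℤ).X i)) :=
        ModuleCat.subsingleton_of_isZero ((DCK91.SP x).map_isZero (hzX i))
      exact (inferInstance : Module.Flat (X.presheaf.stalk x) ((DCK91.SP x).obj ((0 : CochainComplex X.Modules ℤ).X i)))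
    · refine isomorphic_distinguished _ (contractible_distinguished₁ (Q.obj S₀)) _ ?_
      exact Triangle.isoMk _ _ (IsZero.iso (Q.map_isZero hz) (isZero_zero _)) (Iso.refl _) (Iso.refl _)
        ((Q.map_isZero hz).eq_of_src _ _) ((Category.id_comp _).trans (Category.comp_id _).symm) (zero_comp.trans comp_zero.symm)
    · exact ⟨S₀, Iso.refl _, (CochainComplex.isStrictlyLE_iff _ _).2 fun i hi =>
        HomologicalComplex.isZero_single_obj_X _ _ _ _ (by simp at hi ⊢; omega)⟩
  | succ n ih =>
    intro F hF
    obtain ⟨P₀, π, hP₀, hP₀f, hπ⟩ := exists_flat_qc_epi hd F hF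
    haveI : P₀.IsQuasicoherent := hP₀
    haveI : F.IsQuasicoherent := hF
    obtain ⟨P, ε, R, v, w, hv, hq, hf, hT, hR⟩ := ih (kernel π) (QC70.isQuasicoherent_kernel π)
    let sgl := HomologicalComplex.single X.Modules (ComplexShape.up ℤ) 0
    let S : ShortComplex X.Modules := ShortComplex.mk (kernel.ι π) π (kernel.condition π)
    have hS : S.ShortExact :=
      { exact := ShortComplex.exact_of_f_is_kernel _ (kernelIsKernel π)
        mono_f := inferInstance
        epi_g := hπ }
    have hS' := hS.map_of_exact sgl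
    let ι' := sgl.map (kernel.ι π)
    let T := CochainComplex.mappingConeCompTriangle ε ι'
    have hTQ : Q.mapTriangle.obj T ∈ distTriang (DCoh.D X) :=
      isomorphic_distinguished _ (Qh.map_distinguished _
        (HomotopyCategory.mappingConeCompTriangleh_distinguished ε ι')) _
        ((Functor.mapTriangleIso (quotientCompQhIso X.Modules).symm).app T ≪≫
          (Functor.mapTriangleCompIso _ _).app T)
    have hε := DerivedCategory.mappingCone_triangle_distinguished ε
    let eR : Q.obj (CochainComplex.mappingCone ε) ≅ R :=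
      Triangle.π₃.mapIso (isoTriangleOfIso₁₂ (Q.mapTriangle.obj (CochainComplex.mappingCone.triangle ε)) _
        hε hT (Iso.refl _) (Iso.refl _) (by simp; rfl))
    let ε' : CochainComplex.mappingCone (ε ≫ ι') ⟶ sgl.obj F :=
      CochainComplex.mappingCone.map (ε ≫ ι') ι' ε (𝟙 _) (by simp) ≫
        CochainComplex.mappingCone.descShortComplex (S.map sgl)
    have hd' : IsIso (Q.map (CochainComplex.mappingCone.descShortComplex (S.map sgl))) :=
      (isIso_Q_map_iff_quasiIso _ _).2 (CochainComplex.mappingCone.quasiIso_descShortComplex hS')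
    let eF : Q.obj (CochainComplex.mappingCone ι') ≅ Q.obj (sgl.obj F) :=
      @asIso _ _ _ _ (Q.map (CochainComplex.mappingCone.descShortComplex (S.map sgl))) hd'
    have hT' := rot_of_distTriang _ hTQ
    refine ⟨CochainComplex.mappingCone (ε ≫ ι'), ε', (Q.obj (CochainComplex.mappingCone ε))⟦(1 : ℤ)⟧,
      eF.inv ≫ (Q.mapTriangle.obj T).mor₃, -(Q.mapTriangle.obj T).mor₁⟦(1 : ℤ)⟧',
      fun i hi => ?_, fun i => ?_, fun i => ?_, ?_, ?_⟩
    · refine IsZero.of_iso ?_ (HomologicalComplex.homotopyCofiber.XIsoBiprod (ε ≫ ι') i (i + 1) rfl)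
      refine (biprod_isZero_iff _ _).2 ⟨hv _ (by push_cast at hi; omega), ?_⟩
      exact HomologicalComplex.isZero_single_obj_X _ _ _ _ (by push_cast at hi; omega)
    · refine QC70.isQuasicoherent_of_iso (HomologicalComplex.homotopyCofiber.XIsoBiprod (ε ≫ ι') i (i + 1) rfl).symm
        (HTor49.isQCoh_biprod (hq _) ?_)
      by_cases hi : i = 0
      · subst hi
        exact QC70.isQuasicoherent_of_iso (HomologicalComplex.singleObjXSelf (ComplexShape.up ℤ) 0 P₀).symm hP₀
      · exact QC70.isQuasicoherent_of_isZero (HomologicalComplex.isZero_single_obj_X _ _ _ _ hi)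
    · intro x
      let C := StalkExact41.flatAtClass x
      refine C.of_iso (HomologicalComplex.homotopyCofiber.XIsoBiprod (ε ≫ ι') i (i + 1) rfl).symm ?_
      have h1 : C.P (P.X (i + 1)) := hf _ x
      have h2 : C.P (((sgl.obj P₀)).X i) := by
        by_cases hi : i = 0
        · subst hi
          exact C.of_iso (HomologicalComplex.singleObjXSelf (ComplexShape.up ℤ) 0 P₀).symm (hP₀f x)
        · exact C.of_isZero (HomologicalComplex.isZero_single_obj_X _ _ _ _ hi)
      exact C.X₂ _ (ShortComplex.Splitting.ofHasBinaryBiproduct _ _).shortExact h1 h2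
    · refine isomorphic_distinguished _ hT' _
        (Triangle.isoMk _ _ (Iso.refl _) eF.symm (Iso.refl _) ?_ ?_ ?_)
      · exact (congrArg (· ≫ eF.inv) (Q.map_comp _ _)).trans (((Category.assoc _ _ _).trans
          ((congrArg _ eF.hom_inv_id).trans (Category.comp_id _))).trans (Category.id_comp _).symm)
      · exact Category.comp_id _
      · exact (congrArg (fun t => _ ≫ t) ((shiftFunctor (DCoh.D X) (1 : ℤ)).map_id _)).trans
          ((Category.comp_id _).trans (Category.id_comp _).symm)
    · haveI := hR
      haveI : (Q.obj (CochainComplex.mappingCone ε)).IsLE (-(n : ℤ)) := TStructure.t.isLE_of_iso eR.symm _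
      exact TStructure.t.isLE_shift (Q.obj (CochainComplex.mappingCone ε)) (-(n : ℤ)) 1 _ (by push_cast; omega)

end Groth.Agent.QCohPush72
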