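import Groth.Agent.QCohPush72.AffineUnit
import Groth.Agent.DCX42.CoprodH
import Groth.Agent.Coh69.ColimCohRel
import Groth.Agent.SiteMod.FreeCompact
import Groth.Agent.FMK72.Coproduct
import Groth.Agent.TopCoh49.Coh

/-!
# `Rf_*` commutes with coproducts of uniformly bounded below objects (qcqs `f`)
-/

set_option autoImplicit false
set_option linter.style.haveILetI false
set_option backward.isDefEq.respectTransparency.types false
set_option maxHeartbeats 1000000

noncomputable section

universe u

open CategoryTheory CategoryTheory.Limits CategoryTheory.Pretriangulated DerivedCategory AlgebraicGeometry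
  TopologicalSpace Opposite
open scoped ZeroObject

attribute [local instance] HasDerivedCategory.standard

namespace Groth.Agent.QCohPush72

variable {X Y : Scheme.{u}}

/-- Coproducts exist in `D(O_X)`. -/
theorem hasCoproduct_D {ι : Type u} (K : ι → DCoh.D X) : HasCoproduct K := by
  obtain ⟨hc⟩ := DCX42.nonempty_isColimit_Q fun i => DerivedCategory.Q.objPreimage (K i)
  have : HasCoproduct fun i => DerivedCategory.Q.obj (DerivedCategory.Q.objPreimage (K i)) := ⟨⟨⟨_, hc⟩⟩⟩
  exact hasColimit_of_iso (F := Discrete.functor fun i => DerivedCategory.Q.obj (DerivedCategory.Q.objPreimage (K i)))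
    (G := Discrete.functor K) (Discrete.natIso fun i => (DerivedCategory.Q.objObjPreimageIso (K i.as)).symm)

/-- Cohomology over a relatively compact open of a sum vanishes if that of each summand does. -/
theorem subsingleton_HE_coprod {ι : Type u} (M : ι → X.Modules) {U : X.Opens} (hU : IsCompact (U : Set X))
    (hqs : IsQuasiSeparated (U : Set X)) (q : ℕ) (h : ∀ j, Subsingleton (Coh69.HE (Coh.toAb (M j)) q U)) :
    Subsingleton (Coh69.HE (Coh.toAb (∐ M)) q U) := by
  haveI : PrespectralSpace X.toTopCat := PrespectralSpace.of_isTopologicalBasis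
    X.isBasis_affineOpens (by rintro _ ⟨U, hU, rfl⟩; exact hU.isCompact)
  let T := SheafOfModules.toSheaf.{u} X.ringCatSheaf
  let G : CohTop.Ab X.toTopCat ⥤ AddCommGrpCat.{u} :=
    (Sheaf.cohomologyPresheafFunctor (Opens.grothendieckTopology X) q).flip.obj (op U)
  have hmap : ∀ {P Q : CohTop.Ab X.toTopCat} (g : P ⟶ Q) (x : TopCoh49.E P q U),
      G.map g x = x.comp (Abelian.Ext.mk₀ g) (add_zero q) :=
    fun g x => TopCoh49.flip_extFunctor_map_app (TopCoh49.freeFun X.toTopCat) q g U x
  haveI : G.Additive := ⟨fun {P Q f g} => by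
    ext x
    refine (hmap (f + g) x).trans ?_
    rw [Abelian.Ext.mk₀_add, Abelian.Ext.comp_add]
    exact (congrArg₂ (· + ·) (hmap f x) (hmap g x)).symm⟩
  have hG : ∀ (K : Type u) [SmallCategory K] [IsFiltered K], PreservesColimitsOfShape K G :=
    fun K _ _ => Coh69.ColimRel.colim_HU (X := X.toTopCat) U
      (fun A B hA hB => ⟨hqs A.carrier B.carrier hA.2 A.isOpen hA.1 hB.2 B.isOpen hB.1,
        inf_le_left.trans hA.2⟩) hU le_rfl q
  haveI : PreservesColimitsOfShape (Discrete ι) T :=
    Mod48.toSheaf_preservesColimitsOfShape (O := X.sheaf) (Discrete ι)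
  have hs : Subsingleton (G.obj (∐ fun j => T.obj (M j))) := by
    refine subsingleton_of_forall_eq 0 fun x => ?_
    obtain ⟨S, hS⟩ := SiteMod.exists_sum_of_filtered G hG (fun j => T.obj (M j)) x
    rw [hS]
    refine Finset.sum_eq_zero fun k _ => ?_
    haveI : Subsingleton (G.obj (T.obj (M k))) := h k
    rw [Subsingleton.elim (G.map _ x) 0, map_zero]
  exact (G.mapIso (PreservesCoproduct.iso T M)).addCommGroupIsoToAddEquiv.toEquiv.subsingleton

/-- Sums of injective modules are acyclic for qcqs direct images. -/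
theorem isZero_Rpush_coprod_injective (f : X ⟶ Y) [QuasiCompact f] [QuasiSeparated f] {ι : Type u}
    (M : ι → X.Modules) (hM : ∀ i, Injective (M i)) (q : ℕ) (hq : 0 < q) :
    IsZero ((Coh.Rpush f q).obj (∐ M)) := by
  obtain ⟨k, rfl⟩ : ∃ k, q = k + 1 := ⟨q - 1, by omega⟩
  refine FMK72.isZero_Rpush_of_subsingleton f _ (k + 1) fun U y hy => ?_
  obtain ⟨V, hV, hyV, hVU⟩ := exists_isAffineOpen_mem_and_subset (x := y) (U := U) hy
  haveI : IsAffine (V : Scheme.{u}) := hV
  haveI : QuasiSeparatedSpace (f ⁻¹ᵁ V : X.Opens) := quasiSeparatedSpace_of_quasiSeparated (f ∣_ V)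
  refine ⟨V, hVU, hyV, subsingleton_HE_coprod M
    (QuasiCompact.isCompact_preimage (f := f) _ V.isOpen hV.isCompact)
    ((isQuasiSeparated_iff_quasiSeparatedSpace _ (f ⁻¹ᵁ V).isOpen).mpr ‹_›) (k + 1) fun j => ?_⟩
  haveI := hM j
  haveI := GSS45.isFlasque_toAb_of_surjective (M j) (fun i => @SiteMod.restriction_surjective _ _ _ X.ringCatSheaf (M j) (hM j) _ _ i inferInstance)
  exact TopCoh49.subsingleton_E_of_isFlasque k (Coh.toAb (M j)) _

/-- A bounded below object is represented by a bounded below complex of injectives. -/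
theorem exists_injective_model (K : DCoh.D X) (a : ℤ) [K.IsGE a] :
    ∃ I : CochainComplex X.Modules ℤ, I.IsStrictlyGE a ∧ (∀ n, Injective (I.X n)) ∧
      Nonempty (DerivedCategory.Q.obj I ≅ K) := by
  obtain ⟨L, hL, ⟨e⟩⟩ := DerivedCategory.exists_iso_Q_obj_of_isGE K a
  obtain ⟨I, hI, s, hs⟩ := CochainComplex.Plus.exists_quasiIso_injective
    (C := X.Modules) ⟨L, ⟨a, inferInstance⟩⟩ a
  let J := (InjectiveObject.ι X.Modules).mapCochainComplexPlus.obj I
  have hsQ : QuasiIso s.hom := hs
  haveI : IsIso (DerivedCategory.Q.map s.hom) := by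
    rw [DerivedCategory.isIso_Q_map_iff_quasiIso]
    exact hsQ
  exact ⟨J.obj, (CochainComplex.isStrictlyGE_mapHomologicalComplex_obj_iff _ _ _).2 hI,
    fun n => inferInstanceAs (Injective ((InjectiveObject.ι X.Modules).obj (I.obj.X n))),
    ⟨(asIso (DerivedCategory.Q.map s.hom)).symm ≪≫ e.symm⟩⟩

/-- `Q` turns coproduct cofans of complexes into coproduct cofans. -/
theorem nonempty_isColimit_Q_cofan {ι : Type u} (I : ι → CochainComplex X.Modules ℤ) {P : CochainComplex X.Modules ℤ}
    (g : ∀ i, I i ⟶ P) (hg : IsColimit (Cofan.mk P g)) :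
    Nonempty (IsColimit (Cofan.mk (DerivedCategory.Q.obj P) fun i => DerivedCategory.Q.map (g i))) := by
  obtain ⟨hc⟩ := DCX42.nonempty_isColimit_Q I
  let e := (coproductIsCoproduct I).coconePointUniqueUpToIso hg
  refine ⟨hc.ofIsoColimit (Cofan.ext (DerivedCategory.Q.mapIso e) fun i => ?_)⟩
  change DerivedCategory.Q.map (Sigma.ι I i) ≫ DerivedCategory.Q.map e.hom = DerivedCategory.Q.map (g i)
  rw [← Functor.map_comp]
  exact congrArg _ ((coproductIsCoproduct I).comp_coconePointUniqueUpToIso_hom hg ⟨i⟩)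

/-- `Rf_*` preserves coproducts of uniformly bounded below families. -/
theorem preservesColimit_Rpush_of_isGE (f : X ⟶ Y) [QuasiCompact f] [QuasiSeparated f] [DCoh.HasRpush f]
    {ι : Type u} (K : ι → DCoh.D X) (a : ℤ) (hK : ∀ i, (K i).IsGE a) :
    PreservesColimit (Discrete.functor K) (DCoh.Rpush f) := by
  choose I hIge hIinj e using fun i => have := hK i; exists_injective_model (K i) a
  suffices h : PreservesColimit (Discrete.functor fun i => DerivedCategory.Q.obj (I i)) (DCoh.Rpush f) from
    preservesColimit_of_iso_diagram (DCoh.Rpush f)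
      (Discrete.natIso fun i => (e i.as).some :
        (Discrete.functor fun i => DerivedCategory.Q.obj (I i)) ≅ Discrete.functor K)
  obtain ⟨hc⟩ := DCX42.nonempty_isColimit_Q I
  let G := Scheme.Modules.pushforward f
  haveI := FMK72.preservesCoproducts_pushforward f ι
  let GC := G.mapHomologicalComplex (ComplexShape.up ℤ)
  obtain ⟨hd⟩ := nonempty_isColimit_Q_cofan (fun i => GC.obj (I i)) _
    (isColimitCofanMkObjOfIsColimit GC I _ (coproductIsCoproduct I))
  refine preservesColimit_of_preserves_colimit_cocone hc ((isColimitMapCoconeCofanMkEquiv _ _ _).symm ?_)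
  haveI : (∐ I).IsStrictlyGE a := by
    rw [CochainComplex.isStrictlyGE_iff]
    intro n hn
    refine IsZero.of_iso ?_ (asIso (sigmaComparison (HomologicalComplex.eval X.Modules (ComplexShape.up ℤ) n) I)).symm
    rw [IsZero.iff_id_eq_zero]
    exact Sigma.hom_ext _ _ fun i => (haveI := hIge i; (I i).isZero_of_isStrictlyGE a n hn).eq_of_src _ _
  have hu : IsIso ((PropPush72.αu f).app ((HomotopyCategory.quotient X.Modules (ComplexShape.up ℤ)).obj (∐ I))) := by
    refine isIso_unit_of_isStrictlyGE f (∐ I) a fun n q hq => ?_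
    exact (isZero_Rpush_coprod_injective f (fun i => (I i).X n) (fun i => hIinj i n) q hq).of_iso
      ((Coh.Rpush f q).mapIso
        (asIso (sigmaComparison (HomologicalComplex.eval X.Modules (ComplexShape.up ℤ) n) I)).symm)
  have hui : ∀ i, IsIso ((PropPush72.αu f).app ((HomotopyCategory.quotient X.Modules (ComplexShape.up ℤ)).obj (I i))) :=
    fun i => by
      haveI := hIge i
      haveI := hIinj i
      exact PropPush72.hα f (I i) (CochainComplex.isKInjective_of_injective (I i) a)
  refine (IsColimit.equivOfNatIsoOfIso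
    (Discrete.natIso fun i => @asIso _ _ _ _
      ((PropPush72.αu f).app ((HomotopyCategory.quotient X.Modules (ComplexShape.up ℤ)).obj (I i.as))) (hui i.as) :
      (Discrete.functor fun i => DerivedCategory.Q.obj (GC.obj (I i))) ≅
        Discrete.functor fun i => (DCoh.Rpush f).obj (DerivedCategory.Q.obj (I i)))
    _ _ (Cofan.ext (@asIso _ _ _ _ _ hu) fun i => ?_)) hd
  change (inv ((PropPush72.αu f).app ((HomotopyCategory.quotient X.Modules (ComplexShape.up ℤ)).obj (I i))) ≫
    DerivedCategory.Q.map (GC.map (Sigma.ι I i))) ≫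
      (PropPush72.αu f).app ((HomotopyCategory.quotient X.Modules (ComplexShape.up ℤ)).obj (∐ I)) =
    (DCoh.Rpush f).map (DerivedCategory.Q.map (Sigma.ι I i))
  rw [Category.assoc, IsIso.inv_comp_eq]
  exact (PropPush72.αu f).naturality ((HomotopyCategory.quotient X.Modules (ComplexShape.up ℤ)).map (Sigma.ι I i))

end Groth.Agent.QCohPush72
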