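import Groth.Agent.QCohPush72.Replacement

/-!
# Quasi-coherent replacements with bounded amplitude
-/

set_option autoImplicit false
set_option linter.style.haveILetI false
set_option backward.isDefEq.respectTransparency.types false
set_option maxHeartbeats 1000000

noncomputable section

universe u

open CategoryTheory CategoryTheory.Limits CategoryTheory.Pretriangulated DerivedCategory AlgebraicGeometry
  TopologicalSpace
open scoped ZeroObject

attribute [local instance] HasDerivedCategory.standard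

namespace Groth.Agent.QCohPush72

variable {X : Scheme.{u}}

instance additive_secAb (U : X.Opens) : (Univ70.secAb U).Additive := ⟨fun {_ _ _ _} => rfl⟩

/-- Replacements of biproducts. -/
theorem hasRepl_biprod {K L : DCoh.D X} {a c : ℤ} (hK : HasRepl K a c) (hL : HasRepl L a c) :
    HasRepl (K ⊞ L) a c := by
  obtain ⟨Q₁, ε₁, q1, g1, l1, r1⟩ := hK
  obtain ⟨Q₂, ε₂, q2, g2, l2, r2⟩ := hL
  have hT := binaryBiproductTriangle_distinguished Q₁ Q₂
  haveI := isWeakSerre_qcoh X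
  refine ⟨Q₁ ⊞ Q₂, biprod.map ε₁ ε₂, fun i => Mod48.prop_homology_obj₂ (Coh.IsQCoh : ObjectProperty X.Modules) _ hT q1 q2 i,
    TStructure.t.isGE₂ _ hT a g1 g2, TStructure.t.isLE₂ _ hT c l1 l2, fun P hP => ⟨fun g g' hg => ?_, fun z => ?_⟩⟩
  · refine biprod.hom_ext _ _ ((r1 P hP).1 ?_) ((r2 P hP).1 ?_)
    · simpa using congrArg (· ≫ biprod.fst) hg
    · simpa using congrArg (· ≫ biprod.snd) hg
  · obtain ⟨g₁, h₁⟩ := (r1 P hP).2 (z ≫ biprod.fst)
    obtain ⟨g₂, h₂⟩ := (r2 P hP).2 (z ≫ biprod.snd)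
    refine ⟨biprod.lift g₁ g₂, ?_⟩
    apply biprod.hom_ext
    · simpa using h₁
    · simpa using h₂

/-- The sections of a complex over all affine opens have cohomology in `[a, b]`. -/
def SectBound (I : CochainComplex X.Modules ℤ) (a b : ℤ) : Prop :=
  ∀ U : X.Opens, IsAffineOpen U → ∀ i : ℤ, (i < a ∨ b < i) →
    IsZero ((((Univ70.secAb U).mapHomologicalComplex (ComplexShape.up ℤ)).obj I).homology i)

/-- Sections of a restriction. -/
def restrictGammaIso {W : Scheme.{u}} (j : W ⟶ X) [IsOpenImmersion j] (U : X.Opens) (h : j ''ᵁ ⊤ = U) :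
    Scheme.Modules.restrictFunctor j ⋙ Univ70.secAb (⊤ : W.Opens) ≅ Univ70.secAb U :=
  NatIso.ofComponents (fun M => M.restrictAppIso j ⊤ ≪≫ M.presheaf.mapIso (eqToIso h).op.symm) fun {M N} φ => by
    subst h
    simp
    rfl

/-- The affine case. -/
theorem hasRepl_spec (R : CommRingCat.{u}) (K : DCoh.D (Spec R)) (I : CochainComplex (Spec R).Modules ℤ)
    (hI : I.IsKInjective) (e : Q.obj I ≅ K) (a b : ℤ)
    (h : ∀ i : ℤ, (i < a ∨ b < i) →
      IsZero ((((Univ70.secAb (⊤ : (Spec R).Opens)).mapHomologicalComplex (ComplexShape.up ℤ)).obj I).homology i)) :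
    HasRepl K a b := by
  let T := (tilde.functor R).mapDerivedCategory
  obtain ⟨hfull, hfaith, hess⟩ := DCX42.tildeD_fullyFaithful_essImage R
  let G := CohDer42.RdAdj.rd (moduleSpecΓFunctor (R := R))
  let α := CohDer42.RdAdj.rdUnit (moduleSpecΓFunctor (R := R))
  let adj := CohDer42.RdAdj.adjRF (tilde.adjunction (R := R)) G α
  refine ⟨T.obj (G.obj K), adj.counit.app K, DCX42.isQCohD_tildeD R _, ?_, ?_, fun P hP => ?_⟩
  rotate_left 2
  · obtain ⟨M, ⟨eM⟩⟩ := (hess P).1 hP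
    have hfun : (fun g : P ⟶ T.obj (G.obj K) => g ≫ adj.counit.app K) =
        (fun z : T.obj M ⟶ K => eM.inv ≫ z) ∘ (adj.homEquiv M K).symm ∘
          ((Functor.FullyFaithful.ofFullyFaithful T).homEquiv).symm ∘ (fun g => eM.hom ≫ g) := by
      funext g
      simp only [Function.comp_apply, Adjunction.homEquiv_counit]
      rw [show T.map (((Functor.FullyFaithful.ofFullyFaithful T).homEquiv).symm (eM.hom ≫ g)) = eM.hom ≫ g from
        ((Functor.FullyFaithful.ofFullyFaithful T).homEquiv).apply_symm_apply _]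
      simp
    rw [hfun]
    refine Function.Bijective.comp (Function.bijective_iff_has_inverse.2
      ⟨fun z => eM.hom ≫ z, fun z => by simp, fun z => by simp⟩) ((Equiv.bijective _).comp ((Equiv.bijective _).comp ?_))
    exact Function.bijective_iff_has_inverse.2 ⟨fun z => eM.inv ≫ z, fun z => by simp, fun z => by simp⟩
  all_goals
    have key : ∀ i, (i < a ∨ b < i) → IsZero ((homologyFunctor (Spec R).Modules i).obj (T.obj (G.obj K))) := by
      intro i hi
      refine IsZero.of_iso ?_ ((Mod48.homologyMapDerivedIso (tilde.functor R) i).app (G.obj K))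
      refine (tilde.functor R).map_isZero ?_
      haveI := Mod48.isIso_unit_of_kInjective G α CohDer42.RdAdj.enoughKInj I hI
      let C := ((moduleSpecΓFunctor (R := R)).mapHomologicalComplex (ComplexShape.up ℤ)).obj I
      let e1 : G.obj K ≅ Q.obj C := G.mapIso (e.symm ≪≫ ((quotientCompQhIso _).app I).symm) ≪≫
        (asIso (α.app ((HomotopyCategory.quotient _ (ComplexShape.up ℤ)).obj I))).symm ≪≫
        DerivedCategory.Qh.mapIso (((moduleSpecΓFunctor (R := R)).mapHomotopyCategoryFactors (ComplexShape.up ℤ)).app I) ≪≫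
        (quotientCompQhIso _).app C
      refine IsZero.of_iso ?_ ((homologyFunctor _ i).mapIso e1 ≪≫ (homologyFunctorFactors _ i).app C)
      let F := forget₂ (ModuleCat.{u} R) AddCommGrpCat.{u}
      have hz : IsZero (F.obj (C.homology i)) :=
        (h i hi).of_iso ((C.sc i).mapHomologyIso F).symm
      exact ModuleCat.isZero_of_iff_subsingleton.mpr (AddCommGrpCat.subsingleton_of_isZero hz)
  · exact (DerivedCategory.isGE_iff _ _).2 fun i hi => key i (Or.inl hi)
  · exact (DerivedCategory.isLE_iff _ _).2 fun i hi => key i (Or.inr hi)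

/-- `Rj_*(K|W)` has replacements of bounded amplitude, for `j` with image `U`. -/
def ReplBound (U : X.Opens) : Prop :=
  ∀ (W : Scheme.{u}) (j : W ⟶ X) [IsOpenImmersion j] [DCoh.HasRpush j], j.opensRange = U →
    ∃ N : ℕ, ∀ (I : CochainComplex X.Modules ℤ), I.IsKInjective → ∀ a b : ℤ, SectBound I a b →
      HasRepl ((DCoh.Rpush j).obj ((DCX42.resD j).obj (Q.obj I))) a (b + N)

theorem exists_push_bound {W : Scheme.{u}} (j : W ⟶ X) [CompactSpace X] [QuasiCompact j] [QuasiSeparated j]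
    [DCoh.HasRpush j] :
    ∃ n : ℕ, ∀ (L : DCoh.D W), DCoh.IsQCohD L → ∀ b : ℤ, L.IsLE b → ∀ i : ℤ, b + (n : ℤ) < i →
      IsZero (DCoh.HD ((DCoh.Rpush j).obj L) i) := by
  obtain ⟨d, hd⟩ := exists_isZero_HD_Rpush j
  exact ⟨d.toNat, fun L hL b hb i hi => hd L hL b hb i (by omega)⟩

theorem replBound_of_isAffineOpen [CompactSpace X] [QuasiSeparatedSpace X] (U : X.Opens) (hU : IsAffineOpen U) :
    ReplBound U := by
  intro W j _ _ hj
  let g : Spec Γ(X, U) ⟶ W := IsOpenImmersion.lift j hU.fromSpec (by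
    rw [← Scheme.Hom.coe_opensRange, ← Scheme.Hom.coe_opensRange, hj, hU.opensRange_fromSpec])
  have hg : g ≫ j = hU.fromSpec := IsOpenImmersion.lift_fac _ _ _
  haveI : IsIso g := by
    haveI : IsOpenImmersion (g ≫ j) := by rw [hg]; infer_instance
    haveI := IsOpenImmersion.of_comp g j
    haveI : Epi g.base := (TopCat.epi_iff_surjective _).2 fun w => by
      have hw : j.base w ∈ hU.fromSpec.opensRange := by
        rw [hU.opensRange_fromSpec, ← hj]; exact ⟨w, rfl⟩
      obtain ⟨z, hz⟩ := hw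
      refine ⟨z, j.isOpenEmbedding.injective ?_⟩
      rw [← Scheme.Hom.comp_apply, hg]
      exact hz
    exact IsOpenImmersion.isIso g
  haveI := DCX42.hasRpush hU.fromSpec
  obtain ⟨n, hn⟩ := exists_push_bound hU.fromSpec
  refine ⟨n, fun I hI a b h => ?_⟩
  refine HasRepl.of_iso ?_ (nonempty_pushRes_congr j g hU.fromSpec hg (Q.obj I)).some
  refine hasRepl_push hU.fromSpec _ n hn ?_
  refine hasRepl_spec Γ(X, U) _ ((DCX42.resCx hU.fromSpec).obj I)
    (DCX42.isKInjective_restrict _ I hI) (DCX42.resQ _ I).symm a b fun i hi => ?_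
  refine (h U hU i hi).of_iso ((HomologicalComplex.homologyFunctor _ _ i).mapIso
    (HomologicalComplex.Hom.isoOfComponents
      (fun p => (restrictGammaIso hU.fromSpec U (by
        rw [Scheme.Hom.image_top_eq_opensRange, hU.opensRange_fromSpec])).app (I.X p))
      (fun p q _ => ((restrictGammaIso hU.fromSpec U _).hom.naturality (I.d p q)).symm)))

theorem replBound_sup [CompactSpace X] [QuasiSeparatedSpace X] (U V : X.Opens) (hU : ReplBound U) (hV : ReplBound V)
    (hUV : ReplBound (U ⊓ V)) : ReplBound (U ⊔ V) := by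
  intro W j _ _ hj
  let U' := j ⁻¹ᵁ U
  let V' := j ⁻¹ᵁ V
  have hsup : U' ⊔ V' = ⊤ := by
    rw [← Scheme.Hom.preimage_sup, ← hj, Scheme.Hom.preimage_opensRange]
  haveI := DCX42.hasRpush U'.ι
  haveI := DCX42.hasRpush V'.ι
  haveI := DCX42.hasRpush (U' ⊓ V').ι
  have piece : ∀ (O : X.Opens), O ≤ U ⊔ V → ReplBound O → ∀ [DCoh.HasRpush (j ⁻¹ᵁ O).ι],
      ∃ N : ℕ, ∀ (I : CochainComplex X.Modules ℤ), I.IsKInjective → ∀ a b : ℤ, SectBound I a b →
        HasRepl ((DCoh.Rpush j).obj ((DCoh.Rpush (j ⁻¹ᵁ O).ι).obj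
          ((DCX42.resD (j ⁻¹ᵁ O).ι).obj ((DCX42.resD j).obj (Q.obj I))))) a (b + N) := by
    intro O hO h _
    have hr : ((j ⁻¹ᵁ O).ι ≫ j).opensRange = O := by
      rw [Scheme.Hom.opensRange_comp, Scheme.Opens.opensRange_ι, j.image_preimage_eq_opensRange_inf, hj]
      exact inf_eq_right.mpr hO
    haveI := DCX42.hasRpush ((j ⁻¹ᵁ O).ι ≫ j)
    obtain ⟨N, hN⟩ := h _ ((j ⁻¹ᵁ O).ι ≫ j) hr
    obtain ⟨ec⟩ := DCX42.Rpush_comp (j ⁻¹ᵁ O).ι j
    refine ⟨N, fun I hI a b hb => HasRepl.of_iso (hN I hI a b hb) ?_⟩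
    exact (DCoh.Rpush _).mapIso ((DCX42.resDComp (j ⁻¹ᵁ O).ι j).app _).symm ≪≫ (ec.app _).symm
  obtain ⟨N₁, h₁⟩ := piece U le_sup_left hU
  obtain ⟨N₂, h₂⟩ := piece V le_sup_right hV
  obtain ⟨N₃, h₃⟩ := @piece (U ⊓ V) (inf_le_left.trans le_sup_left) hUV
    (DCX42.hasRpush (j ⁻¹ᵁ (U ⊓ V)).ι)
  refine ⟨max (max N₁ N₂) (N₃ + 1), fun I hI a b hb => ?_⟩
  obtain ⟨p, q, r, hT⟩ := DCX42.exists_mv_triangle U' V' hsup ((DCX42.resD j).obj (Q.obj I))
  obtain ⟨c, hT'⟩ := PropPush72.exists_distinguished j _ hT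
  refine hasRepl_obj₁ _ hT' (c₂ := b + (max N₁ N₂ : ℕ)) (c₃ := b + N₃) ?_ (h₃ I hI a b hb) (by omega) (by omega)
  haveI := PropPush72.additive_Rpush j
  haveI : PreservesBinaryBiproducts (DCoh.Rpush j) := preservesBinaryBiproducts_of_preservesBiproducts _
  refine (hasRepl_biprod ?_ ?_).of_iso ((DCoh.Rpush j).mapBiprod _ _).symm
  · exact (h₁ I hI a b hb).mono (by omega)
  · exact (h₂ I hI a b hb).mono (by omega)

/-- Uniqueness of replacements. -/
theorem nonempty_iso_of_isRepl {K Q Q' : DCoh.D X} {ε : Q ⟶ K} {ε' : Q' ⟶ K} (hq : DCoh.IsQCohD Q)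
    (hq' : DCoh.IsQCohD Q') (h : IsRepl ε) (h' : IsRepl ε') : Nonempty (Q ≅ Q') := by
  obtain ⟨f, hf⟩ := (h' Q hq).2 ε
  obtain ⟨g, hg⟩ := (h Q' hq').2 ε'
  have hf : f ≫ ε' = ε := hf
  have hg : g ≫ ε = ε' := hg
  exact ⟨⟨f, g, (h Q hq).1 (by change (f ≫ g) ≫ ε = 𝟙 Q ≫ ε; rw [Category.assoc, hg, hf, Category.id_comp]),
    (h' Q' hq').1 (by change (g ≫ f) ≫ ε' = 𝟙 Q' ≫ ε'; rw [Category.assoc, hf, hg, Category.id_comp])⟩⟩

/-- Boundedness of quasi-coherent replacements. -/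
theorem exists_repl_bound (X : Scheme.{u}) [CompactSpace X] [QuasiSeparatedSpace X] :
    ∃ N : ℕ, ∀ (I : CochainComplex X.Modules ℤ), I.IsKInjective → ∀ a b : ℤ, SectBound I a b →
      HasRepl (Q.obj I) a (b + N) := by
  have htop : ReplBound (⊤ : X.Opens) := Coh69.qc_induction (ReplBound (X := X)) replBound_of_isAffineOpen
    (fun U V _ _ => replBound_sup U V) ⊤ (by simpa using isCompact_univ)
  haveI := DCX42.hasRpush (𝟙 X)
  haveI := DCK91.hasLpull (𝟙 X)
  obtain ⟨eg⟩ := DCX42.nonempty_Lpull_iso_resD (𝟙 X)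
  let A := (DCX42.LpullRpushAdj (𝟙 X)).ofNatIsoLeft (eg ≪≫ resDId X)
  let e := A.rightAdjointUniq Adjunction.id
  obtain ⟨N, hN⟩ := htop X (𝟙 X) (Scheme.Hom.opensRange_of_isIso _)
  exact ⟨N, fun I hI a b h => (hN I hI a b h).of_iso (e.app _ ≪≫ (resDId X).app _)⟩

end Groth.Agent.QCohPush72
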