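import Mathlib.Algebra.Homology.HomologicalComplexLimits
import Mathlib.Algebra.Homology.ShortComplex.HomologicalComplex
import Mathlib.Algebra.Homology.ShortComplex.PreservesHomology
import Mathlib.CategoryTheory.Abelian.GrothendieckAxioms.Basic
import Mathlib.CategoryTheory.Abelian.FunctorCategory
import Mathlib.Algebra.Homology.Functor

/-!
# Homology commutes with exact colimits
-/

set_option autoImplicit false
set_option backward.isDefEq.respectTransparency false
noncomputable section

universe u v w

open CategoryTheory CategoryTheory.Limits

namespace Groth.Agent.QCohPush72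

variable {A : Type u} [Category.{v} A] [Abelian A] {ι : Type*} {c : ComplexShape ι}
  {J : Type w} [SmallCategory J] [HasColimitsOfShape J A] [HasExactColimitsOfShape J A]

/-- A diagram of complexes as a complex of diagrams. -/
def flipCx (F : J ⥤ HomologicalComplex A c) : HomologicalComplex (J ⥤ A) c where
  X p := F ⋙ HomologicalComplex.eval A c p
  d p q := { app := fun j => (F.obj j).d p q, naturality := fun _ _ φ => (F.map φ).comm p q }
  shape p q h := by ext j; exact (F.obj j).shape p q h
  d_comp_d' p q r _ _ := by ext j; exact (F.obj j).d_comp_d p q r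

theorem nonempty_isColimit_homology (F : J ⥤ HomologicalComplex A c) {s : Cocone F} (hs : IsColimit s) (i : ι) :
    Nonempty (IsColimit ((HomologicalComplex.homologyFunctor A c i).mapCocone s)) := by
  let E := flipCx F
  haveI : (colim : (J ⥤ A) ⥤ A).Additive := ⟨fun {_ _ f g} => colimit.hom_ext fun j => by simp⟩
  haveI : (colim : (J ⥤ A) ⥤ A).PreservesHomology := inferInstance
  haveI : ∀ j : J, ((evaluation J A).obj j).Additive := fun j => ⟨fun {_ _ _ _} => rfl⟩
  let R := ((colim : (J ⥤ A) ⥤ A).mapHomologicalComplex c).obj E
  let t : Cocone F :=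
    { pt := R
      ι :=
        { app := fun j =>
            { f := fun p => colimit.ι (F ⋙ HomologicalComplex.eval A c p) j
              comm' := fun p q _ => colimit.ι_map (E.d p q) j }
          naturality := fun j k φ => HomologicalComplex.hom_ext _ _ fun p => by
            simpa using colimit.w (F ⋙ HomologicalComplex.eval A c p) φ } }
  have ht : IsColimit t := HomologicalComplex.isColimitOfEval _ _ fun p =>
    (colimit.isColimit (F ⋙ HomologicalComplex.eval A c p)).ofIsoColimit (Cocone.ext (Iso.refl _))
  let S := E.sc i
  let e : ∀ j : J, (F.obj j).homology i ≅ S.homology.obj j := fun j =>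
    S.mapHomologyIso ((evaluation J A).obj j)
  let ψ : S.homology ≅ F ⋙ HomologicalComplex.homologyFunctor A c i :=
    NatIso.ofComponents (fun j => (e j).symm) fun {j k} φ => by
      have h := NatTrans.app_homology ((evaluation J A).map φ) S
      change S.homology.map φ ≫ (e k).inv = (e j).inv ≫ HomologicalComplex.homologyMap (F.map φ) i
      rw [show S.homology.map φ = ((evaluation J A).map φ).app S.homology from rfl, h]
      simp [e]
      rfl
  refine ⟨(IsColimit.equivOfNatIsoOfIso ψ (colimit.cocone S.homology)
    ((HomologicalComplex.homologyFunctor A c i).mapCocone t)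
    (Cocone.ext (S.mapHomologyIso (colim : (J ⥤ A) ⥤ A)).symm fun j => ?_)
    (colimit.isColimit _)).ofIsoColimit
    ((Cocone.functoriality F (HomologicalComplex.homologyFunctor A c i)).mapIso (ht.uniqueUpToIso hs))⟩
  let τ : (evaluation J A).obj j ⟶ colim := { app := fun G => colimit.ι G j, naturality := fun _ _ f => (colimit.ι_map f j).symm }
  have h := NatTrans.app_homology τ S
  change ((e j).hom ≫ colimit.ι S.homology j) ≫ (S.mapHomologyIso (colim : (J ⥤ A) ⥤ A)).inv =
    HomologicalComplex.homologyMap (t.ι.app j) i
  rw [show colimit.ι S.homology j = τ.app S.homology from rfl, h]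
  simp [e]
  rfl

end Groth.Agent.QCohPush72
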