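import Mathlib.CategoryTheory.Adjunction.Evaluation
import Mathlib.CategoryTheory.Abelian.FunctorCategory
import Mathlib.CategoryTheory.Preadditive.Injective.Basic
import Mathlib.CategoryTheory.Abelian.GrothendieckAxioms.Basic

/-!
# Injective objects of functor categories
-/

set_option autoImplicit false
noncomputable section

universe u v w

open CategoryTheory CategoryTheory.Limits

namespace Groth.Agent.QCohPush72

variable {J : Type w} [SmallCategory J] {A : Type u} [Category.{v} A] [Abelian A]

/-- Functor categories into a category with enough injectives and products have enough injectives. -/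
theorem enoughInjectives_functor [EnoughInjectives A] [∀ α : Type w, HasProductsOfShape α A] :
    EnoughInjectives (J ⥤ A) := by
  refine ⟨fun D => ⟨?_⟩⟩
  let R := fun j : J => evaluationRightAdjoint A j
  have hR : ∀ j, (Injective ((R j).obj (Injective.under (D.obj j)))) := fun j =>
    Injective.injective_of_adjoint (evaluationAdjunctionLeft A j) _
  exact
    { J := ∏ᶜ fun j : J => (R j).obj (Injective.under (D.obj j))
      injective := inferInstance
      f := Pi.lift fun j => (evaluationAdjunctionLeft A j).homEquiv _ _ (Injective.ι (D.obj j))
      mono := by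
        refine @NatTrans.mono_of_mono_app _ _ _ _ _ _ _ fun i => ?_
        let p : (∏ᶜ fun j : J => (R j).obj (Injective.under (D.obj j))).obj i ⟶ Injective.under (D.obj i) :=
          (Pi.π (fun j : J => (R j).obj (Injective.under (D.obj j))) i).app i ≫
            Pi.π (fun _ : i ⟶ i => Injective.under (D.obj i)) (𝟙 i)
        have h : (Pi.lift fun j => (evaluationAdjunctionLeft A j).homEquiv _ _ (Injective.ι (D.obj j))).app i ≫ p =
            Injective.ι (D.obj i) := by
          change _ ≫ (Pi.π (fun j : J => (R j).obj (Injective.under (D.obj j))) i).app i ≫ _ = _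
          have h0 := congrArg (fun z => NatTrans.app z i) (Pi.lift_π (fun j => (evaluationAdjunctionLeft A j).homEquiv D _ (Injective.ι (D.obj j))) i)
          refine (Category.assoc _ _ _).symm.trans (Eq.trans (congrArg (· ≫ Pi.π (fun _ : i ⟶ i => Injective.under (D.obj i)) (𝟙 i)) h0) ?_)
          simp [Adjunction.homEquiv_unit]
          refine (Category.assoc _ _ _).trans ?_
          erw [Pi.lift_π]
          refine (Category.assoc _ _ _).symm.trans ?_
          erw [Pi.lift_π]
          simp
        exact @mono_of_mono_fac _ _ _ _ _ _ _ _ inferInstance h }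

/-- Injective objects of functor categories are pointwise injective. -/
theorem injective_obj [∀ α : Type w, HasCoproductsOfShape α A] [∀ α : Type w, HasExactColimitsOfShape (Discrete α) A]
    (I : J ⥤ A) [Injective I] (j : J) : Injective (I.obj j) := by
  have hL : (evaluationLeftAdjoint A j).PreservesMonomorphisms := ⟨fun {d₁ d₂} f _ => by
    refine @NatTrans.mono_of_mono_app _ _ _ _ _ _ _ fun i => ?_
    have e : ((evaluationLeftAdjoint A j).map f).app i = Limits.Sigma.map (fun _ : j ⟶ i => f) := by
      refine Sigma.hom_ext _ _ fun g => ?_
      simp [evaluationLeftAdjoint, Limits.Sigma.map]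
    rw [e]
    haveI : Mono (Discrete.natTrans (fun _ => f) :
        Discrete.functor (fun _ : j ⟶ i => d₁) ⟶ Discrete.functor (fun _ : j ⟶ i => d₂)) :=
      @NatTrans.mono_of_mono_app _ _ _ _ _ _ _ fun _ => ‹Mono f›
    exact inferInstanceAs (Mono (colim.map (Discrete.natTrans (fun _ => f) :
      Discrete.functor (fun _ : j ⟶ i => d₁) ⟶ Discrete.functor (fun _ : j ⟶ i => d₂))))⟩
  exact Injective.injective_of_adjoint (evaluationAdjunctionRight A j) I

end Groth.Agent.QCohPush72
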