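import Groth.Agent.QCohPush72.FiltColimAcyclic
import Groth.Agent.QCohPush72.HomologyColim
import Groth.Agent.QCohPush72.InjFun

/-!
# `Rf_*` and filtered colimits of uniformly bounded below complexes
-/

set_option autoImplicit false
set_option linter.style.haveILetI false
set_option backward.isDefEq.respectTransparency.types false
set_option maxHeartbeats 1000000

noncomputable section

universe u

open CategoryTheory CategoryTheory.Limits DerivedCategory AlgebraicGeometry

attribute [local instance] HasDerivedCategory.standard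

namespace Groth.Agent.QCohPush72

section General

universe v₁ u₁ v₂ u₂ w
variable {J : Type w} [SmallCategory J] {C : Type u₁} [Category.{v₁} C] {B : Type u₂} [Category.{v₂} B]
  {D D' : J ⥤ C} {s : Cocone D} {s' : Cocone D'} (η : D ⟶ D') (g : s.pt ⟶ s'.pt)

/-- A map of colimit cocones which is an isomorphism on the diagrams is an isomorphism. -/
theorem isIso_map_of_isColimit (F : C ⥤ B) (w : ∀ j, s.ι.app j ≫ g = η.app j ≫ s'.ι.app j)
    [∀ j, IsIso (F.map (η.app j))] (h : IsColimit (F.mapCocone s)) (h' : IsColimit (F.mapCocone s')) :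
    IsIso (F.map g) := by
  haveI : IsIso (Functor.whiskerRight η F) :=
    @NatIso.isIso_of_isIso_app _ _ _ _ _ _ _ fun j => inferInstanceAs (IsIso (F.map (η.app j)))
  have : F.map g = (h.coconePointsIsoOfNatIso h' (asIso (Functor.whiskerRight η F))).hom := by
    refine h.hom_ext fun j => ?_
    refine Eq.trans ?_ (IsColimit.comp_coconePointsIsoOfNatIso_hom h h' _ j).symm
    change F.map (s.ι.app j) ≫ F.map g = F.map (η.app j) ≫ F.map (s'.ι.app j)
    rw [← F.map_comp, w, F.map_comp]
  rw [this]
  infer_instance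

/-- Colimit cocones transport along isomorphisms. -/
theorem nonempty_isColimit_iff (F : C ⥤ B) (w : ∀ j, s.ι.app j ≫ g = η.app j ≫ s'.ι.app j)
    [∀ j, IsIso (F.map (η.app j))] [IsIso (F.map g)] :
    Nonempty (IsColimit (F.mapCocone s)) ↔ Nonempty (IsColimit (F.mapCocone s')) := by
  haveI : IsIso (Functor.whiskerRight η F) :=
    @NatIso.isIso_of_isIso_app _ _ _ _ _ _ _ fun j => inferInstanceAs (IsIso (F.map (η.app j)))
  let e := IsColimit.equivOfNatIsoOfIso (asIso (Functor.whiskerRight η F)) (F.mapCocone s) (F.mapCocone s')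
    (Cocone.ext (asIso (F.map g)) fun j => ?_)
  · exact ⟨fun ⟨h⟩ => ⟨e h⟩, fun ⟨h⟩ => ⟨e.symm h⟩⟩
  change ((inv (Functor.whiskerRight η F)).app j ≫ F.map (s.ι.app j)) ≫ F.map g = F.map (s'.ι.app j)
  have hi : (inv (Functor.whiskerRight η F)).app j ≫ F.map (η.app j) = 𝟙 _ := by
    change (inv (Functor.whiskerRight η F)).app j ≫ (Functor.whiskerRight η F).app j = _
    rw [← NatTrans.comp_app, IsIso.inv_hom_id]
    rfl
  rw [Category.assoc, ← F.map_comp, w, F.map_comp]
  exact (Category.assoc _ _ _).symm.trans ((congrArg (· ≫ F.map (s'.ι.app j)) hi).trans (Category.id_comp _))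

end General

variable {X Y : Scheme.{u}} {J : Type u} [SmallCategory J] [IsFiltered J]

theorem isIso_HD_Q_map_iff {Z : Scheme.{u}} {K L : CochainComplex Z.Modules ℤ} (φ : K ⟶ L) (i : ℤ) :
    IsIso ((homologyFunctor Z.Modules i).map (Q.map φ)) ↔ IsIso (HomologicalComplex.homologyMap φ i) :=
  NatIso.isIso_map_iff (homologyFunctorFactors Z.Modules i) φ

/-- A cocone of complexes inducing colimit cocones on homology. -/
theorem isIso_Q_map_of_isColimit {D D' : J ⥤ CochainComplex X.Modules ℤ} {s : Cocone D} {s' : Cocone D'}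
    (η : D ⟶ D') (g : s.pt ⟶ s'.pt) (w : ∀ j, s.ι.app j ≫ g = η.app j ≫ s'.ι.app j)
    (hη : ∀ j, QuasiIso (η.app j))
    (h : ∀ q, Nonempty (IsColimit ((HomologicalComplex.homologyFunctor X.Modules (ComplexShape.up ℤ) q).mapCocone s)))
    (h' : ∀ q, Nonempty (IsColimit ((HomologicalComplex.homologyFunctor X.Modules (ComplexShape.up ℤ) q).mapCocone s'))) :
    IsIso (Q.map g) := by
  rw [DerivedCategory.isIso_Q_map_iff_quasiIso, quasiIso_iff]
  intro q
  rw [quasiIsoAt_iff_isIso_homologyMap]
  haveI : ∀ j, IsIso ((HomologicalComplex.homologyFunctor X.Modules (ComplexShape.up ℤ) q).map (η.app j)) :=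
    fun j => (quasiIsoAt_iff_isIso_homologyMap _ q).1 ((quasiIso_iff _).1 (hη j) q)
  exact isIso_map_of_isColimit η g (HomologicalComplex.homologyFunctor X.Modules (ComplexShape.up ℤ) q) w
    (h q).some (h' q).some

/-- The functor computing `Hⁱ(Rf_*)` on complexes. -/
abbrev hRpush (f : X ⟶ Y) [DCoh.HasRpush f] (i : ℤ) : CochainComplex X.Modules ℤ ⥤ Y.Modules :=
  Q ⋙ DCoh.Rpush f ⋙ homologyFunctor Y.Modules i

/-- The functor computing `Hⁱ(f_*)` on complexes. -/
abbrev hPush (f : X ⟶ Y) (i : ℤ) : CochainComplex X.Modules ℤ ⥤ Y.Modules :=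
  (Scheme.Modules.pushforward f).mapHomologicalComplex (ComplexShape.up ℤ) ⋙ Q ⋙ homologyFunctor Y.Modules i

/-- The unit `Hⁱ(f_*) ⟶ Hⁱ(Rf_*)`. -/
def unitH (f : X ⟶ Y) [DCoh.HasRpush f] (i : ℤ) : hPush f i ⟶ hRpush f i where
  app K := (homologyFunctor Y.Modules i).map
    ((PropPush72.αu f).app ((HomotopyCategory.quotient X.Modules (ComplexShape.up ℤ)).obj K))
  naturality K L φ := by
    refine ((homologyFunctor Y.Modules i).map_comp _ _).symm.trans
      (Eq.trans (congrArg _ ?_) ((homologyFunctor Y.Modules i).map_comp _ _))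
    exact (PropPush72.αu f).naturality ((HomotopyCategory.quotient X.Modules (ComplexShape.up ℤ)).map φ)

/-- `Hⁱ(f_*)` commutes with filtered colimits of complexes. -/
theorem nonempty_isColimit_hPush (f : X ⟶ Y) [QuasiCompact f] [QuasiSeparated f] {D : J ⥤ CochainComplex X.Modules ℤ}
    {s : Cocone D} (hs : IsColimit s) (i : ℤ) : Nonempty (IsColimit ((hPush f i).mapCocone s)) := by
  haveI := preservesColimitsOfShape_pushforward (J := J) f
  let GC := (Scheme.Modules.pushforward f).mapHomologicalComplex (ComplexShape.up ℤ)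
  obtain ⟨h⟩ := nonempty_isColimit_homology (D ⋙ GC) (isColimitOfPreserves GC hs) i
  exact ⟨IsColimit.mapCoconeEquiv (Functor.isoWhiskerLeft GC (homologyFunctorFactors Y.Modules i)).symm h⟩

/-- The diagram of a complex of diagrams. -/
def unflipCx (I : HomologicalComplex (J ⥤ X.Modules) (ComplexShape.up ℤ)) : J ⥤ CochainComplex X.Modules ℤ where
  obj j := { X := fun p => (I.X p).obj j, d := fun p q => (I.d p q).app j,
             shape := fun p q h => by rw [I.shape p q h]; rfl,
             d_comp_d' := fun p q r _ _ => by rw [← NatTrans.comp_app, I.d_comp_d]; rfl }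
  map φ := { f := fun p => (I.X p).map φ, comm' := fun p q _ => (I.d p q).naturality φ }

/-- `Hⁱ(Rf_*)` commutes with filtered colimits of uniformly bounded below complexes. -/
theorem nonempty_isColimit_hRpush (f : X ⟶ Y) [QuasiCompact f] [QuasiSeparated f] [DCoh.HasRpush f]
    {D : J ⥤ CochainComplex X.Modules ℤ} (s : Cocone D)
    (hs : ∀ q, Nonempty (IsColimit ((HomologicalComplex.homologyFunctor X.Modules (ComplexShape.up ℤ) q).mapCocone s)))
    (n : ℤ) (hD : ∀ j, (D.obj j).IsGE n) (i : ℤ) :
    Nonempty (IsColimit ((hRpush f i).mapCocone s)) := by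
  let T := (ComplexShape.embeddingUpIntGE n).truncGEFunctor X.Modules
  let D' := D ⋙ T
  let π : D ⟶ D' := Functor.whiskerLeft D ((ComplexShape.embeddingUpIntGE n).πTruncGENatTrans X.Modules)
  haveI : HasExactColimitsOfShape J X.Modules := inferInstance
  haveI := enoughInjectives_functor (J := J) (A := X.Modules)
  let E := flipCx D'
  have hE : CochainComplex.IsStrictlyGE E n := by
    rw [CochainComplex.isStrictlyGE_iff]
    exact fun p hp => Functor.isZero _ fun j =>
      CochainComplex.isZero_of_isStrictlyGE (((D.obj j).truncGE n)) n p hp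
  obtain ⟨I, hI, s₀, hs₀⟩ := CochainComplex.Plus.exists_quasiIso_injective
    (C := J ⥤ X.Modules) ⟨E, ⟨n, hE⟩⟩ n
  let K := (InjectiveObject.ι (J ⥤ X.Modules)).mapCochainComplexPlus.obj I
  haveI hKge : K.obj.IsStrictlyGE n := (CochainComplex.isStrictlyGE_mapHomologicalComplex_obj_iff _ _ _).2 hI
  haveI hKinj : ∀ p, Injective (K.obj.X p) := fun p =>
    inferInstanceAs (Injective ((InjectiveObject.ι (J ⥤ X.Modules)).obj (I.obj.X p)))
  let DI := unflipCx K.obj
  let ε : D' ⟶ DI :=
    { app := fun j => { f := fun p => (s₀.hom.f p).app j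
                        comm' := fun p q _ => congrArg (fun z => NatTrans.app z j) (s₀.hom.comm p q) }
      naturality := fun j k φ => HomologicalComplex.hom_ext _ _ fun p => (s₀.hom.f p).naturality φ }
  have hε : ∀ j, QuasiIso (ε.app j) := fun j => by
    haveI : ((evaluation J X.Modules).obj j).Additive := ⟨fun {_ _ _ _} => rfl⟩
    haveI : QuasiIso s₀.hom := hs₀
    exact inferInstanceAs (QuasiIso
      ((((evaluation J X.Modules).obj j).mapHomologicalComplex (ComplexShape.up ℤ)).map s₀.hom))
  have hπ : ∀ j, QuasiIso (π.app j) := fun j => (CochainComplex.quasiIso_πTruncGE_iff (D.obj j) n).2 (hD j)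
  let c := colimit.cocone D
  let hc := colimit.isColimit D
  let t := colimit.cocone DI
  let ht := colimit.isColimit DI
  have hcq := fun q => nonempty_isColimit_homology D hc q
  haveI : IsIso (Q.map (hc.desc s)) := isIso_Q_map_of_isColimit (𝟙 D) (hc.desc s)
    (fun j => (hc.fac s j).trans (Category.id_comp _).symm) (fun j => inferInstanceAs (QuasiIso (𝟙 (D.obj j)))) hcq hs
  let η := π ≫ ε
  haveI : ∀ j, QuasiIso (η.app j) := fun j =>
    haveI := hπ j
    haveI := hε j
    inferInstanceAs (QuasiIso (π.app j ≫ ε.app j))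
  have hw : ∀ j, c.ι.app j ≫ colimMap η = η.app j ≫ t.ι.app j := fun j => ι_colimMap η j
  haveI : IsIso (Q.map (colimMap η : c.pt ⟶ t.pt)) :=
    isIso_Q_map_of_isColimit η (colimMap η) hw inferInstance hcq (fun q => nonempty_isColimit_homology DI ht q)
  let F := hRpush f i
  haveI : ∀ j, IsIso (F.map (η.app j)) := fun j => by
    haveI : IsIso (Q.map (η.app j)) := (DerivedCategory.isIso_Q_map_iff_quasiIso X.Modules (η.app j)).2 inferInstance
    exact inferInstanceAs (IsIso ((homologyFunctor Y.Modules i).map ((DCoh.Rpush f).map (Q.map (η.app j)))))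
  haveI : IsIso (F.map (colimMap η : c.pt ⟶ t.pt)) :=
    inferInstanceAs (IsIso ((homologyFunctor Y.Modules i).map ((DCoh.Rpush f).map (Q.map (colimMap η)))))
  haveI : IsIso (F.map (hc.desc s)) :=
    inferInstanceAs (IsIso ((homologyFunctor Y.Modules i).map ((DCoh.Rpush f).map (Q.map (hc.desc s)))))
  haveI : ∀ j, IsIso (F.map ((𝟙 D : D ⟶ D).app j)) := fun j => inferInstanceAs (IsIso (F.map (𝟙 _)))
  rw [← nonempty_isColimit_iff (𝟙 D) (hc.desc s) F (fun j => (hc.fac s j).trans (Category.id_comp _).symm),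
    nonempty_isColimit_iff η (colimMap η) F hw]
  haveI hIinj : ∀ j p, Injective ((DI.obj j).X p) := fun j p => injective_obj (K.obj.X p) j
  haveI hIge : ∀ j, (DI.obj j).IsStrictlyGE n := fun j => by
    rw [CochainComplex.isStrictlyGE_iff]
    exact fun p hp => (Functor.isZero_iff _).1 (K.obj.isZero_of_isStrictlyGE n p hp) j
  haveI : CochainComplex.IsStrictlyGE t.pt n := by
    rw [CochainComplex.isStrictlyGE_iff]
    intro p hp
    rw [IsZero.iff_id_eq_zero]
    exact (isColimitOfPreserves (HomologicalComplex.eval X.Modules (ComplexShape.up ℤ) p) ht).hom_ext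
      fun j => ((DI.obj j).isZero_of_isStrictlyGE n p hp).eq_of_src _ _
  have hu : IsIso ((unitH f i).app t.pt) := by
    have := isIso_unit_of_isStrictlyGE f t.pt n fun p q hq =>
      isZero_Rpush_colimit_injective f _ (isColimitOfPreserves (HomologicalComplex.eval X.Modules (ComplexShape.up ℤ) p) ht)
        (fun j => hIinj j p) q hq
    exact @Functor.map_isIso _ _ _ _ _ _ (homologyFunctor Y.Modules i) _ this
  have huj : ∀ j, IsIso ((unitH f i).app (DI.obj j)) := fun j => by
    exact @Functor.map_isIso _ _ _ _ _ _ (homologyFunctor Y.Modules i) _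
      (PropPush72.hα f (DI.obj j) (CochainComplex.isKInjective_of_injective (DI.obj j) n))
  obtain ⟨hp⟩ := nonempty_isColimit_hPush f ht i
  haveI := @NatIso.isIso_of_isIso_app _ _ _ _ _ _ (Functor.whiskerLeft DI (unitH f i)) huj
  refine ⟨IsColimit.equivOfNatIsoOfIso (asIso (Functor.whiskerLeft DI (unitH f i))) _ _
    (Cocone.ext (@asIso _ _ _ _ _ hu) fun j => ?_) hp⟩
  change ((inv (Functor.whiskerLeft DI (unitH f i))).app j ≫ (hPush f i).map (t.ι.app j)) ≫ _ = _
  rw [Category.assoc]
  erw [(unitH f i).naturality (t.ι.app j)]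
  have hi : (inv (Functor.whiskerLeft DI (unitH f i))).app j ≫ (unitH f i).app (DI.obj j) = 𝟙 _ := by
    change (inv (Functor.whiskerLeft DI (unitH f i))).app j ≫ (Functor.whiskerLeft DI (unitH f i)).app j = _
    rw [← NatTrans.comp_app, IsIso.inv_hom_id]
    rfl
  exact (Category.assoc _ _ _).symm.trans ((congrArg (· ≫ (hRpush f i).map (t.ι.app j)) hi).trans (Category.id_comp _))

/-- Complexes acyclic stagewise have acyclic colimit. -/
theorem isIso_unit_colimit (f : X ⟶ Y) [QuasiCompact f] [QuasiSeparated f] [DCoh.HasRpush f]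
    {D : J ⥤ CochainComplex X.Modules ℤ} {s : Cocone D} (hs : IsColimit s) (n : ℤ) (hD : ∀ j, (D.obj j).IsGE n)
    (hac : ∀ j, IsIso ((PropPush72.αu f).app
      ((HomotopyCategory.quotient X.Modules (ComplexShape.up ℤ)).obj (D.obj j)))) :
    IsIso ((PropPush72.αu f).app ((HomotopyCategory.quotient X.Modules (ComplexShape.up ℤ)).obj s.pt)) := by
  rw [DerivedCategory.isIso_iff]
  intro i
  obtain ⟨h1⟩ := nonempty_isColimit_hPush f hs i
  obtain ⟨h2⟩ := nonempty_isColimit_hRpush f s (fun q => nonempty_isColimit_homology D hs q) n hD i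
  haveI : ∀ j, IsIso ((Functor.whiskerLeft D (unitH f i)).app j) := fun j =>
    @Functor.map_isIso _ _ _ _ _ _ (homologyFunctor Y.Modules i) _ (hac j)
  haveI := NatIso.isIso_of_isIso_app (Functor.whiskerLeft D (unitH f i))
  have : (unitH f i).app s.pt =
      (h1.coconePointsIsoOfNatIso h2 (asIso (Functor.whiskerLeft D (unitH f i)))).hom := by
    refine h1.hom_ext fun j => ?_
    refine Eq.trans ?_ (IsColimit.comp_coconePointsIsoOfNatIso_hom h1 h2 _ j).symm
    exact (unitH f i).naturality (s.ι.app j)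
  change IsIso ((unitH f i).app s.pt)
  rw [this]
  infer_instance

end Groth.Agent.QCohPush72
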