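import Groth.Agent.QCohPush72.CoprodBdd
import Groth.Agent.QCFilt72.Colim
import Mathlib.CategoryTheory.Limits.ConcreteCategory.Basic

/-!
# Direct images and filtered colimits
-/

set_option autoImplicit false
set_option linter.style.haveILetI false
set_option backward.isDefEq.respectTransparency.types false
set_option maxHeartbeats 1000000

noncomputable section

universe u

open CategoryTheory CategoryTheory.Limits AlgebraicGeometry TopologicalSpace Opposite

attribute [local instance] HasDerivedCategory.standard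

namespace Groth.Agent.QCohPush72

variable {X Y : Scheme.{u}} {J : Type u} [SmallCategory J] [IsFiltered J]

/-- Qcqs direct images preserve filtered colimits of modules. -/
theorem preservesColimitsOfShape_pushforward (f : X ⟶ Y) [QuasiCompact f] [QuasiSeparated f] :
    PreservesColimitsOfShape J (Scheme.Modules.pushforward f) := by
  refine ⟨fun {D} => ?_⟩
  let G := Scheme.Modules.pushforward f
  obtain ⟨h⟩ := QCFilt72.nonempty_isColimit_of_sections (G.mapCocone (colimit.cocone D))
    (fun W hW σ => by
      haveI : IsAffine W.toScheme := hW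
      haveI : QuasiSeparatedSpace (f ⁻¹ᵁ W : X.Opens) := quasiSeparatedSpace_of_quasiSeparated (f ∣_ W)
      exact QCFilt72.exists_stage_section (colimit.isColimit D) (V := f ⁻¹ᵁ W)
        (QuasiCompact.isCompact_preimage (f := f) _ W.isOpen hW.isCompact)
        ((isQuasiSeparated_iff_quasiSeparatedSpace _ (f ⁻¹ᵁ W).isOpen).mpr ‹_›) σ)
    (fun W hW j s h => ZClos93.exists_stage_zero (colimit.isColimit D) (V := f ⁻¹ᵁ W)
      (QuasiCompact.isCompact_preimage (f := f) _ W.isOpen hW.isCompact) s h)
  exact preservesColimit_of_preserves_colimit_cocone (colimit.isColimit D) h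

omit [IsFiltered J] in
/-- Cohomology of a filtered colimit vanishes if it does stagewise. -/
theorem subsingleton_HE_colimit [IsFiltered J] (M : J ⥤ X.Modules) {c : Cocone M} (hc : IsColimit c)
    {U : X.Opens} (hU : IsCompact (U : Set X)) (hqs : IsQuasiSeparated (U : Set X)) (q : ℕ)
    (h : ∀ j, Subsingleton (Coh69.HE (Coh.toAb (M.obj j)) q U)) :
    Subsingleton (Coh69.HE (Coh.toAb c.pt) q U) := by
  haveI : PrespectralSpace X.toTopCat := PrespectralSpace.of_isTopologicalBasis
    X.isBasis_affineOpens (by rintro _ ⟨U, hU, rfl⟩; exact hU.isCompact)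
  let T := SheafOfModules.toSheaf.{u} X.ringCatSheaf
  let G : CohTop.Ab X.toTopCat ⥤ AddCommGrpCat.{u} :=
    (Sheaf.cohomologyPresheafFunctor (Opens.grothendieckTopology X) q).flip.obj (op U)
  haveI : PreservesColimitsOfShape J G := Coh69.ColimRel.colim_HU (X := X.toTopCat) U
    (fun A B hA hB => ⟨hqs A.carrier B.carrier hA.2 A.isOpen hA.1 hB.2 B.isOpen hB.1,
      inf_le_left.trans hA.2⟩) hU le_rfl q
  haveI : PreservesColimitsOfShape J T := ZClos93.preservesColimits_toSheaf X.ringCatSheaf J
  have hcol := isColimitOfPreserves G (isColimitOfPreserves T hc)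
  refine subsingleton_of_forall_eq 0 fun x => ?_
  obtain ⟨j, y, rfl⟩ := Concrete.isColimit_exists_rep _ hcol x
  haveI : Subsingleton (G.obj (T.obj (M.obj j))) := h j
  change (G.map (T.map (c.ι.app j))).hom y = 0
  rw [Subsingleton.elim (α := G.obj (T.obj (M.obj j))) y 0]
  exact map_zero _

/-- Filtered colimits of injective modules are acyclic for qcqs direct images. -/
theorem isZero_Rpush_colimit_injective (f : X ⟶ Y) [QuasiCompact f] [QuasiSeparated f]
    (M : J ⥤ X.Modules) {c : Cocone M} (hc : IsColimit c) (hM : ∀ j, Injective (M.obj j)) (q : ℕ) (hq : 0 < q) :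
    IsZero ((Coh.Rpush f q).obj c.pt) := by
  obtain ⟨k, rfl⟩ : ∃ k, q = k + 1 := ⟨q - 1, by omega⟩
  refine FMK72.isZero_Rpush_of_subsingleton f _ (k + 1) fun U y hy => ?_
  obtain ⟨V, hV, hyV, hVU⟩ := exists_isAffineOpen_mem_and_subset (x := y) (U := U) hy
  haveI : IsAffine (V : Scheme.{u}) := hV
  haveI : QuasiSeparatedSpace (f ⁻¹ᵁ V : X.Opens) := quasiSeparatedSpace_of_quasiSeparated (f ∣_ V)
  refine ⟨V, hVU, hyV, subsingleton_HE_colimit M hc
    (QuasiCompact.isCompact_preimage (f := f) _ V.isOpen hV.isCompact)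
    ((isQuasiSeparated_iff_quasiSeparatedSpace _ (f ⁻¹ᵁ V).isOpen).mpr ‹_›) (k + 1) fun j => ?_⟩
  haveI := hM j
  haveI := GSS45.isFlasque_toAb_of_surjective (M.obj j)
    (fun i => @SiteMod.restriction_surjective _ _ _ X.ringCatSheaf (M.obj j) (hM j) _ _ i inferInstance)
  exact TopCoh49.subsingleton_E_of_isFlasque k (Coh.toAb (M.obj j)) _

end Groth.Agent.QCohPush72
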