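import Groth.Agent.QCohPush72.FiltColim
import Groth.Agent.QCohPush72.AcyclicUnit

/-!
# `Rf_*` and filtered colimits of complexes with quasi-coherent cohomology
-/

set_option autoImplicit false
set_option linter.style.haveILetI false
set_option backward.isDefEq.respectTransparency.types false
set_option maxHeartbeats 1000000

noncomputable section

universe u

open CategoryTheory CategoryTheory.Limits DerivedCategory AlgebraicGeometry

attribute [local instance] HasDerivedCategory.standard

namespace Groth.Agent.QCohPush72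

variable {X Y : Scheme.{u}} {J : Type u} [SmallCategory J] [IsFiltered J]

theorem isQCohD_Q_obj_iff (K : CochainComplex X.Modules ℤ) :
    DCoh.IsQCohD (Q.obj K) ↔ ∀ q : ℤ, Coh.IsQCoh (K.homology q) :=
  forall_congr' fun q => ⟨fun h => QC70.isQuasicoherent_of_iso ((homologyFunctorFactors X.Modules q).app K) h,
    fun h => QC70.isQuasicoherent_of_iso ((homologyFunctorFactors X.Modules q).app K).symm h⟩

/-- `Hⁱ(Rf_*)` commutes with filtered colimits of complexes with quasi-coherent cohomology. -/
theorem nonempty_isColimit_hRpush_qcoh (f : X ⟶ Y) [QuasiCompact f] [QuasiSeparated f] [DCoh.HasRpush f]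
    {D : J ⥤ CochainComplex X.Modules ℤ} (s : Cocone D)
    (hs : ∀ q, Nonempty (IsColimit ((HomologicalComplex.homologyFunctor X.Modules (ComplexShape.up ℤ) q).mapCocone s)))
    (hD : ∀ j, DCoh.IsQCohD (Q.obj (D.obj j))) (i : ℤ) :
    Nonempty (IsColimit ((hRpush f i).mapCocone s)) := by
  let G := hRpush f i
  let θ : colimit (D ⋙ G) ⟶ G.obj s.pt := colimit.desc _ (G.mapCocone s)
  suffices h : IsIso θ by
    haveI : IsIso ((colimit.isColimit (D ⋙ G)).desc (G.mapCocone s)) := h
    exact ⟨IsColimit.ofPointIso (colimit.isColimit (D ⋙ G))⟩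
  refine Omega57.isIso_of_restrict θ fun y => ?_
  obtain ⟨V, hV, hy, -⟩ := exists_isAffineOpen_mem_and_subset (x := y) (U := (⊤ : Y.Opens)) trivial
  refine ⟨V, V.ι, inferInstance, ⟨⟨y, hy⟩, rfl⟩, ?_⟩
  let R := Scheme.Modules.restrictFunctor V.ι
  obtain ⟨d, hd⟩ := exists_isIso_restrict_HD_map_Rpush f hV
  let m := i - d - 1
  let N := ComplexShape.embeddingUpIntGE m
  let T := N.truncGEFunctor X.Modules
  let πn := N.πTruncGENatTrans X.Modules
  let D' := D ⋙ T
  let s' : Cocone D' := T.mapCocone s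
  let η : D ⟶ D' := Functor.whiskerLeft D πn
  have hw : ∀ j, s.ι.app j ≫ πn.app s.pt = η.app j ≫ s'.ι.app j := fun j => πn.naturality (s.ι.app j)
  have hπ : ∀ (K : CochainComplex X.Modules ℤ) (q : ℤ), m ≤ q →
      IsIso (HomologicalComplex.homologyMap (πn.app K) q) := fun K q hq =>
    (quasiIsoAt_iff_isIso_homologyMap _ q).1 (CochainComplex.quasiIsoAt_πTruncGE K m q hq)
  have hzero : ∀ (K : CochainComplex X.Modules ℤ) (q : ℤ), q < m → IsZero ((T.obj K).homology q) := fun K q hq =>
    (CochainComplex.exactAt_of_isGE (K.truncGE m) m q hq).isZero_homology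
  have hs' : ∀ q, Nonempty (IsColimit ((HomologicalComplex.homologyFunctor X.Modules (ComplexShape.up ℤ) q).mapCocone s')) := by
    intro q
    let H := HomologicalComplex.homologyFunctor X.Modules (ComplexShape.up ℤ) q
    by_cases hq : m ≤ q
    · haveI : ∀ j, IsIso (H.map (η.app j)) := fun j => hπ (D.obj j) q hq
      haveI : IsIso (H.map (πn.app s.pt)) := hπ s.pt q hq
      exact (nonempty_isColimit_iff η (πn.app s.pt) H hw).1 (hs q)
    · exact ⟨{ desc := fun _ => 0
               fac := fun c j => (hzero (D.obj j) q (not_le.1 hq)).eq_of_src _ _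
               uniq := fun c _ _ => (hzero s.pt q (not_le.1 hq)).eq_of_src _ _ }⟩
  obtain ⟨h'⟩ := nonempty_isColimit_hRpush f s' hs' m (fun j => inferInstanceAs (((D.obj j).truncGE m).IsGE m)) i
  have hq : ∀ (K : CochainComplex X.Modules ℤ), DCoh.IsQCohD (Q.obj K) → IsIso ((G ⋙ R).map (πn.app K)) := by
    intro K hK
    rw [isQCohD_Q_obj_iff] at hK
    refine hd (Q.map (πn.app K)) ((isQCohD_Q_obj_iff K).2 hK) ((isQCohD_Q_obj_iff _).2 fun q => ?_) m
      (fun q hq => ?_) i (by omega)
    · by_cases hq : m ≤ q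
      · haveI := hπ K q hq
        exact QC70.isQuasicoherent_of_iso (asIso (HomologicalComplex.homologyMap (πn.app K) q)) (hK q)
      · exact QC70.isQuasicoherent_of_isZero (hzero K q (not_le.1 hq))
    · exact (isIso_HD_Q_map_iff (πn.app K) q).2 (hπ K q hq)
  haveI : ∀ j, IsIso ((G ⋙ R).map (η.app j)) := fun j => hq (D.obj j) (hD j)
  haveI : IsIso ((G ⋙ R).map (πn.app s.pt)) := by
    refine hq s.pt ((isQCohD_Q_obj_iff _).2 fun q => ?_)
    exact QC70.isQuasicoherent_colimit (D ⋙ HomologicalComplex.homologyFunctor X.Modules (ComplexShape.up ℤ) q)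
      (fun j => (isQCohD_Q_obj_iff (D.obj j)).1 (hD j) q) (hs q).some
  obtain ⟨hR⟩ := (nonempty_isColimit_iff η (πn.app s.pt) (G ⋙ R) hw).2 ⟨isColimitOfPreserves R h'⟩
  let hc := isColimitOfPreserves R (colimit.isColimit (D ⋙ G))
  have : R.map θ = (hc.coconePointUniqueUpToIso hR).hom := by
    refine hc.hom_ext fun j => ?_
    refine Eq.trans ?_ (IsColimit.comp_coconePointUniqueUpToIso_hom hc hR j).symm
    exact (R.map_comp _ _).symm.trans (congrArg R.map (colimit.ι_desc (G.mapCocone s) j))
  rw [this]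
  infer_instance

end Groth.Agent.QCohPush72
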