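import Groth.Agent.DCK91.StalkFun
import Groth.Agent.Props58.LocFree.Criteria
import Groth.Agent.QC70.CohOps

/-!
# Finitely many members of an epimorphic family onto a finite type module suffice
-/

set_option autoImplicit false
set_option linter.style.haveILetI false
set_option backward.isDefEq.respectTransparency.types false

noncomputable section

universe u

open CategoryTheory CategoryTheory.Limits AlgebraicGeometry

namespace Groth.Agent.QCohPush72

variable {X : Scheme.{u}}

/-- The images of an epimorphic family span every stalk. -/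
theorem iSup_range_stalk_eq_top {ι : Type u} {M : X.Modules} (A : ι → X.Modules) (a : ∀ i, A i ⟶ M)
    (h : Epi (Sigma.desc a)) (x : X) :
    (⨆ i, LinearMap.range ((DCK91.SP x).map (a i)).hom) = ⊤ := by
  let S := ⨆ i, LinearMap.range ((DCK91.SP x).map (a i)).hom
  let E := ModuleCat.of (X.presheaf.stalk x) (((DCK91.SP x).obj M) ⧸ S)
  let ψ : (DCK91.SP x).obj M ⟶ E := ModuleCat.ofHom S.mkQ
  haveI := (DCK91.skyAdj x).isLeftAdjoint
  haveI := (DCK91.skyAdj x).isRightAdjoint
  haveI : (DCK91.skyF x).PreservesZeroMorphisms := Functor.preservesZeroMorphisms_of_isRightAdjoint _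
  let g := (DCK91.skyAdj x).homEquiv M E ψ
  have hg : g = 0 := by
    rw [← cancel_epi (Sigma.desc a)]
    refine Sigma.hom_ext _ _ fun i => ?_
    have hz : (DCK91.SP x).map (a i) ≫ ψ = 0 := by
      refine ModuleCat.hom_ext (LinearMap.ext fun e => ?_)
      exact (Submodule.Quotient.mk_eq_zero _).2
        (le_iSup (fun i => LinearMap.range ((DCK91.SP x).map (a i)).hom) i ⟨e, rfl⟩)
    rw [Sigma.ι_desc_assoc, comp_zero, comp_zero, ← Adjunction.homEquiv_naturality_left, hz,
      Adjunction.homEquiv_unit, Functor.map_zero, comp_zero]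
  have hψ : ψ = 0 := by
    rw [← ((DCK91.skyAdj x).homEquiv M E).symm_apply_apply ψ]
    change ((DCK91.skyAdj x).homEquiv M E).symm g = 0
    rw [hg, Adjunction.homEquiv_counit, Functor.map_zero, zero_comp]
  exact eq_top_iff.2 fun e _ => (Submodule.Quotient.mk_eq_zero S).1 (LinearMap.congr_fun (congrArg ModuleCat.Hom.hom hψ) e)

/-- On a quasi-compact scheme finitely many members of an epimorphic family onto a finite type module are
jointly epimorphic. -/
theorem exists_finset_kill [CompactSpace X] {ι : Type u} (M : X.Modules) [M.IsFiniteType]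
    (A : ι → X.Modules) (a : ∀ i, A i ⟶ M) (h : Epi (Sigma.desc a)) :
    ∃ J : Finset ι, ∀ (Q : X.Modules) (g : M ⟶ Q), Epi g → (∀ i ∈ J, a i ≫ g = 0) → IsZero Q := by
  classical
  have key : ∀ x : X, ∃ (U : X.Opens) (J : Finset ι), x ∈ U ∧ ∀ (Q : X.Modules) (g : M ⟶ Q), Epi g →
      (∀ i ∈ J, a i ≫ g = 0) → ∀ y ∈ U, Subsingleton (Q.presheaf.stalk y) := by
    intro x
    haveI : Module.Finite (X.presheaf.stalk x) ((DCK91.SP x).obj M) :=
      Props58.LocFree.finite_stalk_of_isFiniteType (M := M) x
    obtain ⟨J, hJ⟩ := CompleteLattice.IsCompactElement.exists_finset_of_le_iSup _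
      ((Submodule.fg_iff_compact (⊤ : Submodule (X.presheaf.stalk x) ((DCK91.SP x).obj M))).1 Module.Finite.fg_top)
      _ (iSup_range_stalk_eq_top A a h x).ge
    let d : (∐ fun i : J => A i) ⟶ M := Sigma.desc fun i : J => a i
    let C := cokernel d
    haveI : C.IsFiniteType := QC70.isFiniteType_cokernel d
    have hx : x ∉ CohB1.support C := by
      refine QC70.notMem_support_iff.2 ?_
      haveI : Epi ((DCK91.SP x).map (cokernel.π d)) := by
        haveI := (DCK91.skyAdj x).isLeftAdjoint
        infer_instance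
      have hs := (ModuleCat.epi_iff_surjective ((DCK91.SP x).map (cokernel.π d))).1 inferInstance
      have hk : ∀ e : ((DCK91.SP x).obj M), (DCK91.SP x).map (cokernel.π d) e = 0 := by
        intro e
        have he : e ∈ LinearMap.ker ((DCK91.SP x).map (cokernel.π d)).hom := by
          refine (hJ.trans (iSup₂_le fun i hi => ?_)) (Submodule.mem_top : e ∈ ⊤)
          rintro _ ⟨z, rfl⟩
          have hz : a i ≫ cokernel.π d = 0 := by
            calc a i ≫ cokernel.π d = (Sigma.ι (fun i : J => A i) ⟨i, hi⟩ ≫ d) ≫ cokernel.π d :=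
                  congrArg (· ≫ _) (Sigma.ι_desc (fun i : J => a i) ⟨i, hi⟩).symm
              _ = 0 := by rw [Category.assoc, cokernel.condition, comp_zero]
          change ((DCK91.SP x).map (a i) ≫ (DCK91.SP x).map (cokernel.π d)).hom z = 0
          rw [← Functor.map_comp, hz]
          haveI : (DCK91.SP x).PreservesZeroMorphisms := inferInstance
          rw [Functor.map_zero]
          rfl
        exact he
      exact subsingleton_of_forall_eq (0 : (DCK91.SP x).obj C) fun c => by
        obtain ⟨e, rfl⟩ := hs c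
        exact hk e
    refine ⟨⟨(CohB1.support C)ᶜ, (QC70.isClosed_support C).isOpen_compl⟩, J, hx, fun Q g hg hgz y hy => ?_⟩
    let g' : C ⟶ Q := cokernel.desc d g (Sigma.hom_ext _ _ fun i => by
      simp [d, hgz i.1 i.2])
    haveI : Epi g' := epi_of_epi_fac (cokernel.π_desc d g _)
    haveI := (DCK91.skyAdj y).isLeftAdjoint
    haveI : Epi ((DCK91.SP y).map g') := inferInstance
    have hs := (ModuleCat.epi_iff_surjective ((DCK91.SP y).map g')).1 inferInstance
    haveI : Subsingleton ((DCK91.SP y).obj C) := QC70.notMem_support_iff.1 hy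
    exact hs.subsingleton
  choose U J hxU hJ using key
  obtain ⟨t, ht⟩ := IsCompact.elim_finite_subcover isCompact_univ (fun x => (U x : Set X))
    (fun x => (U x).2) fun x _ => Set.mem_iUnion.mpr ⟨x, hxU x⟩
  refine ⟨t.biUnion J, fun Q g hg hgz => QC70.isZero_of_support_eq_empty ?_⟩
  refine Set.eq_empty_iff_forall_notMem.2 fun y => QC70.notMem_support_iff.2 ?_
  obtain ⟨x, hxt, hy⟩ := Set.mem_iUnion₂.mp (ht (Set.mem_univ y))
  exact hJ x Q g hg (fun i hi => hgz i (Finset.mem_biUnion.2 ⟨x, hxt, hi⟩)) y hy

end Groth.Agent.QCohPush72
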