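import Groth.Agent.StalkExact41.Spread
import Groth.Agent.FlatMor68.FlatSections
import Groth.Agent.PerfFib24.RelFlatBC
import Groth.Agent.GSS45.RelExt
import Groth.Agent.Frob53.DoubleCover
import Groth.Agent.KRR40.PnPullVanish
import Groth.Agent.QCohPush72.FlatAmp
import Groth.Agent.DerComp18.AwayHom

/-!
# Flat quasi-coherent modules cover every quasi-coherent module when affine opens meet in affine opens
-/

set_option autoImplicit false
set_option linter.style.haveILetI false
set_option backward.isDefEq.respectTransparency.types false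

noncomputable section

universe u

open CategoryTheory CategoryTheory.Limits AlgebraicGeometry TopologicalSpace

namespace Groth.Agent.QCohPush72

variable {X : Scheme.{u}}

/-- The inclusion of an affine open is affine when affine opens meet in affine opens. -/
theorem isAffineHom_opens_ι (hd : ∀ V W : X.Opens, IsAffineOpen V → IsAffineOpen W → IsAffineOpen (V ⊓ W))
    {V : X.Opens} (hV : IsAffineOpen V) : IsAffineHom V.ι :=
  ⟨fun W hW => (V.ι.isAffineOpen_iff_of_isOpenImmersion).1 (by
    rw [Scheme.Hom.image_preimage_eq_opensRange_inf, Scheme.Opens.opensRange_ι]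
    exact hd V W hV hW)⟩

/-- Free modules are flat. -/
theorem isFlat_free (κ : Type u) : FlatMod.IsFlat (∐ fun _ : κ => Coh.structureModule X) :=
  DCK91.flatMod_of_isFlat _ (Mod48.isFlat_of_isColimit_cofan (O := X.sheaf)
    (fun _ : κ => Coh.structureModule X) (fun _ => DerComp18.isFlat_unit') _ (coproductIsCoproduct _))

/-- Direct images of flat modules from an open are flat, over an open where the inclusion is affine. -/
theorem isFlatAt_pushforward_ι (V U : X.Opens) [IsAffineHom V.ι] (R : V.toScheme.Modules)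
    (hR : Coh.IsQCoh R) (h : ∀ v : V, V.ι v ∈ U → FlatMod.IsFlatAt R v) (x : X) (hx : x ∈ U) :
    FlatMod.IsFlatAt ((Scheme.Modules.pushforward V.ι).obj R) x := by
  refine (PerfAmp41.isFlatAt_restrict_iff U.ι _ ⟨x, hx⟩).1 ?_
  haveI : IsAffineHom (V.ι ∣_ U) := IsZariskiLocalAtTarget.restrict ‹IsAffineHom V.ι› U
  let M := (Scheme.Modules.restrictFunctor (V.ι ⁻¹ᵁ U).ι).obj R
  haveI : R.IsQuasicoherent := hR
  have hM : Coh.IsQCoh M := QC70.isQuasicoherent_of_iso
    ((Scheme.Modules.restrictFunctorIsoPullback (V.ι ⁻¹ᵁ U).ι).app R).symm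
    (QCPull72.isQuasicoherent_pullback _ R)
  have hMf : FlatMod.IsFlat M := fun v => (PerfAmp41.isFlatAt_restrict_iff _ R v).2 (h _ v.2)
  have h1 : FlatMod.IsFlatOver (𝟙 U.toScheme) ((Coh.push (V.ι ∣_ U)).obj M) :=
    (FlatMor68.FlatSections.t9349 (V.ι ∣_ U) (𝟙 _) M hM).1 (by
      rw [Category.comp_id]; exact PerfFib24.isFlatOver_of_isFlat (f := V.ι ∣_ U) (F := M) hMf)
  exact PerfAmp41.isFlatAt_of_iso ((GSS45.RelExt.pushRestrictIso V.ι U).app R).symm _
    (isFlat_of_isFlatOver_id _ h1 ⟨x, hx⟩)

/-- One step: a cover flat on `U` becomes a cover flat on `U` and on the affine open `V`. -/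
theorem exists_flat_step (hd : ∀ V W : X.Opens, IsAffineOpen V → IsAffineOpen W → IsAffineOpen (V ⊓ W))
    (U : X.Opens) {V : X.Opens} (hV : IsAffineOpen V) (P : X.Modules) (hP : Coh.IsQCoh P)
    (hf : ∀ x ∈ U, FlatMod.IsFlatAt P x) :
    ∃ (P' : X.Modules) (p : P' ⟶ P), Coh.IsQCoh P' ∧ Epi p ∧ ∀ x ∈ U ⊔ V, FlatMod.IsFlatAt P' x := by
  haveI := isAffineHom_opens_ι hd hV
  haveI : IsAffine V.toScheme := hV
  haveI hP' : P.IsQuasicoherent := hP
  let res := Scheme.Modules.restrictFunctor V.ι
  let push := Scheme.Modules.pushforward V.ι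
  let adj := Scheme.Modules.restrictAdjunction V.ι
  haveI hPV : (res.obj P).IsQuasicoherent := QC70.isQuasicoherent_of_iso
    ((Scheme.Modules.restrictFunctorIsoPullback V.ι).app P).symm (QCPull72.isQuasicoherent_pullback _ P)
  obtain ⟨κ, π, hπ⟩ := KRR40.exists_epi_free_affine (G := res.obj P) hPV
  let F := ∐ fun _ : κ => Coh.structureModule V.toScheme
  have hFf : FlatMod.IsFlat F := isFlat_free κ
  haveI hF : F.IsQuasicoherent := QC70.isQuasicoherent_coproduct _ fun _ =>
    Mero90.isQCoh_of_isInvertible EGA73.isInvertible_structureModule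
  haveI hR : (kernel π).IsQuasicoherent := QC70.isQuasicoherent_kernel π
  let SR : ShortComplex V.toScheme.Modules := ShortComplex.mk (kernel.ι π) π (kernel.condition π)
  have hSR : SR.ShortExact :=
    { exact := ShortComplex.exact_of_f_is_kernel _ (kernelIsKernel π)
      mono_f := inferInstance
      epi_g := hπ }
  haveI : SR.X₁.IsQuasicoherent := hR
  haveI hepi : Epi (push.map π) := (Frob53.shortExact_push_affine V.ι hSR).epi_g
  let η : P ⟶ push.obj (res.obj P) := adj.unit.app P
  let P' := pullback (push.map π) η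
  let p : P' ⟶ P := pullback.snd (push.map π) η
  have sq : IsPullback (pullback.snd (push.map π) η) (pullback.fst (push.map π) η) η (push.map π) :=
    (IsPullback.of_hasPullback (push.map π) η).flip
  haveI := isIso_kernel_map_of_isPullback sq
  let e : kernel p ≅ push.obj (kernel π) :=
    @asIso _ _ _ _ (kernel.map p (push.map π) _ _ sq.w) this ≪≫
      (IsLimit.conePointUniqueUpToIso (kernelIsKernel (push.map π))
        ((Frob53.shortExact_push_affine V.ι hSR).fIsKernel))
  let S : ShortComplex X.Modules := ShortComplex.mk (kernel.ι p) p (kernel.condition p)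
  haveI : Epi p := inferInstanceAs (Epi (pullback.snd (push.map π) η))
  have hS : S.ShortExact :=
    { exact := ShortComplex.exact_of_f_is_kernel _ (kernelIsKernel p)
      mono_f := inferInstance
      epi_g := ‹_› }
  haveI hk : (push.obj (kernel π)).IsQuasicoherent := QCqs72.isQuasicoherent_pushforward (M := kernel π) V.ι
  have hqS : Coh.IsQCoh P' := by
    haveI : S.X₁.IsQuasicoherent := QC70.isQuasicoherent_of_iso e.symm hk
    haveI : S.X₃.IsQuasicoherent := hP
    exact QC70.isQuasicoherent_X₂ S hS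
  refine ⟨P', p, hqS, inferInstance, fun x hx => ?_⟩
  rcases hx with hx | hx
  · refine (StalkExact41.flatAtClass x).X₂ S hS ?_ (hf x hx)
    refine PerfAmp41.isFlatAt_of_iso e.symm x (isFlatAt_pushforward_ι V U _ hR (fun v hv => ?_) x hx)
    let C := StalkExact41.flatAtClass (X := V.toScheme) v
    have h2 : C.P SR.X₂ := hFf v
    exact C.X₁ SR hSR h2
      ((PerfAmp41.isFlatAt_restrict_iff V.ι P v).2 (hf _ hv))
  · have hη : IsIso (res.map η) := by
      haveI := Scheme.Modules.restrictFunctorAdjCounitIso V.ι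
      haveI : IsIso adj.counit := by
        change IsIso (Scheme.Modules.restrictFunctorAdjCounitIso V.ι).hom
        infer_instance
      haveI : IsIso (res.map η ≫ adj.counit.app (res.obj P)) := by
        rw [adj.left_triangle_components]
        infer_instance
      exact IsIso.of_isIso_comp_right _ (adj.counit.app (res.obj P))
    haveI := DCX42.preservesFiniteLimits_restrict V.ι
    have sq' := (IsPullback.of_hasPullback (push.map π) η).map res
    haveI := sq'.isIso_fst_of_isIso hη
    let eV : res.obj P' ≅ F := asIso (res.map (pullback.fst (push.map π) η)) ≪≫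
      (Scheme.Modules.restrictFunctorAdjCounitIso V.ι).app F
    exact (PerfAmp41.isFlatAt_restrict_iff V.ι P' ⟨x, hx⟩).1 (PerfAmp41.isFlatAt_of_iso eV.symm _ (hFf _))

/-- Every quasi-coherent module is a quotient of a flat quasi-coherent one. -/
theorem exists_flat_qc_epi [CompactSpace X]
    (hd : ∀ V W : X.Opens, IsAffineOpen V → IsAffineOpen W → IsAffineOpen (V ⊓ W))
    (M : X.Modules) (hM : Coh.IsQCoh M) :
    ∃ (F : X.Modules) (π : F ⟶ M), Coh.IsQCoh F ∧ FlatMod.IsFlat F ∧ Epi π := by
  choose V hV hxV _ using fun x : X =>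
    exists_isAffineOpen_mem_and_subset (x := x) (U := (⊤ : X.Opens)) trivial
  obtain ⟨t, ht⟩ := IsCompact.elim_finite_subcover isCompact_univ (fun x => (V x : Set X)) (fun x => (V x).2)
    fun x _ => Set.mem_iUnion.2 ⟨x, hxV x⟩
  classical
  have key : ∀ s : Finset X, ∃ (F : X.Modules) (π : F ⟶ M), Coh.IsQCoh F ∧ Epi π ∧
      ∀ x ∈ s.sup V, FlatMod.IsFlatAt F x := fun s => by
    induction s using Finset.induction_on with
    | empty => exact ⟨M, 𝟙 M, hM, inferInstance, fun x hx => by simp at hx⟩
    | @insert a s _ ih =>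
      obtain ⟨F, π, hF, hπ, hf⟩ := ih
      obtain ⟨F', p, hF', hp, hf'⟩ := exists_flat_step hd (s.sup V) (hV a) F hF hf
      refine ⟨F', p ≫ π, hF', epi_comp p π, fun x hx => hf' x ?_⟩
      rwa [Finset.sup_insert, sup_comm] at hx
  obtain ⟨F, π, hF, hπ, hf⟩ := key t
  refine ⟨F, π, hF, fun x => hf x ?_, hπ⟩
  obtain ⟨i, hi, hxi⟩ := Set.mem_iUnion₂.1 (ht (Set.mem_univ x))
  exact (Finset.le_sup (f := V) hi) hxi

end Groth.Agent.QCohPush72
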