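import Groth.Agent.QCohPush72.RelPerf
import Groth.Agent.DCX42.Affine
import Groth.Agent.PropPush72.Basic
import Groth.Agent.PerfAmp41.Restrict

/-!
# `Rf_*(E ⊗^L G)` is perfect (Noetherian base)
-/

set_option autoImplicit false
set_option linter.style.haveILetI false
set_option backward.isDefEq.respectTransparency.types false
set_option maxHeartbeats 1000000

noncomputable section

universe u

open CategoryTheory CategoryTheory.Limits CategoryTheory.Pretriangulated DerivedCategory AlgebraicGeometry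
  TopologicalSpace
open scoped ZeroObject TensorProduct

attribute [local instance] HasDerivedCategory.standard

namespace Groth.Agent.QCohPush72

variable {X Y : Scheme.{u}}

/-- Restriction commutes with `- ⊗^L G`. -/
theorem nonempty_resD_LTensorMod {U : Scheme.{u}} (j : U ⟶ X) [IsOpenImmersion j] (G : X.Modules)
    [DCoh.HasLTensorMod G] [DCoh.HasLTensorMod ((Scheme.Modules.pullback j).obj G)] (E : DCoh.D X) :
    Nonempty ((DCX42.resD j).obj ((DCoh.LTensorMod G).obj E) ≅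
      (DCoh.LTensorMod ((Scheme.Modules.pullback j).obj G)).obj ((DCX42.resD j).obj E)) := by
  obtain ⟨P, p, ⟨hP, hPf⟩, hp⟩ := DCK91.res₀ X (DerivedCategory.Q.objPreimage E)
  let e : DCoh.toD X P ≅ E := (@asIso _ _ _ _ _ hp) ≪≫ DerivedCategory.Q.objObjPreimageIso E
  let G' := (Scheme.Modules.pullback j).obj G
  let A := (DCX42.resCx j).obj P
  let eA : A ≅ ((Scheme.Modules.pullback j).mapHomologicalComplex (ComplexShape.up ℤ)).obj P :=
    (NatIso.mapHomologicalComplex (Scheme.Modules.restrictFunctorIsoPullback j) (ComplexShape.up ℤ)).app P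
  have hA : ModSite.IsKFlat (O := U.sheaf) A := Mod48.isKFlat_of_iso eA.symm (DCK91.isKFlat_pullback j P hP)
  have hAf : ∀ i, ModSite.IsFlat (O := U.sheaf) (A.X i) := fun i =>
    DCK91.isFlat_of_flatMod _ (PerfAmp41.isFlat_restrict j (DCK91.flatMod_of_isFlat _ (hPf i)))
  exact ⟨(DCX42.resD j).mapIso ((DCoh.LTensorMod G).mapIso e.symm ≪≫ DCK91.ltmIso G P hP hPf) ≪≫
    DCX42.resQ j (((DCoh.tensorRightMod G).mapHomologicalComplex (ComplexShape.up ℤ)).obj P) ≪≫
    DerivedCategory.Q.mapIso (HomologicalComplex.Hom.isoOfComponents (fun i => (resTensIso j G).app (P.X i))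
      (fun i k _ => ((resTensIso j G).hom.naturality (P.d i k)).symm) :
      (DCX42.resCx j).obj (((DCoh.tensorRightMod G).mapHomologicalComplex (ComplexShape.up ℤ)).obj P) ≅
        ((DCoh.tensorRightMod G').mapHomologicalComplex (ComplexShape.up ℤ)).obj A) ≪≫
    (DCK91.ltmIso G' A hA hAf).symm ≪≫
    (DCoh.LTensorMod G').mapIso ((DCX42.resQ j P).symm ≪≫ (DCX42.resD j).mapIso e)⟩

/-- `- ⊗^L 0 = 0`. -/
theorem isZero_LTensorMod_of_isZero (G : X.Modules) (hG : IsZero G) [DCoh.HasLTensorMod G] (E : DCoh.D X) :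
    IsZero ((DCoh.LTensorMod G).obj E) := by
  obtain ⟨P, p, ⟨hP, hPf⟩, hp⟩ := DCK91.res₀ X (DerivedCategory.Q.objPreimage E)
  let e : DCoh.toD X P ≅ E := (@asIso _ _ _ _ _ hp) ≪≫ DerivedCategory.Q.objObjPreimageIso E
  refine IsZero.of_iso ?_ ((DCoh.LTensorMod G).mapIso e.symm ≪≫ DCK91.ltmIso G P hP hPf)
  refine Mod48.isZero_of_isZero_homology fun i => DCK91.isZero_HD_toD _ i ?_
  exact ((DCoh.tensorBi (X := X)).obj (P.X i)).map_isZero hG

/-- Flat models of `E ⊗^L G` with coherent terms. -/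
theorem isCohD_LTensorMod [IsLocallyNoetherian X] [CompactSpace X] (E : DCoh.D X) (hE : DCoh.IsPerfect E)
    (G : X.Modules) (hG : Coh.IsCoh G) [DCoh.HasLTensorMod G] :
    DCoh.IsCohD ((DCoh.LTensorMod G).obj E) ∧
      ∃ a b : ℤ, ((DCoh.LTensorMod G).obj E).IsGE a ∧ ((DCoh.LTensorMod G).obj E).IsLE b := by
  constructor
  · intro i
    refine DCX42.isCoh_of_local _ fun x => ?_
    obtain ⟨V, hV, hx, -⟩ := exists_isAffineOpen_mem_and_subset (x := x) (U := (⊤ : X.Opens)) trivial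
    refine ⟨V, hx, ?_⟩
    haveI : IsAffine V.toScheme := hV
    let G' := (Scheme.Modules.pullback V.ι).obj G
    haveI := DCK91.hasLTensorMod G'
    obtain ⟨e⟩ := nonempty_resD_LTensorMod V.ι G E
    obtain ⟨P, hP, ⟨eP⟩⟩ := hasPerfRep_of_isAffine (DCX42.isPerfect_resD hE V.ι)
    obtain ⟨⟨c, d, hcd⟩, hPf⟩ := hP
    obtain ⟨hKP, hfP⟩ := DCK91.kff_of_le P d (fun i hi => hcd i (Or.inr hi))
      (fun i => DCK91.flatMod_of_isFlat _ (PerfAmp41.isFinLocFree_flat (hPf i)))
    have hT : ∀ n, Coh.IsCoh ((((DCoh.tensorRightMod G').mapHomologicalComplex (ComplexShape.up ℤ)).obj P).X n) :=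
      fun n => Amp73.isCoh_tensorMod (DCX42.isCoh_of_isFP (Props58.LocFree.isFP_of_isFinLocFree (hPf n)))
        (E4O.isCoh_pullback V.ι G hG)
    exact QC70.isCoh_of_iso
      (((homologyFunctorFactors V.toScheme.Modules i).app _).symm ≪≫
        (homologyFunctor V.toScheme.Modules i).mapIso
          ((DCK91.ltmIso G' P hKP hfP).symm ≪≫ (DCoh.LTensorMod G').mapIso eP.symm ≪≫ e.symm) ≪≫
        (Mod48.homologyMapDerivedIso (Scheme.Modules.restrictFunctor V.ι) i).app _)
      (DCX42.isCoh_homology _ hT i)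
  · obtain ⟨a, b, E', hv, hfl, ⟨e⟩⟩ := PropPush72.exists_flatAmp_of_isPerfect hE
    obtain ⟨hK, hf⟩ := DCK91.kff_of_le E' b (fun i hi => hv i (Or.inr hi)) hfl
    let e' := ((DCoh.LTensorMod G).mapIso e).symm ≪≫ DCK91.ltmIso G E' hK hf
    have hz : ∀ i, (i < a ∨ b < i) → IsZero (DCoh.HD ((DCoh.LTensorMod G).obj E) i) := fun i hi =>
      (DCK91.isZero_HD_toD _ i ((DCoh.tensorRightMod G).map_isZero (hv i hi))).of_iso
        ((homologyFunctor X.Modules i).mapIso e')
    exact ⟨a, b, (DerivedCategory.isGE_iff _ _).2 fun i hi => hz i (Or.inl hi),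
      (DerivedCategory.isLE_iff _ _).2 fun i hi => hz i (Or.inr hi)⟩

/-- The cohomology of `E ⊗^L G` is supported in the support of `G`. -/
theorem support_HD_LTensorMod_subset (E : DCoh.D X) (G : X.Modules) [DCoh.HasLTensorMod G]
    (hZ : IsClosed (CohB1.support G)) (i : ℤ) :
    CohB1.support (DCoh.HD ((DCoh.LTensorMod G).obj E) i) ⊆ CohB1.support G := by
  intro x hx
  by_contra hn
  let V : X.Opens := ⟨(CohB1.support G)ᶜ, hZ.isOpen_compl⟩
  let G' := (Scheme.Modules.pullback V.ι).obj G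
  haveI := DCK91.hasLTensorMod G'
  have hG' : IsZero G' := by
    refine IsZero.of_iso ?_ ((Scheme.Modules.restrictFunctorIsoPullback V.ι).app G).symm
    refine QC70.isZero_of_support_eq_empty (Set.eq_empty_iff_forall_notMem.mpr fun z hz => z.2 fun hs =>
      hz (((Scheme.Modules.restrictStalkNatIso V.ι z).app G).addCommGroupIsoToAddEquiv.toEquiv.subsingleton_congr.mpr hs))
  obtain ⟨e⟩ := nonempty_resD_LTensorMod V.ι G E
  have hz : IsZero ((Scheme.Modules.restrictFunctor V.ι).obj (DCoh.HD ((DCoh.LTensorMod G).obj E) i)) :=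
    ((homologyFunctor _ i).map_isZero (isZero_LTensorMod_of_isZero G' hG' _)).of_iso
      (((Mod48.homologyMapDerivedIso (Scheme.Modules.restrictFunctor V.ι) i).app _).symm ≪≫
        (homologyFunctor _ i).mapIso e)
  refine hx ?_
  refine ((Scheme.Modules.restrictStalkNatIso V.ι (⟨x, hn⟩ : V)).app
    (DCoh.HD ((DCoh.LTensorMod G).obj E) i)).addCommGroupIsoToAddEquiv.toEquiv.subsingleton_congr.mp ?_
  exact AddCommGrpCat.subsingleton_of_isZero
    (G := (TopCat.Presheaf.stalkFunctor AddCommGrpCat.{u} (⟨x, hn⟩ : V)).obj ((Scheme.Modules.toPresheaf V.toScheme).obj _))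
    ((TopCat.Presheaf.stalkFunctor AddCommGrpCat.{u} (⟨x, hn⟩ : V)).map_isZero
      ((Scheme.Modules.toPresheaf V.toScheme).map_isZero hz))

/-- An object supported in an open is pushed from it. -/
theorem nonempty_Rpush_of_isZero_resD (f : X ⟶ Y) [DCoh.HasRpush f] (U V : X.Opens) (hUV : U ⊔ V = ⊤)
    (K : DCoh.D X) (hK : IsZero ((DCX42.resD V.ι).obj K)) [DCoh.HasRpush (U.ι ≫ f)] :
    Nonempty ((DCoh.Rpush f).obj K ≅ (DCoh.Rpush (U.ι ≫ f)).obj ((DCX42.resD U.ι).obj K)) := by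
  haveI := DCX42.hasRpush U.ι
  haveI := DCX42.hasRpush V.ι
  haveI := DCX42.hasRpush (U ⊓ V).ι
  obtain ⟨a, b, c, hT⟩ := DCX42.exists_mv_triangle U V hUV K
  have hW : IsZero ((DCX42.resD (U ⊓ V).ι).obj K) := by
    refine IsZero.of_iso ?_ (((DCX42.resDCongr (X.homOfLE_ι (inf_le_right : U ⊓ V ≤ V))).app K).symm ≪≫
      ((DCX42.resDComp (X.homOfLE (inf_le_right : U ⊓ V ≤ V)) V.ι).app K).symm)
    exact (DCX42.resD (X.homOfLE (inf_le_right : U ⊓ V ≤ V))).map_isZero hK
  have hA := CohDer42.RlimRight.additive_push (DCoh.Rpush V.ι) (PropPush72.αu V.ι) (PropPush72.hα V.ι)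
    CohDer42.RdAdj.enoughKInj
  haveI := PropPush72.additive_Rpush V.ι
  haveI := PropPush72.additive_Rpush (U ⊓ V).ι
  have z3 : IsZero ((DCoh.Rpush (U ⊓ V).ι).obj ((DCoh.restrictD (U ⊓ V).ι).obj K)) :=
    (DCoh.Rpush (U ⊓ V).ι).map_isZero hW
  haveI : IsIso a := (Triangle.isZero₃_iff_isIso₁ _ hT).1 z3
  let e : K ≅ (DCoh.Rpush U.ι).obj ((DCoh.restrictD U.ι).obj K) := asIso a ≪≫
    biprod.uniqueUpToIso _ _ (BinaryBiproduct.isBilimit _ _) ≪≫ ?_
  · obtain ⟨eU⟩ := DCX42.Rpush_comp U.ι f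
    exact ⟨(DCoh.Rpush f).mapIso e ≪≫ eU.app _⟩
  · exact (isoBiprodZero ((DCoh.Rpush V.ι).map_isZero hK)).symm

/-- Perfectness over an affine Noetherian base. -/
theorem isPerfect_Rpush_of_coherent [IsAffine Y] (f : X ⟶ Y)
    [IsLocallyNoetherian Y] [DCoh.HasRpush f] (K : DCoh.D X) (hfin : FinAmp ((DCoh.Rpush f).obj K))
    (hc : DCoh.IsCohD ((DCoh.Rpush f).obj K)) :
    DCoh.IsPerfect ((DCoh.Rpush f).obj K) := by
  obtain ⟨a, b, hab, hfl⟩ := hfin
  have hb : ((DCoh.Rpush f).obj K).IsLE b := (DerivedCategory.isLE_iff _ _).2 fun i hi => by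
    obtain ⟨F, hv, -, ⟨e⟩⟩ := hfl
    exact (DCK91.isZero_HD_toD F i (hv i (Or.inr hi))).of_iso ((homologyFunctor _ i).mapIso e.symm)
  exact DCX42.isPerfect_of_flatAmp hfl
    (DCX42.isPC_of_coherent (fun i => (hc i).1) (fun i _ => hc i) hb)

theorem flat_of_surjective {R R' M : Type*} [CommRing R] [CommRing R'] [Algebra R R'] [AddCommGroup M]
    [Module R M] [Module R' M] [IsScalarTower R R' M] (hs : Function.Surjective (algebraMap R R'))
    [Module.Flat R M] : Module.Flat R' M := by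
  let i : M →ₗ[R'] R' ⊗[R] M :=
    { toFun := fun m => 1 ⊗ₜ m
      map_add' := fun a b => TensorProduct.tmul_add _ _ _
      map_smul' := fun r' m => by
        obtain ⟨r, rfl⟩ := hs r'
        simp [algebraMap_smul, TensorProduct.tmul_smul] }
  let p : R' ⊗[R] M →ₗ[R'] M := LinearMap.liftBaseChange R' (LinearMap.id : M →ₗ[R] M)
  exact Module.Flat.of_retract i p (by ext m; simp [i, p])

/-- Flatness over an open subscheme of the base. -/
theorem isFlatOverAt_of_comp_openImmersion {X Y S : Scheme.{u}} (g : X ⟶ Y) (i : Y ⟶ S) [IsOpenImmersion i]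
    (M : X.Modules) (x : X) (h : FlatMod.IsFlatOverAt (g ≫ i) M x) : FlatMod.IsFlatOverAt g M x := by
  letI := FlatMod.moduleStalkOver g M x
  let σ := i.stalkMap (g.base x)
  letI : Algebra (S.presheaf.stalk (i.base (g.base x))) (Y.presheaf.stalk (g.base x)) := σ.hom.toAlgebra
  letI : Module (S.presheaf.stalk (i.base (g.base x))) (M.presheaf.stalk x) :=
    Module.compHom (M.presheaf.stalk x) σ.hom
  haveI : IsScalarTower (S.presheaf.stalk (i.base (g.base x))) (Y.presheaf.stalk (g.base x))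
      (M.presheaf.stalk x) := IsScalarTower.of_algebraMap_smul fun _ _ => rfl
  haveI : Module.Flat (S.presheaf.stalk (i.base (g.base x))) (M.presheaf.stalk x) := by
    unfold FlatMod.IsFlatOverAt at h
    refine Eq.mp ?_ h
    congr 1
    refine Module.ext' _ _ fun r m => ?_
    change ((g ≫ i).stalkMap x).hom r • m = (g.stalkMap x).hom (σ.hom r) • m
    rw [Scheme.Hom.stalkMap_comp]
    rfl
  exact flat_of_surjective (R := S.presheaf.stalk (i.base (g.base x))) (R' := Y.presheaf.stalk (g.base x))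
    (ConcreteCategory.bijective_of_isIso σ).2


/-- Sheaves vanishing on both members of a cover vanish. -/
theorem isZero_of_restrict (U V : X.Opens) (hUV : U ⊔ V = ⊤) (M : X.Modules)
    (hU : IsZero ((Scheme.Modules.restrictFunctor U.ι).obj M)) (hV : IsZero ((Scheme.Modules.restrictFunctor V.ι).obj M)) :
    IsZero M := by
  have key : ∀ (W : X.Opens) (_ : IsZero ((Scheme.Modules.restrictFunctor W.ι).obj M)) (x : W),
      x.1 ∉ CohB1.support M := fun W hW x hx => by
    refine hx ?_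
    refine ((Scheme.Modules.restrictStalkNatIso W.ι x).app M).addCommGroupIsoToAddEquiv.toEquiv.subsingleton_congr.mp ?_
    exact AddCommGrpCat.subsingleton_of_isZero
      (G := (TopCat.Presheaf.stalkFunctor AddCommGrpCat.{u} x).obj ((Scheme.Modules.toPresheaf W.toScheme).obj _))
      ((TopCat.Presheaf.stalkFunctor AddCommGrpCat.{u} x).map_isZero
        ((Scheme.Modules.toPresheaf W.toScheme).map_isZero hW))
  refine QC70.isZero_of_support_eq_empty (Set.eq_empty_iff_forall_notMem.mpr fun x => ?_)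
  have hx : x ∈ U ⊔ V := by rw [hUV]; trivial
  rcases hx with hx | hx
  exacts [key U hU ⟨x, hx⟩, key V hV ⟨x, hx⟩]

/-- `Rf_*(E ⊗^L G)` is perfect. -/
theorem isPerfect_Rpush_LTensorMod {S : Scheme.{u}} [IsNoetherian S] (f : X ⟶ S) [LocallyOfFiniteType f]
    (E : DCoh.D X) (hE : DCoh.IsPerfect E) (G : X.Modules) (hG : Coh.IsCoh G) (hflat : FlatMod.IsFlatOver f G)
    (hsupp : ClSub.IsProperOver f (CohB1.support G)) [DCoh.HasLTensorMod G] [DCoh.HasRpush f] :
    DCoh.IsPerfect ((DCoh.Rpush f).obj ((DCoh.LTensorMod G).obj E)) := by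
  haveI : IsLocallyNoetherian X := LocallyOfFiniteType.isLocallyNoetherian f
  obtain ⟨hc, hp⟩ := hsupp
  have hcpt : IsCompact (CohB1.support G) := by
    let I := Scheme.IdealSheafData.vanishingIdeal (X := X) ⟨CohB1.support G, hc⟩
    haveI := hp
    haveI : CompactSpace I.subscheme := QuasiCompact.compactSpace_of_compactSpace (I.subschemeι ≫ f)
    have := isCompact_range I.subschemeι.continuous
    rwa [SchBasics.range_vanishingIdeal_subschemeι] at this
  obtain ⟨U, hUc, hsub⟩ : ∃ U : X.Opens, IsCompact (U : Set X) ∧ CohB1.support G ⊆ U := by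
    obtain ⟨t, ht⟩ := hcpt.elim_finite_subcover (fun W : X.affineOpens => (W.1 : Set X)) (fun W => W.1.isOpen)
      fun x _ => by
        obtain ⟨W, hW, hx, -⟩ := exists_isAffineOpen_mem_and_subset (x := x) (U := (⊤ : X.Opens)) trivial
        exact Set.mem_iUnion.mpr ⟨⟨W, hW⟩, hx⟩
    refine ⟨⟨⋃ W ∈ t, (W.1 : Set X), isOpen_biUnion fun W _ => W.1.isOpen⟩, ?_, ht⟩
    exact t.finite_toSet.isCompact_biUnion fun W _ => W.2.isCompact
  let V : X.Opens := ⟨(CohB1.support G)ᶜ, hc.isOpen_compl⟩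
  have hUV : U ⊔ V = ⊤ := by
    ext x
    simp only [Opens.coe_sup, Opens.coe_top, Set.mem_univ, iff_true]
    by_cases hx : x ∈ CohB1.support G
    exacts [Or.inl (hsub hx), Or.inr hx]
  let K := (DCoh.LTensorMod G).obj E
  let GU := (Scheme.Modules.pullback U.ι).obj G
  let GV := (Scheme.Modules.pullback V.ι).obj G
  haveI := DCK91.hasLTensorMod GU
  haveI := DCK91.hasLTensorMod GV
  have hGV : IsZero GV := by
    refine IsZero.of_iso ?_ ((Scheme.Modules.restrictFunctorIsoPullback V.ι).app G).symm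
    refine QC70.isZero_of_support_eq_empty (Set.eq_empty_iff_forall_notMem.mpr fun z hz => z.2 fun hs =>
      hz (((Scheme.Modules.restrictStalkNatIso V.ι z).app G).addCommGroupIsoToAddEquiv.toEquiv.subsingleton_congr.mpr hs))
  have hKV : IsZero ((DCX42.resD V.ι).obj K) :=
    (isZero_LTensorMod_of_isZero GV hGV _).of_iso (nonempty_resD_LTensorMod V.ι G E).some
  haveI : CompactSpace U.toScheme := isCompact_iff_compactSpace.mp hUc
  haveI : IsLocallyNoetherian U.toScheme := LocallyOfFiniteType.isLocallyNoetherian (U.ι ≫ f)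
  haveI : IsNoetherian U.toScheme := { }
  have hEU := DCX42.isPerfect_resD hE U.ι
  have hGU : Coh.IsCoh GU := E4O.isCoh_pullback U.ι G hG
  obtain ⟨eU⟩ := nonempty_resD_LTensorMod U.ι G E
  obtain ⟨hcU, a, b, haU, hbU⟩ := isCohD_LTensorMod ((DCX42.resD U.ι).obj E) hEU GU hGU
  let hres : ∀ (W : X.Opens) (i : ℤ), (Scheme.Modules.restrictFunctor W.ι).obj (DCoh.HD K i) ≅
      DCoh.HD ((DCX42.resD W.ι).obj K) i := fun W i =>
    ((Mod48.homologyMapDerivedIso (Scheme.Modules.restrictFunctor W.ι) i).app K).symm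
  have hz : ∀ i, (i < a ∨ b < i) → IsZero (DCoh.HD K i) := fun i hi => by
    refine isZero_of_restrict U V hUV _ ?_ (((homologyFunctor _ i).map_isZero hKV).of_iso (hres V i))
    refine IsZero.of_iso ?_ (hres U i ≪≫ (homologyFunctor _ i).mapIso eU)
    rcases hi with hi | hi
    · exact DerivedCategory.isZero_of_isGE _ a i hi
    · exact DerivedCategory.isZero_of_isLE _ b i hi
  have hK : DCoh.IsCohD K := fun i => by
    refine DCX42.isCoh_of_local _ fun x => ?_
    by_cases hx : x ∈ CohB1.support G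
    · exact ⟨U, hsub hx, QC70.isCoh_of_iso ((homologyFunctor _ i).mapIso eU.symm ≪≫ (hres U i).symm) (hcU i)⟩
    · exact ⟨V, hx, QC70.isCoh_of_isZero (((homologyFunctor _ i).map_isZero hKV).of_iso (hres V i))⟩
  have hcoh : DCoh.IsCohD ((DCoh.Rpush f).obj K) :=
    (PropPush72.isCohD_Rpush_bounded f K a b
      ((DerivedCategory.isGE_iff _ _).2 fun i hi => hz i (Or.inl hi))
      ((DerivedCategory.isLE_iff _ _).2 fun i hi => hz i (Or.inr hi)) hK
      fun i => Coh69.PO.mono ⟨hc, hp⟩ (haveI := (hK i).2; QC70.isClosed_support _)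
        (support_HD_LTensorMod_subset E G hc i)).1
  let h := U.ι ≫ f
  haveI : DCoh.HasRpush h := DCX42.hasRpush h
  obtain ⟨e1⟩ := nonempty_Rpush_of_isZero_resD f U V hUV K hKV
  refine DCX42.isPerfect_of_cover _ fun s => ?_
  obtain ⟨W, hW, hs, -⟩ := exists_isAffineOpen_mem_and_subset (x := s) (U := (⊤ : S.Opens)) trivial
  refine ⟨W.toScheme, W.ι, inferInstance, ⟨⟨s, hs⟩, rfl⟩, ?_⟩
  haveI : IsAffine W.toScheme := hW
  haveI : DCoh.HasRpush (h ∣_ W) := DCX42.hasRpush _
  let j := (h ⁻¹ᵁ W).ι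
  haveI : CompactSpace (h ⁻¹ᵁ W).toScheme :=
    isCompact_iff_compactSpace.mp (NoetherianSpace.isCompact _)
  haveI : IsLocallyNoetherian W.toScheme := LocallyOfFiniteType.isLocallyNoetherian W.ι
  let G2 := (Scheme.Modules.pullback j).obj GU
  haveI := DCK91.hasLTensorMod G2
  obtain ⟨e3⟩ := nonempty_resD_LTensorMod j GU ((DCX42.resD U.ι).obj E)
  obtain ⟨e2⟩ := DCX42.nonempty_Rpush_restrict h W
  let e : (DCX42.resD W.ι).obj ((DCoh.Rpush f).obj K) ≅
      (DCoh.Rpush (h ∣_ W)).obj ((DCoh.LTensorMod G2).obj ((DCX42.resD j).obj ((DCX42.resD U.ι).obj E))) :=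
    (DCX42.resD W.ι).mapIso (e1 ≪≫ (DCoh.Rpush h).mapIso eU) ≪≫ e2.app _ ≪≫ (DCoh.Rpush (h ∣_ W)).mapIso e3
  have hc' : DCoh.IsCohD ((DCoh.Rpush (h ∣_ W)).obj
      ((DCoh.LTensorMod G2).obj ((DCX42.resD j).obj ((DCX42.resD U.ι).obj E)))) := fun i =>
    QC70.isCoh_of_iso (((Scheme.Modules.restrictFunctorIsoPullback W.ι).app _).symm ≪≫ ((Mod48.homologyMapDerivedIso (Scheme.Modules.restrictFunctor W.ι) i).app _).symm ≪≫ (homologyFunctor _ i).mapIso e)
      (E4O.isCoh_pullback W.ι _ (hcoh i))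
  refine DCX42.isPerfect_of_iso e.symm (isPerfect_Rpush_of_coherent (h ∣_ W) _ ?_ hc')
  refine finAmp_Rpush_LTensorMod (h ∣_ W) _ (DCX42.isPerfect_resD hEU j) G2 (E4O.isCoh_pullback j GU hGU).1
    fun z => isFlatOverAt_of_comp_openImmersion (h ∣_ W) W.ι _ z ?_
  rw [morphismRestrict_ι]
  refine (FlatMor68.PullbackStalk.t9350 j h GU hGU.1 z
    (RingHom.Flat.of_bijective (ConcreteCategory.bijective_of_isIso (j.stalkMap z)))).1 ?_
  exact (FlatMor68.PullbackStalk.t9350 U.ι f G hG.1 (j.base z)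
    (RingHom.Flat.of_bijective (ConcreteCategory.bijective_of_isIso (U.ι.stalkMap (j.base z))))).1 (hflat _)

end Groth.Agent.QCohPush72
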