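import Groth.Agent.QCohPush72.TensModCx
import Groth.Agent.QCohPush72.FinJoint
import Groth.Agent.QCohPush72.QCRep
import Groth.Agent.QCohPush72.AffineReflect
import Groth.Agent.QCohPush72.Main
import Groth.Agent.DCX42.TopH
import Groth.Agent.DCX42.PushAdj
import Groth.Agent.HTor49.CohPC
import Groth.Agent.SubMod72.Main
import Groth.Agent.S4342

/-!
# Pseudo-coherence of `Rf_*(E ⊗^L G)` by dévissage through a Noetherian model
-/

set_option autoImplicit false
set_option linter.style.haveILetI false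
set_option backward.isDefEq.respectTransparency.types false

noncomputable section

universe u

open CategoryTheory CategoryTheory.Limits CategoryTheory.Pretriangulated DerivedCategory AlgebraicGeometry
  TopologicalSpace Opposite
open scoped ZeroObject

attribute [local instance] HasDerivedCategory.standard

namespace Groth.Agent.QCohPush72

variable {X X₀ Y : Scheme.{u}}

/-- A morphism from an object `≤ b` to a module in degree `b` is detected on `H^b`. -/
theorem eq_zero_of_homology_top_eq_zero {D : DCoh.D X} {b : ℤ} (hD : D.IsLE b) {Q : X.Modules}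
    (g : D ⟶ (singleFunctor X.Modules b).obj Q) (h : (homologyFunctor X.Modules b).map g = 0) : g = 0 := by
  let t : Triangulated.TStructure (DCoh.D X) := TStructure.t
  haveI : t.IsLE D b := hD
  have hW1 : t.IsLE ((t.truncGE b).obj D) b := inferInstance
  have hW2 : t.IsGE ((t.truncGE b).obj D) b := inferInstance
  obtain ⟨M, ⟨e⟩⟩ := exists_iso_singleFunctor_obj_of_isGE_of_isLE ((t.truncGE b).obj D) b
  have hLT : t.IsLE ((t.truncLT b).obj D) (b - 1) := t.isLE_truncLT_obj D b (b - 1) (by omega)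
  have hQ : t.IsGE ((singleFunctor X.Modules b).obj Q) b := (inferInstance : ((singleFunctor X.Modules b).obj Q).IsGE b)
  obtain ⟨g', hg'⟩ : ∃ g' : (t.truncGE b).obj D ⟶ (singleFunctor X.Modules b).obj Q,
      g = (t.truncGEπ b).app D ≫ g' :=
    Triangle.yoneda_exact₂ _ (t.triangleLTGE_distinguished b D) g
      (@Triangulated.TStructure.zero _ _ _ _ _ _ _ t _ _ _ (b - 1) b (by omega) hLT hQ)
  obtain ⟨k, hk⟩ := (singleFunctor X.Modules b).map_surjective (e.inv ≫ g')
  have := Mod48.isIso_homology_truncGEπ D b b le_rfl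
  have h' : (homologyFunctor X.Modules b).map g' = 0 := by
    rw [← cancel_epi ((homologyFunctor X.Modules b).map ((t.truncGEπ b).app D)), comp_zero,
      ← Functor.map_comp]
    exact (congrArg _ hg'.symm).trans h
  have hk0 : k = 0 := by
    apply (singleFunctor X.Modules b).map_injective
    have : (singleFunctor X.Modules b ⋙ homologyFunctor X.Modules b).map k = 0 := by
      rw [Functor.comp_map, hk, Functor.map_comp, h', comp_zero]
    have hn := (singleFunctorCompHomologyFunctorIso X.Modules b).hom.naturality k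
    rw [this, zero_comp] at hn
    have hk' : k = 0 := by
      rw [← cancel_epi ((singleFunctorCompHomologyFunctorIso X.Modules b).hom.app M), comp_zero]
      exact hn.symm
    rw [hk']
  have : g' = 0 := by
    rw [← cancel_epi e.inv, ← hk, hk0, comp_zero]
    exact Functor.map_zero _ _ _
  rw [hg', this, comp_zero]

/-- A quotient of the top cohomology is realised by a morphism. -/
theorem exists_hom_single_of_top {D : DCoh.D X} {b : ℤ} (hD : D.IsLE b) {Q : X.Modules}
    (p : DCoh.HD D b ⟶ Q) : ∃ ψ : D ⟶ (singleFunctor X.Modules b).obj Q,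
      (homologyFunctor X.Modules b).map ψ ≫ (singleFunctorCompHomologyFunctorIso X.Modules b).hom.app Q = p := by
  let t : Triangulated.TStructure (DCoh.D X) := TStructure.t
  haveI : t.IsLE D b := hD
  have hW1 : t.IsLE ((t.truncGE b).obj D) b := inferInstance
  have hW2 : t.IsGE ((t.truncGE b).obj D) b := inferInstance
  obtain ⟨M, ⟨e⟩⟩ := exists_iso_singleFunctor_obj_of_isGE_of_isLE ((t.truncGE b).obj D) b
  have := Mod48.isIso_homology_truncGEπ D b b le_rfl
  let c := singleFunctorCompHomologyFunctorIso X.Modules b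
  let p' : M ⟶ Q := c.inv.app M ≫ (homologyFunctor X.Modules b).map e.inv ≫
    inv ((homologyFunctor X.Modules b).map ((t.truncGEπ b).app D)) ≫ p
  refine ⟨(t.truncGEπ b).app D ≫ e.hom ≫ (singleFunctor X.Modules b).map p', ?_⟩
  have hn := c.hom.naturality p'
  rw [Functor.map_comp, Functor.map_comp, Category.assoc, Category.assoc]
  refine (congrArg (fun t' => _ ≫ _ ≫ t') hn).trans ?_
  simp only [p', Functor.id_map, Iso.hom_inv_id_app_assoc]
  exact (congrArg (_ ≫ ·) (Iso.map_hom_inv_id_assoc (F := homologyFunctor X.Modules b) e _)).trans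
    (IsIso.hom_inv_id_assoc _ _)

/-- Morphisms out of a quasi-coherent module are detected on affine sections. -/
theorem eq_zero_of_affine_sections {Z Q : X.Modules} (g : Z ⟶ Q)
    (h : ∀ (U : X.affineOpens) (s : Z.val.obj (op (U : X.Opens))), (g.val.app (op (U : X.Opens))).hom s = 0) :
    g = 0 := by
  refine Scheme.Modules.hom_ext _ _ fun W => ?_
  ext s
  refine QC70.section_ext Q _ 0 fun p hp => ?_
  obtain ⟨U, hU, hpU, hUW⟩ := exists_isAffineOpen_mem_and_subset (x := p) (U := W) hp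
  refine ⟨U, hUW, hpU, ?_⟩
  rw [QC70.res_zero]
  exact (QC70.app_res g hUW s).symm.trans (h ⟨U, hU⟩ _)

/-- Triangles are preserved by `Rf_*(- ⊗^L G)`. -/
theorem exists_pushTens_triangle (f : X ⟶ Y) [DCoh.HasRpush f] (G : X.Modules) [DCoh.HasLTensorMod G]
    (T : Triangle (DCoh.D X)) (hT : T ∈ distTriang (DCoh.D X)) :
    ∃ T' : Triangle (DCoh.D Y), T' ∈ distTriang (DCoh.D Y) ∧
      Nonempty (T'.obj₁ ≅ (DCoh.Rpush f).obj ((DCoh.LTensorMod G).obj T.obj₁)) ∧
      Nonempty (T'.obj₂ ≅ (DCoh.Rpush f).obj ((DCoh.LTensorMod G).obj T.obj₂)) ∧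
      Nonempty (T'.obj₃ ≅ (DCoh.Rpush f).obj ((DCoh.LTensorMod G).obj T.obj₃)) := by
  obtain ⟨T₁, hT₁, ⟨e₁⟩, ⟨e₂⟩, ⟨e₃⟩⟩ := DCK91.exists_LTM_triangle T hT G
  obtain ⟨c, hc⟩ := PropPush72.exists_distinguished f _ hT₁
  exact ⟨_, hc, ⟨(DCoh.Rpush f).mapIso e₁⟩, ⟨(DCoh.Rpush f).mapIso e₂⟩, ⟨(DCoh.Rpush f).mapIso e₃⟩⟩

/-- Coherent modules in one degree. -/
theorem isCohD_single_cx [IsLocallyNoetherian X₀] (F : X₀.Modules) (hF : Coh.IsCoh F) (b : ℤ) :
    DCoh.IsCohD (DCoh.toD X₀ ((HomologicalComplex.single X₀.Modules (ComplexShape.up ℤ) b).obj F)) ∧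
      (DCoh.toD X₀ ((HomologicalComplex.single X₀.Modules (ComplexShape.up ℤ) b).obj F)).IsLE b := by
  refine ⟨fun i => ?_, (DerivedCategory.isLE_iff _ _).2 fun i hi => DCK91.isZero_HD_toD _ i
    (HomologicalComplex.isZero_single_obj_X _ _ _ _ (by omega))⟩
  by_cases hi : i = b
  · subst hi
    exact QC70.isCoh_of_iso ((homologyFunctorFactors X₀.Modules i).app _ ≪≫
      HomologicalComplex.singleObjHomologySelfIso (ComplexShape.up ℤ) i F).symm hF
  · exact QC70.isCoh_of_isZero (DCK91.isZero_HD_toD _ i (HomologicalComplex.isZero_single_obj_X _ _ _ _ hi))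

variable (f : X ⟶ Y) [DCoh.HasRpush f] (q : X ⟶ X₀) [IsAffineHom q] [DCoh.HasLpull q] [DCoh.HasRpush q]
  (G : X.Modules) [DCoh.HasLTensorMod G]

/-- The inductive step: the top cohomology is killed by finitely many pieces coming from the model. -/
theorem exists_kill_top [CompactSpace X] [IsLocallyNoetherian X₀]
    (hgen : ∀ E₀ : DCoh.D X₀, DCoh.IsCohD E₀ → ∀ b : ℤ, E₀.IsLE b → ∀ m : ℤ,
      DCoh.IsPseudoCoherentD m ((DCoh.Rpush f).obj ((DCoh.LTensorMod G).obj ((DCoh.Lpull q).obj E₀))))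
    (m k b : ℤ) (hkb : k ≤ b) (E : DCoh.D X) (hE : DCoh.IsQCohD E) (a : ℤ) (ha : E.IsGE a) (hb : E.IsLE b)
    (hk : DCoh.IsPseudoCoherentD k E) :
    ∃ C : DCoh.D X, DCoh.IsQCohD C ∧ DCoh.IsPseudoCoherentD k C ∧ C.IsLE (b - 1) ∧
      (DCoh.IsPseudoCoherentD m ((DCoh.Rpush f).obj ((DCoh.LTensorMod G).obj C)) →
        DCoh.IsPseudoCoherentD m ((DCoh.Rpush f).obj ((DCoh.LTensorMod G).obj E))) := by
  classical
  haveI := isWeakSerre_qcoh X
  -- a quasi-coherent representative of `Rq_* E`
  have hR : DCoh.IsQCohD ((DCoh.Rpush q).obj E) := isQCohD_Rpush q E hE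
  haveI := ha
  haveI := PropPush72.isGE_Rpush q E a
  obtain ⟨L, hL, ⟨eL⟩⟩ := exists_qc_rep ((DCoh.Rpush q).obj E) hR a
  have hZ : Coh.IsQCoh (L.cycles b) := by
    haveI := hL b
    haveI := hL (b + 1)
    exact QC70.isQuasicoherent_of_iso
      ((L.cyclesIsKernel b (b + 1) (by simp)).conePointUniqueUpToIso (kernelIsKernel (L.d b (b + 1)))).symm
      (QC70.isQuasicoherent_kernel (L.d b (b + 1)))
  haveI : Coh.IsQCoh (L.cycles b) := hZ
  have hNoeth : ∀ x : X₀, ∃ U : X₀.Opens, x ∈ U ∧ NoetherianSpace (U : Set X₀) := fun x => by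
    obtain ⟨U, hU, hx, -⟩ := exists_isAffineOpen_mem_and_subset (x := x) (U := (⊤ : X₀.Opens)) trivial
    haveI : IsNoetherianRing Γ(X₀, U) := IsLocallyNoetherian.component_noetherian ⟨U, hU⟩
    exact ⟨U, hx, noetherianSpace_of_isAffineOpen U hU⟩
  choose Gs is _ hGq hGf gs hgs using fun i : Σ U : X₀.affineOpens, (L.cycles b).val.obj (op (U : X₀.Opens)) =>
    S4342.result hNoeth (L.cycles b) i.1 i.2
  let ι := Σ U : X₀.affineOpens, (L.cycles b).val.obj (op (U : X₀.Opens))
  let E₀ : ι → DCoh.D X₀ := fun i =>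
    DCoh.toD X₀ ((HomologicalComplex.single X₀.Modules (ComplexShape.up ℤ) b).obj (Gs i))
  have hE₀ := fun i => isCohD_single_cx (Gs i) ⟨hGq i, hGf i⟩ b
  let s : ∀ i : ι, (HomologicalComplex.single X₀.Modules (ComplexShape.up ℤ) b).obj (Gs i) ⟶ L := fun i =>
    HomologicalComplex.mkHomFromSingle (is i ≫ L.iCycles b) fun j _ => by
      rw [Category.assoc, HomologicalComplex.iCycles_d, comp_zero]
  let u : ∀ i : ι, E₀ i ⟶ (DCoh.Rpush q).obj E := fun i => Q.map (s i) ≫ eL.hom
  let adj := DCX42.LpullRpushAdj q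
  let φ : ∀ i : ι, (DCoh.Lpull q).obj (E₀ i) ⟶ E := fun i => (adj.homEquiv _ _).symm (u i)
  have hφle : ∀ i, ((DCoh.Lpull q).obj (E₀ i)).IsLE b := fun i => DCX42.isLE_Lpull q (hE₀ i).2
  have hφq : ∀ i, DCoh.IsQCohD ((DCoh.Lpull q).obj (E₀ i)) := fun i =>
    DCX42.isQCohD_Lpull q fun j => ((hE₀ i).1 j).1
  let H := DCoh.HD E b
  let A : ι → X.Modules := fun i => DCoh.HD ((DCoh.Lpull q).obj (E₀ i)) b
  let a' : ∀ i, A i ⟶ H := fun i => (homologyFunctor X.Modules b).map (φ i)
  -- the family is epimorphic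
  have hepi : Epi (Sigma.desc a') := by
    haveI : ∀ i, (A i).IsQuasicoherent := fun i => hφq i b
    haveI : (∐ A).IsQuasicoherent := QC70.isQuasicoherent_coproduct A fun i => hφq i b
    haveI : H.IsQuasicoherent := hE b
    let Qc := cokernel (Sigma.desc a')
    have hQc : Coh.IsQCoh Qc := QC70.isQuasicoherent_cokernel (Sigma.desc a')
    obtain ⟨ψ, hψ⟩ := exists_hom_single_of_top hb (cokernel.π (Sigma.desc a'))
    have h1 : ∀ i, φ i ≫ ψ = 0 := fun i => by
      refine eq_zero_of_homology_top_eq_zero (hφle i) _ ?_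
      rw [← cancel_mono ((singleFunctorCompHomologyFunctorIso X.Modules b).hom.app Qc), zero_comp,
        Functor.map_comp, Category.assoc, hψ]
      calc a' i ≫ cokernel.π (Sigma.desc a') = (Sigma.ι A i ≫ Sigma.desc a') ≫ cokernel.π (Sigma.desc a') :=
            congrArg (· ≫ _) (Sigma.ι_desc a' i).symm
        _ = 0 := by rw [Category.assoc, cokernel.condition, comp_zero]
    have h2 : ∀ i, u i ≫ (DCoh.Rpush q).map ψ = 0 := fun i => by
      have h := adj.homEquiv_naturality_right (φ i) ψ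
      rw [h1 i, adj.homEquiv_unit, Functor.map_zero, comp_zero, Equiv.apply_symm_apply] at h
      exact h.symm
    -- so `H^b (Rq_* ψ) = 0`
    have h3 : (homologyFunctor X₀.Modules b).map ((DCoh.Rpush q).map ψ) = 0 := by
      let h : L.homology b ⟶ _ := (homologyFunctorFactors X₀.Modules b).inv.app L ≫
        (homologyFunctor X₀.Modules b).map (eL.hom ≫ (DCoh.Rpush q).map ψ)
      have h0 : h = 0 := by
        rw [← cancel_epi (L.homologyπ b), comp_zero]
        refine eq_zero_of_affine_sections _ fun U z => ?_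
        let i : ι := ⟨U, z⟩
        have hc : HomologicalComplex.cyclesMap (s i) b =
            (HomologicalComplex.singleObjCyclesSelfIso (ComplexShape.up ℤ) b (Gs i)).hom ≫ is i := by
          rw [← cancel_mono (L.iCycles b), HomologicalComplex.cyclesMap_i, Category.assoc]
          simp [s, HomologicalComplex.singleObjCyclesSelfIso_hom]
        have hkey : is i ≫ L.homologyπ b ≫ h = 0 := by
          rw [← cancel_epi (HomologicalComplex.singleObjCyclesSelfIso (ComplexShape.up ℤ) b (Gs i)).hom,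
            comp_zero, ← Category.assoc, ← hc, ← Category.assoc, ← HomologicalComplex.homologyπ_naturality,
            Category.assoc]
          refine (congrArg (_ ≫ ·) ?_).trans comp_zero
          have hn := (homologyFunctorFactors X₀.Modules b).inv.naturality (s i)
          dsimp only [h]
          rw [← Category.assoc]
          refine (congrArg (· ≫ _) hn).trans ?_
          rw [Category.assoc, Functor.comp_map, ← Functor.map_comp, ← Category.assoc]
          have hu : Q.map (s i) ≫ eL.hom ≫ (DCoh.Rpush q).map ψ = 0 := by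
            rw [← Category.assoc]; exact h2 i
          rw [Category.assoc, hu, Functor.map_zero, comp_zero]
          rfl
        have := congrArg (fun t => (t.val.app (op (U : X₀.Opens))).hom (gs i)) hkey
        exact (congrArg ((L.homologyπ b ≫ h).val.app (op (U : X₀.Opens))).hom (hgs i)).symm.trans this
      haveI : IsIso eL.hom := inferInstance
      rw [← cancel_epi ((homologyFunctor X₀.Modules b).map eL.hom), comp_zero, ← Functor.map_comp,
        ← cancel_epi ((homologyFunctorFactors X₀.Modules b).inv.app L), comp_zero]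
      exact h0
    -- hence the cokernel vanishes
    let t : Triangulated.TStructure (DCoh.D X) := TStructure.t
    obtain ⟨Fb, α, γ, hT⟩ : ∃ (Fb : DCoh.D X) (α : Fb ⟶ E) (γ : _ ⟶ Fb⟦(1 : ℤ)⟧),
        Triangle.mk α ψ γ ∈ distTriang (DCoh.D X) := by
      obtain ⟨Z, p, r, hS⟩ := distinguished_cocone_triangle ψ
      exact ⟨_, _, _, inv_rot_of_distTriang _ hS⟩
    have hs : ∀ j, Coh.IsQCoh (DCoh.HD ((singleFunctor X.Modules b).obj Qc) j) := fun j => by
      by_cases hj : j = b
      · subst hj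
        exact QC70.isQuasicoherent_of_iso ((singleFunctorCompHomologyFunctorIso X.Modules j).app Qc).symm hQc
      · rcases lt_or_gt_of_ne hj with hj | hj
        · exact QC70.isQuasicoherent_of_isZero (DerivedCategory.isZero_of_isGE _ b j hj)
        · exact QC70.isQuasicoherent_of_isZero (DerivedCategory.isZero_of_isLE _ b j hj)
    haveI : Epi ((homologyFunctor X.Modules b).map ψ) :=
      haveI : Epi ((homologyFunctor X.Modules b).map ψ ≫
        (singleFunctorCompHomologyFunctorIso X.Modules b).hom.app Qc) := by rw [hψ]; infer_instance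
      (epi_comp_iff_of_isIso _ ((singleFunctorCompHomologyFunctorIso X.Modules b).hom.app Qc)).1 inferInstance
    have hFq : DCoh.IsQCohD Fb := fun j =>
      Mod48.prop_homology_obj₂ (Coh.IsQCoh : ObjectProperty X.Modules) _ (inv_rot_of_distTriang _ hT)
        (fun l => DCX42.isQCohD_shift hs (-1) l) hE j
    have hFle : Fb.IsLE b := (DerivedCategory.isLE_iff _ _).2 fun j hj => by
      refine (HomologySequence.exact₁ _ hT (j - 1) j (by omega)).isZero_X₂ ?_
        ((DerivedCategory.isZero_of_isLE E b j hj).eq_of_tgt _ _)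
      by_cases hj' : j - 1 = b
      · refine ((HomologySequence.exact₃ _ hT (j - 1) j (by omega)).epi_f_iff).1 ?_
        subst hj'
        exact (inferInstance : Epi ((homologyFunctor X.Modules (j - 1)).map ψ))
      · exact (DerivedCategory.isZero_of_isLE ((singleFunctor X.Modules b).obj Qc) b (j - 1) (by omega)).eq_of_src _ _
    obtain ⟨c, hT'⟩ := PropPush72.exists_distinguished q _ hT
    haveI : Epi ((homologyFunctor X₀.Modules b).map ((DCoh.Rpush q).map ψ)) :=
      (HomologySequence.exact₃ _ hT' b (b + 1) rfl).epi_f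
        ((isZero_HD_Rpush_affineHom q Fb hFq b hFle (b + 1) (by omega)).eq_of_tgt _ _)
    have hz := isZero_top_of_isZero_Rpush q ((singleFunctor X.Modules b).obj Qc) hs b inferInstance
      (IsZero.of_epi_eq_zero _ h3)
    exact Preadditive.epi_of_isZero_cokernel _
      (hz.of_iso ((singleFunctorCompHomologyFunctorIso X.Modules b).app Qc).symm)
  haveI : CohB1.IsFT H := DCX42.isFT_HD (DCX42.isPC_mono hkb hk) fun i hi =>
    DerivedCategory.isZero_of_isLE E b i hi
  haveI : H.IsFiniteType := ‹CohB1.IsFT H›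
  obtain ⟨J, hJ⟩ := exists_finset_kill H A a' hepi
  suffices ∀ J : Finset ι, ∃ (C : DCoh.D X) (χ : E ⟶ C), DCoh.IsQCohD C ∧ DCoh.IsPseudoCoherentD k C ∧ C.IsLE b ∧
      Epi ((homologyFunctor X.Modules b).map χ) ∧ (∀ i ∈ J, a' i ≫ (homologyFunctor X.Modules b).map χ = 0) ∧
      (DCoh.IsPseudoCoherentD m ((DCoh.Rpush f).obj ((DCoh.LTensorMod G).obj C)) →
        DCoh.IsPseudoCoherentD m ((DCoh.Rpush f).obj ((DCoh.LTensorMod G).obj E))) by
    obtain ⟨C, χ, h1, h2, h3, h4, h5, h6⟩ := this J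
    refine ⟨C, h1, h2, (DerivedCategory.isLE_iff _ _).2 fun j hj => ?_, h6⟩
    by_cases hj' : j = b
    · subst hj'
      exact hJ _ _ h4 h5
    · haveI := h3
      exact DerivedCategory.isZero_of_isLE C b j (by omega)
  intro J
  induction J using Finset.induction_on with
  | empty => exact ⟨E, 𝟙 E, hE, hk, hb, inferInstance, by simp, id⟩
  | insert i J hi ih =>
    obtain ⟨C, χ, h1, h2, h3, h4, h5, h6⟩ := ih
    obtain ⟨C', β, γ, hT⟩ := distinguished_cocone_triangle (φ i ≫ χ)
    have hPC : DCoh.IsPseudoCoherentD (k + 1) ((DCoh.Lpull q).obj (E₀ i)) :=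
      DCX42.isPC_Lpull q (HTor49.isPC_of_isCohD _ (hE₀ i).1 (hE₀ i).2 _)
    haveI := h3
    haveI := hφle i
    haveI hβ : Epi ((homologyFunctor X.Modules b).map β) :=
      (HomologySequence.exact₃ _ hT b (b + 1) rfl).epi_f
        ((DerivedCategory.isZero_of_isLE ((DCoh.Lpull q).obj (E₀ i)) b (b + 1) (by omega)).eq_of_tgt _ _)
    haveI := h4
    refine ⟨C', χ ≫ β, fun j => ?_, DCX42.isPC₃ _ hT hPC h2, ?_, ?_, fun j hj => ?_, fun hK => h6 ?_⟩
    · exact Mod48.prop_homology_obj₂ (Coh.IsQCoh : ObjectProperty X.Modules) _ (rot_of_distTriang _ hT) h1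
        (fun l => DCX42.isQCohD_shift (hφq i) 1 l) j
    · refine (DerivedCategory.isLE_iff _ _).2 fun j hj => ?_
      exact DCK91.isZero₃ _ hT j (DerivedCategory.isZero_of_isLE C b j hj)
        (DerivedCategory.isZero_of_isLE ((DCoh.Lpull q).obj (E₀ i)) b (j + 1) (by omega))
    · rw [Functor.map_comp]
      infer_instance
    · rw [Functor.map_comp]
      rcases Finset.mem_insert.1 hj with rfl | hj
      · rw [← Category.assoc, ← Functor.map_comp, ← Functor.map_comp]
        exact (congrArg _ (comp_distTriang_mor_zero₁₂ _ hT)).trans (Functor.map_zero _ _ _)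
      · rw [← Category.assoc, h5 j hj, zero_comp]
    · obtain ⟨T', hT', ⟨e₁⟩, ⟨e₂⟩, ⟨e₃⟩⟩ := exists_pushTens_triangle f G _ hT
      exact DCX42.isPC_of_iso e₂ (DCX42.isPC₂ T' hT'
        (DCX42.isPC_of_iso e₁.symm (hgen _ (hE₀ i).1 b (hE₀ i).2 m)) (DCX42.isPC_of_iso e₃.symm hK))

omit [DCoh.HasLpull q] [DCoh.HasRpush q] in
/-- Pseudo-coherence of `Rf_*(E ⊗^L G)` from the Noetherian model. -/
theorem isPC_pushTens_of_model [CompactSpace X] [IsAffine Y] [QuasiCompact f] [QuasiSeparated f]
    [IsLocallyNoetherian X₀] (hG : Coh.IsQCoh G) [DCoh.HasLpull q] [DCoh.HasRpush q]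
    (hgen : ∀ E₀ : DCoh.D X₀, DCoh.IsCohD E₀ → ∀ b : ℤ, E₀.IsLE b → ∀ m : ℤ,
      DCoh.IsPseudoCoherentD m ((DCoh.Rpush f).obj ((DCoh.LTensorMod G).obj ((DCoh.Lpull q).obj E₀))))
    (E : DCoh.D X) (hE : DCoh.IsQCohD E) (hPC : ∀ m : ℤ, DCoh.IsPseudoCoherentD m E)
    (b : ℤ) (hb : E.IsLE b) (m : ℤ) :
    DCoh.IsPseudoCoherentD m ((DCoh.Rpush f).obj ((DCoh.LTensorMod G).obj E)) := by
  obtain ⟨c, hc⟩ := exists_isZero_HD_Rpush_affine f
  let k := m - c - 2
  have hle : ∀ (Z : DCoh.D X), DCoh.IsQCohD Z → ∀ n : ℤ, Z.IsLE n →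
      ((DCoh.Rpush f).obj ((DCoh.LTensorMod G).obj Z)).IsLE (n + c) := fun Z hZ n hn =>
    (DerivedCategory.isLE_iff _ _).2 fun j hj =>
      hc _ (isQCohD_LTensorMod G hG hZ) n (isLE_LTensorMod G hn) j hj
  suffices ∀ (d : ℕ) (b : ℤ) (E : DCoh.D X), b < m - c + d → DCoh.IsQCohD E → DCoh.IsPseudoCoherentD k E →
      E.IsLE b → DCoh.IsPseudoCoherentD m ((DCoh.Rpush f).obj ((DCoh.LTensorMod G).obj E)) from
    this ((b - (m - c)).toNat + 1) b E (by omega) hE (hPC k) hb
  intro d
  induction d with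
  | zero =>
    intro b E hbd hE _ hb
    haveI := hle E hE b hb
    exact DCX42.isPC_of_isLE (TStructure.t.isLE_of_le _ (b + c) (m - 1) (by omega))
  | succ d ih =>
    intro b E hbd hE hk hb
    by_cases hbm : b < m - c
    · exact ih b E (by omega) hE hk hb
    let t : Triangulated.TStructure (DCoh.D X) := TStructure.t
    haveI : t.IsLE E b := hb
    let E' := (t.truncGE k).obj E
    let W := (t.truncLT k).obj E
    have hW : W.IsLE (k - 1) := t.isLE_truncLT_obj E k (k - 1) (by omega)
    have hT := t.triangleLTGE_distinguished k E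
    have hE' : DCoh.IsQCohD E' := fun j => by
      by_cases hj : k ≤ j
      · have := Mod48.isIso_homology_truncGEπ E k j hj
        exact QC70.isQuasicoherent_of_iso (asIso ((homologyFunctor X.Modules j).map ((t.truncGEπ k).app E))) (hE j)
      · exact QC70.isQuasicoherent_of_isZero (DerivedCategory.isZero_of_isGE E' k j (by omega)
          (hX := (inferInstance : t.IsGE E' k)))
    have hWq : DCoh.IsQCohD W := fun j => by
      by_cases hj : j < k
      · have := Mod48.isIso_homology_truncLTι E k j hj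
        exact QC70.isQuasicoherent_of_iso (asIso ((homologyFunctor X.Modules j).map ((t.truncLTι k).app E))).symm (hE j)
      · exact QC70.isQuasicoherent_of_isZero (DerivedCategory.isZero_of_isLE W (k - 1) j (by omega) (hX := hW))
    have hk' : DCoh.IsPseudoCoherentD k E' := DCX42.isPC₃ _ hT
      (DCX42.isPC_of_isLE (haveI := hW; t.isLE_of_le W (k - 1) (k + 1 - 1) (by omega))) hk
    obtain ⟨C, hC1, hC2, hC3, hC4⟩ := exists_kill_top f q G hgen m k b (by omega) E' hE' k
      (inferInstance : t.IsGE E' k) (inferInstance : t.IsLE E' b) hk'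
    have h' := hC4 (ih (b - 1) C (by omega) hC1 hC2 hC3)
    obtain ⟨T', hT', ⟨e₁⟩, ⟨e₂⟩, ⟨e₃⟩⟩ := exists_pushTens_triangle f G _ hT
    have hKW := hle W hWq (k - 1) hW
    exact DCX42.isPC_of_iso e₂ (DCX42.isPC₂ T' hT'
      (DCX42.isPC_of_iso e₁.symm (DCX42.isPC_of_isLE (@Triangulated.TStructure.isLE_of_le _ _ _ _ _ _ _ TStructure.t _ (k - 1 + c) (m - 1) (by omega) hKW)))
      (DCX42.isPC_of_iso e₃.symm h'))

end Groth.Agent.QCohPush72
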