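import Groth.Agent.Mum71.Approx
import Groth.Agent.Coh69.ProperOver
import Groth.Agent.QCPull72.Support
import Groth.Agent.QC70.CohOps

/-!
# Noetherian approximation of a flat module with proper support
-/

set_option autoImplicit false
set_option linter.style.haveILetI false
set_option backward.isDefEq.respectTransparency.types false

universe u

open CategoryTheory Limits AlgebraicGeometry TopologicalSpace Opposite

namespace Groth.Agent.QCohPush72

/-- A flat module of finite presentation with support proper over an affine base comes from one over a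
Noetherian ring. -/
theorem exists_suppProper_model {A : CommRingCat.{u}} {X : Scheme.{u}} (f : X ⟶ Spec A)
    [LocallyOfFinitePresentation f] [QuasiCompact f] [QuasiSeparated f]
    (F : X.Modules) [F.IsQuasicoherent] [CohB1.IsFP F]
    (hsupp : ClSub.IsProperOver f (CohB1.support F)) (hfl : FlatMod.IsFlatOver f F) :
    ∃ (A₀ : CommRingCat.{u}) (_ : IsNoetherianRing A₀) (φ : A₀ ⟶ A) (X₀ : Scheme.{u})
      (f₀ : X₀ ⟶ Spec A₀) (_ : LocallyOfFiniteType f₀) (_ : QuasiCompact f₀) (F₀ : X₀.Modules) (_ : Coh.IsCoh F₀)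
      (_ : FlatMod.IsFlatOver f₀ F₀) (_ : ClSub.IsProperOver f₀ (CohB1.support F₀)) (q : X ⟶ X₀),
      IsPullback q f f₀ (Spec.map φ) ∧ Nonempty ((Scheme.Modules.pullback q).obj F₀ ≅ F) := by
  obtain ⟨A₀, hA₀, X₀, f₀, h1, h2, F₀, hF₀, q, hX, e, hflat⟩ :=
    Stage62.hasModelAt_of_flat (A := A) f F hfl
  haveI := h1
  haveI := h2
  haveI := Mum71.isNoetherianRing_of_fg A₀ hA₀
  haveI : IsLocallyNoetherian X₀ := LocallyOfFiniteType.isLocallyNoetherian f₀
  haveI : QuasiSeparated f₀ :=
    (HasAffineProperty.iff_of_isAffine (P := @QuasiSeparated)).2 inferInstance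
  haveI := hF₀.1
  haveI := hF₀.2
  let i : (Stage62.FgSubring (A : Type u))ᵒᵖ := op ⟨A₀, hA₀⟩
  let D := Stage62.subringSpec (A : Type u)
  let c := Stage62.subringCone (A : Type u)
  haveI : CompactSpace (D.obj i) := inferInstanceAs (CompactSpace (Spec (CommRingCat.of A₀)))
  haveI : QuasiSeparatedSpace (D.obj i) :=
    inferInstanceAs (QuasiSeparatedSpace (Spec (CommRingCat.of A₀)))
  haveI : @QuasiCompact X₀ (D.obj i) f₀ := h2
  haveI : @QuasiSeparated X₀ (D.obj i) f₀ := ‹QuasiSeparated f₀›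
  -- the reduced support and its pullback
  let Z := Scheme.IdealSheafData.vanishingIdeal (X := X₀) ⟨CohB1.support F₀, QC70.isClosed_support F₀⟩
  let ι : Z.subscheme ⟶ X₀ := Z.subschemeι
  have hr : Set.range ι = CohB1.support F₀ := SchBasics.range_vanishingIdeal_subschemeι _
  have hP : IsProper (pullback.snd (ι ≫ f₀) (c.π.app i)) := by
    have hsq : IsPullback (pullback.fst q ι ≫ f) (pullback.snd q ι) (c.π.app i) (ι ≫ f₀) :=
      ((IsPullback.of_hasPullback q ι).flip.paste_vert hX).flip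
    refine (LimDesc62.prop_iff_of_isPullback (P := @IsProper) hsq.flip).1 ?_
    refine (Coh69.PO.iff_of_range (pullback.fst q ι) ?_).1 hsupp
    rw [Scheme.Pullback.range_fst, hr, ← QCPull72.support_pullback q F₀]
    exact (Set.ext fun x => not_congr
      ((((TopCat.Presheaf.stalkFunctor _ x).mapIso ((Scheme.Modules.toPresheaf X).mapIso e))).addCommGroupIsoToAddEquiv.toEquiv.subsingleton_congr))
  haveI : QuasiSeparated ι := inferInstance
  haveI : @LocallyOfFiniteType Z.subscheme (D.obj i) (ι ≫ f₀) :=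
    inferInstanceAs (LocallyOfFiniteType (ι ≫ f₀))
  haveI : @QuasiCompact Z.subscheme (D.obj i) (ι ≫ f₀) := inferInstanceAs (QuasiCompact (ι ≫ f₀))
  haveI : @QuasiSeparated Z.subscheme (D.obj i) (ι ≫ f₀) := inferInstanceAs (QuasiSeparated (ι ≫ f₀))
  obtain ⟨j, φ, hj⟩ := Approx60.descProp_isProper.desc D c (Stage62.isLimitSubringCone _) i (ι ≫ f₀)
    ‹_› hP
  obtain ⟨q₁, -, hX₁, ⟨e₁⟩⟩ := Stage62.exists_baseChange_model D c i f₀ F₀ f q hX φ e
  let X₁ := pullback f₀ (D.map φ)
  let π : X₁ ⟶ X₀ := pullback.fst f₀ (D.map φ)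
  haveI hlft : LocallyOfFiniteType (pullback.snd f₀ (D.map φ)) :=
    MorphismProperty.of_isPullback (IsPullback.of_hasPullback f₀ (D.map φ)) (show @LocallyOfFiniteType X₀ (D.obj i) f₀ from h1)
  refine ⟨CommRingCat.of ↥j.unop.1, Mum71.isNoetherianRing_of_fg _ j.unop.2,
    CommRingCat.ofHom j.unop.1.val.toRingHom, X₁, pullback.snd f₀ (D.map φ), hlft,
    MorphismProperty.of_isPullback (P := @QuasiCompact) (IsPullback.of_hasPullback f₀ (D.map φ)) ‹@QuasiCompact X₀ (D.obj i) f₀›,
    (Scheme.Modules.pullback π).obj F₀,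
    ⟨QCPull72.isQuasicoherent_pullback _ F₀, QCPull72.isFiniteType_pullback _ F₀⟩,
    fun x => FlatMor66.isFlatOverAt_baseChange (IsPullback.of_hasPullback f₀ (D.map φ)) F₀ hF₀.1 x (hflat _),
    ?_, q₁, hX₁, ⟨e₁⟩⟩
  rw [QCPull72.support_pullback π F₀, ← hr, ← Scheme.Pullback.range_fst π ι]
  refine (@Coh69.PO.iff_of_range _ _ _ hlft _ (pullback.fst π ι) inferInstance _ rfl).2 ?_
  exact (LimDesc62.prop_iff_of_isPullback (P := @IsProper)
    ((IsPullback.of_hasPullback π ι).flip.paste_vert (IsPullback.of_hasPullback f₀ (D.map φ)))).2 hj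

end Groth.Agent.QCohPush72
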