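import Groth.Agent.QCohPush72.RelPushPC
import Groth.Agent.QCohPush72.SuppModel
import Groth.Agent.QCohPush72.RelPerf

/-!
# Relative perfectness of proper pushforwards over an arbitrary base
-/

set_option autoImplicit false
set_option linter.style.haveILetI false
set_option backward.isDefEq.respectTransparency.types false

noncomputable section

universe u

open CategoryTheory CategoryTheory.Limits DerivedCategory AlgebraicGeometry TopologicalSpace

attribute [local instance] HasDerivedCategory.standard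

namespace Groth.Agent.QCohPush72

/-- Base change of `Rf_*(- ⊗^L F)` for a flat module `F` over affine bases. -/
def AffineBaseChange : Prop :=
  ∀ ⦃X X₀ S S₀ : Scheme.{u}⦄ (q : X ⟶ X₀) (f : X ⟶ S) (f₀ : X₀ ⟶ S₀) (g : S ⟶ S₀), IsPullback q f f₀ g →
    ∀ [IsAffine S] [IsAffine S₀] [QuasiCompact f₀] [QuasiSeparated f₀] (F₀ : X₀.Modules), Coh.IsQCoh F₀ →
      FlatMod.IsFlatOver f₀ F₀ → ∀ (G : X.Modules), ((Scheme.Modules.pullback q).obj F₀ ≅ G) →
        ∀ [DCoh.HasLTensorMod F₀] [DCoh.HasLTensorMod G] [DCoh.HasRpush f₀] [DCoh.HasRpush f] [DCoh.HasLpull g]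
          [DCoh.HasLpull q] (E₀ : DCoh.D X₀), DCoh.IsQCohD E₀ →
          Nonempty ((DCoh.Lpull g).obj ((DCoh.Rpush f₀).obj ((DCoh.LTensorMod F₀).obj E₀)) ≅
            (DCoh.Rpush f).obj ((DCoh.LTensorMod G).obj ((DCoh.Lpull q).obj E₀)))

variable {X S : Scheme.{u}}

/-- Pseudo-coherence of `Rf_*(E ⊗^L G)` over an affine base. -/
theorem isPC_pushTens_affine (bc : AffineBaseChange.{u}) [IsAffine S] (f : X ⟶ S)
    [LocallyOfFinitePresentation f] [QuasiCompact f] [QuasiSeparated f] (G : X.Modules) (hG : CohB1.IsFP G)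
    (hflat : FlatMod.IsFlatOver f G) (hsupp : ClSub.IsProperOver f (CohB1.support G))
    [DCoh.HasLTensorMod G] [DCoh.HasRpush f] (E : DCoh.D X) (hE : ∀ m : ℤ, DCoh.IsPseudoCoherentD m E) (m : ℤ) :
    DCoh.IsPseudoCoherentD m ((DCoh.Rpush f).obj ((DCoh.LTensorMod G).obj E)) := by
  have hGq : Coh.IsQCoh G := DCX42.isQCoh_of_isFP hG
  haveI : G.IsQuasicoherent := hGq
  haveI : CohB1.IsFP G := hG
  let f' : X ⟶ Spec Γ(S, ⊤) := f ≫ S.isoSpec.hom
  have hflat' : FlatMod.IsFlatOver f' G := fun x => by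
    refine isFlatOverAt_of_comp_openImmersion f' S.isoSpec.inv G x ?_
    have he : f' ≫ S.isoSpec.inv = f := by simp [f']
    rw [he]
    exact hflat x
  have hsupp' : ClSub.IsProperOver f' (CohB1.support G) := by
    obtain ⟨hc, hp⟩ := hsupp
    refine ⟨hc, ?_⟩
    rw [← Category.assoc]
    exact MorphismProperty.comp_mem @IsProper _ S.isoSpec.hom hp inferInstance
  obtain ⟨A₀, hA₀, φ, X₀, f₀, h1, h2, F₀, hF₀, hflat₀, hs₀, q, hsq, ⟨e⟩⟩ :=
    exists_suppProper_model f' G hsupp' hflat'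
  haveI := hA₀
  haveI := h1
  haveI := h2
  haveI : IsLocallyNoetherian X₀ := LocallyOfFiniteType.isLocallyNoetherian f₀
  have hsq' : IsPullback q f f₀ (S.isoSpec.hom ≫ Spec.map φ) := by
    refine IsPullback.of_iso hsq (Iso.refl _) (Iso.refl _) S.isoSpec.symm (Iso.refl _) ?_ ?_ ?_ ?_ <;> simp [f']
  haveI : IsAffineHom q := MorphismProperty.of_isPullback (P := @IsAffineHom) hsq'.flip inferInstance
  haveI := DCX42.hasRpush f₀
  haveI := DCK91.hasLpull (S.isoSpec.hom ≫ Spec.map φ)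
  haveI := DCK91.hasLpull q
  haveI := DCK91.hasLTensorMod F₀
  exact isPC_pushTens_of_baseChange (S.isoSpec.hom ≫ Spec.map φ) f₀ f q F₀ hF₀ hs₀ G hGq
    (fun E₀ hE₀ => bc q f f₀ _ hsq' F₀ hF₀.1 hflat₀ G e E₀ hE₀) E hE m

/-- `Rf_*(E ⊗^L G)` is perfect over an affine base. -/
theorem isPerfect_pushTens_affine (bc : AffineBaseChange.{u}) [IsAffine S] (f : X ⟶ S)
    [LocallyOfFinitePresentation f] [QuasiCompact f] [QuasiSeparated f] (G : X.Modules) (hG : CohB1.IsFP G)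
    (hflat : FlatMod.IsFlatOver f G) (hsupp : ClSub.IsProperOver f (CohB1.support G))
    [DCoh.HasLTensorMod G] [DCoh.HasRpush f] (E : DCoh.D X) (hE : DCoh.IsPerfect E) :
    DCoh.IsPerfect ((DCoh.Rpush f).obj ((DCoh.LTensorMod G).obj E)) := by
  haveI : CompactSpace X := QuasiCompact.compactSpace_of_compactSpace f
  haveI : QuasiSeparatedSpace X := quasiSeparatedSpace_of_quasiSeparated f
  obtain ⟨a, b, -, h⟩ := finAmp_Rpush_LTensorMod f E hE G (DCX42.isQCoh_of_isFP hG) hflat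
  exact DCX42.isPerfect_of_flatAmp h
    (isPC_pushTens_affine bc f G hG hflat hsupp E (DCX42.isPC_of_isPerfect hE) _)

/-- Over an arbitrary base, local conclusions. -/
theorem pushTens_of_affine (f : X ⟶ S) [LocallyOfFinitePresentation f] [QuasiCompact f] [QuasiSeparated f]
    (G : X.Modules) (hG : CohB1.IsFP G) (hflat : FlatMod.IsFlatOver f G)
    (hsupp : ClSub.IsProperOver f (CohB1.support G)) [DCoh.HasLTensorMod G] [DCoh.HasRpush f] (E : DCoh.D X)
    (P : ∀ {Z : Scheme.{u}}, DCoh.D Z → Prop) (Q : ∀ {Z : Scheme.{u}}, DCoh.D Z → Prop)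
    (hQ : ∀ {U : Scheme.{u}} (j : U ⟶ X) [IsOpenImmersion j], Q ((DCX42.resD j).obj E))
    (hP : ∀ {Z W : Scheme.{u}} [IsAffine W] (h : Z ⟶ W) [LocallyOfFinitePresentation h] [QuasiCompact h]
      [QuasiSeparated h] (G' : Z.Modules), CohB1.IsFP G' → FlatMod.IsFlatOver h G' →
      ClSub.IsProperOver h (CohB1.support G') → ∀ [DCoh.HasLTensorMod G'] [DCoh.HasRpush h] (E' : DCoh.D Z),
        Q E' → P ((DCoh.Rpush h).obj ((DCoh.LTensorMod G').obj E')))
    (hiso : ∀ {Z : Scheme.{u}} {A B : DCoh.D Z}, (A ≅ B) → P A → P B)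
    (s : S) : ∃ (W : Scheme.{u}) (j : W ⟶ S) (_ : IsOpenImmersion j), s ∈ Set.range j ∧
      P ((DCX42.resD j).obj ((DCoh.Rpush f).obj ((DCoh.LTensorMod G).obj E))) := by
  obtain ⟨V, hV, hs, -⟩ := exists_isAffineOpen_mem_and_subset (x := s) (U := (⊤ : S.Opens)) trivial
  refine ⟨V.toScheme, V.ι, inferInstance, ⟨⟨s, hs⟩, rfl⟩, ?_⟩
  haveI : IsAffine V.toScheme := hV
  haveI := DCX42.hasRpush (f ∣_ V)
  let j := (f ⁻¹ᵁ V).ι
  let G' := (Scheme.Modules.pullback j).obj G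
  haveI := DCK91.hasLTensorMod G'
  haveI : G.IsQuasicoherent := DCX42.isQCoh_of_isFP hG
  haveI : G.IsFiniteType := Stage62.isFiniteType_of_isFP hG
  haveI : CohB1.IsFP G := hG
  have hsq : IsPullback j (f ∣_ V) f V.ι := (isPullback_morphismRestrict f V).flip
  obtain ⟨e⟩ := DCX42.nonempty_Rpush_restrict f V
  obtain ⟨e'⟩ := nonempty_resD_LTensorMod j G E
  refine hiso (e.app _ ≪≫ (DCoh.Rpush (f ∣_ V)).mapIso e').symm
    (hP (f ∣_ V) G' (LimTop61.isFP_pullback j G) (fun x => ?_) ?_ _ (hQ j))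
  · exact FlatMor66.isFlatOverAt_baseChange hsq G (DCX42.isQCoh_of_isFP hG) x (hflat _)
  · rw [QCPull72.support_pullback j G]
    exact Coh69.PO.preimage_of_isPullback hsq hsupp

/-- `Rf_*(E ⊗^L G)` is perfect. -/
theorem isPerfect_pushTens_relative (bc : AffineBaseChange.{u}) (f : X ⟶ S)
    [LocallyOfFinitePresentation f] [QuasiCompact f] [QuasiSeparated f] (G : X.Modules) (hG : CohB1.IsFP G)
    (hflat : FlatMod.IsFlatOver f G) (hsupp : ClSub.IsProperOver f (CohB1.support G))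
    [DCoh.HasLTensorMod G] [DCoh.HasRpush f] (E : DCoh.D X) (hE : DCoh.IsPerfect E) :
    DCoh.IsPerfect ((DCoh.Rpush f).obj ((DCoh.LTensorMod G).obj E)) :=
  DCX42.isPerfect_of_cover _ fun s => pushTens_of_affine f G hG hflat hsupp E
    (fun K => DCoh.IsPerfect K) (fun K => DCoh.IsPerfect K) (fun j _ => DCX42.isPerfect_resD hE j)
    (fun h _ _ _ G' h1 h2 h3 _ _ E' hE' => isPerfect_pushTens_affine bc h G' h1 h2 h3 E' hE')
    (fun e h => DCX42.isPerfect_of_iso e h) s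

/-- `Rf_*(E ⊗^L G)` is pseudo-coherent. -/
theorem isPC_pushTens_relative (bc : AffineBaseChange.{u}) (f : X ⟶ S)
    [LocallyOfFinitePresentation f] [QuasiCompact f] [QuasiSeparated f] (G : X.Modules) (hG : CohB1.IsFP G)
    (hflat : FlatMod.IsFlatOver f G) (hsupp : ClSub.IsProperOver f (CohB1.support G))
    [DCoh.HasLTensorMod G] [DCoh.HasRpush f] (E : DCoh.D X) (hE : ∀ m : ℤ, DCoh.IsPseudoCoherentD m E) (m : ℤ) :
    DCoh.IsPseudoCoherentD m ((DCoh.Rpush f).obj ((DCoh.LTensorMod G).obj E)) :=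
  DCX42.isPC_of_cover _ fun s => pushTens_of_affine f G hG hflat hsupp E
    (fun K => DCoh.IsPseudoCoherentD m K) (fun K => ∀ k : ℤ, DCoh.IsPseudoCoherentD k K)
    (fun j _ k => DCX42.isPC_resD (hE k) j)
    (fun h _ _ _ G' h1 h2 h3 _ _ E' hE' => isPC_pushTens_affine bc h G' h1 h2 h3 E' hE' m)
    (fun e h => DCX42.isPC_of_iso e h) s

end Groth.Agent.QCohPush72
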