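import Groth.Agent.QCohPush72.CohPush
import Groth.Agent.DCX42.LpullLoc

/-!
# `Rf_*(E ⊗^L G)` is pseudo-coherent, given base change from a Noetherian model
-/

set_option autoImplicit false
set_option linter.style.haveILetI false
set_option backward.isDefEq.respectTransparency.types false

noncomputable section

universe u

open CategoryTheory CategoryTheory.Limits DerivedCategory AlgebraicGeometry

attribute [local instance] HasDerivedCategory.standard

namespace Groth.Agent.QCohPush72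

variable {X X₀ S S₀ : Scheme.{u}}

theorem isPC_pushTens_of_baseChange [IsAffine S] [IsAffine S₀] [IsLocallyNoetherian S₀] (g : S ⟶ S₀)
    (f₀ : X₀ ⟶ S₀) [LocallyOfFiniteType f₀] [QuasiCompact f₀] (f : X ⟶ S) [QuasiCompact f] [QuasiSeparated f] (q : X ⟶ X₀) [IsAffineHom q]
    [DCoh.HasRpush f] [DCoh.HasRpush f₀] [DCoh.HasLpull g] [DCoh.HasLpull q]
    (F₀ : X₀.Modules) (hF₀ : Coh.IsCoh F₀) (hs₀ : ClSub.IsProperOver f₀ (CohB1.support F₀)) [DCoh.HasLTensorMod F₀]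
    (G : X.Modules) (hG : Coh.IsQCoh G) [DCoh.HasLTensorMod G]
    (hbc : ∀ E₀ : DCoh.D X₀, DCoh.IsQCohD E₀ →
      Nonempty ((DCoh.Lpull g).obj ((DCoh.Rpush f₀).obj ((DCoh.LTensorMod F₀).obj E₀)) ≅
        (DCoh.Rpush f).obj ((DCoh.LTensorMod G).obj ((DCoh.Lpull q).obj E₀))))
    (E : DCoh.D X) (hPC : ∀ m : ℤ, DCoh.IsPseudoCoherentD m E) (m : ℤ) :
    DCoh.IsPseudoCoherentD m ((DCoh.Rpush f).obj ((DCoh.LTensorMod G).obj E)) := by
  haveI : CompactSpace X := QuasiCompact.compactSpace_of_compactSpace f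
  haveI := LocallyOfFiniteType.isLocallyNoetherian f₀
  haveI := DCX42.hasRpush q
  obtain ⟨b, hb⟩ := DCX42.exists_isLE_of_isPC (hPC 0)
  refine isPC_pushTens_of_model f q G hG (fun E₀ hE₀ b₀ hb₀ m₀ => ?_) E
    (fun i => DCX42.isQCoh_HD_of_lt (hPC (i - 1)) i (by omega)) hPC b hb m
  obtain ⟨e⟩ := hbc E₀ fun i => (hE₀ i).1
  exact DCX42.isPC_of_iso e (DCX42.isPC_Lpull g (isPC_Rpush_of_isCohD f₀ _
    (isCohD_LTensorMod_of_isLE F₀ hF₀ hb₀ hE₀) b₀ (isLE_LTensorMod F₀ hb₀) _ hs₀ (fun i => support_HD_LTensorMod_subset E₀ F₀ hs₀.1 i) m₀))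

end Groth.Agent.QCohPush72
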