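import Groth.Agent.QCohPush72.RelPushMain
import Groth.Agent.DerComp18.Descent
import Groth.Agent.LimTop61.AmpleStage
import Groth.Agent.Desc62.UnitFlat

/-!
# Proper flat morphisms of finite presentation preserve perfect and pseudo-coherent objects
-/

set_option autoImplicit false
set_option linter.style.haveILetI false
set_option backward.isDefEq.respectTransparency.types false

noncomputable section

universe u

open CategoryTheory CategoryTheory.Limits DerivedCategory AlgebraicGeometry

attribute [local instance] HasDerivedCategory.standard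

namespace Groth.Agent.QCohPush72

variable {X S : Scheme.{u}}

/-- `E ⊗^L O = E`. -/
theorem nonempty_LTensorMod_structureModule [DCoh.HasLTensorMod (Coh.structureModule X)] (E : DCoh.D X) :
    Nonempty ((DCoh.LTensorMod (Coh.structureModule X)).obj E ≅ E) := by
  obtain ⟨P, p, ⟨hP, hPf⟩, hp⟩ := DCK91.res₀ X (DerivedCategory.Q.objPreimage E)
  let e : DCoh.toD X P ≅ E := (@asIso _ _ _ _ _ hp) ≪≫ DerivedCategory.Q.objObjPreimageIso E
  exact ⟨(DCoh.LTensorMod (Coh.structureModule X)).mapIso e.symm ≪≫
    DCK91.ltmIso (Coh.structureModule X) P hP hPf ≪≫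
    DerivedCategory.Q.mapIso (Mod48.tcSingleIso (O := X.sheaf) P (Coh.structureModule X) ≪≫
      DerComp18.tcUnitIso (O := X.sheaf) P) ≪≫ e⟩

/-- The structure sheaf is flat over the base of a flat morphism. -/
theorem isFlatOver_structureModule (f : X ⟶ S) [Flat f] : FlatMod.IsFlatOver f (Coh.structureModule X) :=
  fun x => (Desc62.isFlatOverAt_structureModule_iff f x).2 (Flat.stalkMap f x)

/-- The support of the structure sheaf is proper over the base of a proper morphism. -/
theorem isProperOver_support_structureModule (f : X ⟶ S) [IsProper f] :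
    ClSub.IsProperOver f (CohB1.support (Coh.structureModule X)) := by
  have h : CohB1.support (Coh.structureModule X) = Set.univ := by
    refine Set.eq_univ_of_forall fun x => ?_
    exact fun h => not_subsingleton (X.presheaf.stalk x) ((QC70.unitStalkEquiv x).toEquiv.subsingleton_congr.mpr h)
  rw [h]
  exact ⟨isClosed_univ, inferInstance⟩

/-- Perfect objects. -/
theorem isPerfect_Rpush_proper (bc : AffineBaseChange.{u}) (f : X ⟶ S) [IsProper f] [Flat f]
    [LocallyOfFinitePresentation f] [DCoh.HasRpush f] (E : DCoh.D X) (hE : DCoh.IsPerfect E) :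
    DCoh.IsPerfect ((DCoh.Rpush f).obj E) := by
  haveI := DCK91.hasLTensorMod (Coh.structureModule X)
  obtain ⟨e⟩ := nonempty_LTensorMod_structureModule E
  exact DCX42.isPerfect_of_iso ((DCoh.Rpush f).mapIso e) (isPerfect_pushTens_relative bc f _
    (LimTop61.isFP_structureModule' X) (isFlatOver_structureModule f) (isProperOver_support_structureModule f) E hE)

/-- Pseudo-coherent objects. -/
theorem isPC_Rpush_proper (bc : AffineBaseChange.{u}) (f : X ⟶ S) [IsProper f] [Flat f]
    [LocallyOfFinitePresentation f] [DCoh.HasRpush f] (E : DCoh.D X)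
    (hE : ∀ m : ℤ, DCoh.IsPseudoCoherentD m E) (m : ℤ) :
    DCoh.IsPseudoCoherentD m ((DCoh.Rpush f).obj E) := by
  haveI := DCK91.hasLTensorMod (Coh.structureModule X)
  obtain ⟨e⟩ := nonempty_LTensorMod_structureModule E
  exact DCX42.isPC_of_iso ((DCoh.Rpush f).mapIso e) (isPC_pushTens_relative bc f _
    (LimTop61.isFP_structureModule' X) (isFlatOver_structureModule f) (isProperOver_support_structureModule f) E hE m)

end Groth.Agent.QCohPush72
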