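import Groth.Agent.S0998
import Groth.Agent.QCohPush72.HomBound
import Groth.Agent.QCohPush72.Bound
import Groth.Agent.Mod48.Devissage

/-!
# Quasi-coherent replacements
-/

set_option autoImplicit false
set_option linter.style.haveILetI false
set_option backward.isDefEq.respectTransparency.types false
set_option maxHeartbeats 1000000

noncomputable section

universe u

open CategoryTheory CategoryTheory.Limits CategoryTheory.Pretriangulated DerivedCategory AlgebraicGeometry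
  TopologicalSpace
open scoped ZeroObject

attribute [local instance] HasDerivedCategory.standard

namespace Groth.Agent.QCohPush72

variable {W X : Scheme.{u}}

/-- `ε : Q ⟶ K` is bijective on maps out of objects with quasi-coherent cohomology. -/
def IsRepl {K Q : DCoh.D X} (ε : Q ⟶ K) : Prop :=
  ∀ P : DCoh.D X, DCoh.IsQCohD P → Function.Bijective fun g : P ⟶ Q => g ≫ ε

/-- `K` has a quasi-coherent replacement with cohomology in `[a, c]`. -/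
def HasRepl (K : DCoh.D X) (a c : ℤ) : Prop :=
  ∃ (Q : DCoh.D X) (ε : Q ⟶ K), DCoh.IsQCohD Q ∧ Q.IsGE a ∧ Q.IsLE c ∧ IsRepl ε

theorem HasRepl.of_iso {K K' : DCoh.D X} {a c : ℤ} (h : HasRepl K a c) (e : K ≅ K') : HasRepl K' a c := by
  obtain ⟨Q, ε, h1, h2, h3, h4⟩ := h
  refine ⟨Q, ε ≫ e.hom, h1, h2, h3, fun P hP => ?_⟩
  have : (fun g : P ⟶ Q => g ≫ ε ≫ e.hom) = (fun z : P ⟶ K => z ≫ e.hom) ∘ fun g => g ≫ ε :=
    funext fun g => (Category.assoc _ _ _).symm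
  rw [this]
  exact (Function.bijective_iff_has_inverse.2 ⟨fun z => z ≫ e.inv, fun z => by simp, fun z => by simp⟩).comp (h4 P hP)

theorem HasRepl.mono {K : DCoh.D X} {a c c' : ℤ} (h : HasRepl K a c) (hc : c ≤ c') : HasRepl K a c' := by
  obtain ⟨Q, ε, h1, h2, h3, h4⟩ := h
  exact ⟨Q, ε, h1, h2, TStructure.t.isLE_of_le Q c c' hc, h4⟩

/-- Two out of three for replacements. -/
theorem hasRepl_obj₁ (T : Triangle (DCoh.D X)) (hT : T ∈ distTriang (DCoh.D X)) {a c₂ c₃ c : ℤ}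
    (h₂ : HasRepl T.obj₂ a c₂) (h₃ : HasRepl T.obj₃ a c₃) (hc₂ : c₂ ≤ c) (hc₃ : c₃ + 1 ≤ c) :
    HasRepl T.obj₁ a c := by
  obtain ⟨Q₂, ε₂, q2, g2, l2, r2⟩ := h₂
  obtain ⟨Q₃, ε₃, q3, g3, l3, r3⟩ := h₃
  obtain ⟨b, hb⟩ := (r3 Q₂ q2).2 (ε₂ ≫ T.mor₂)
  obtain ⟨Z, p, r, hS0⟩ := distinguished_cocone_triangle b
  obtain ⟨Q₁, α, γ, hS⟩ : ∃ (Q₁ : DCoh.D X) (α : Q₁ ⟶ Q₂) (γ : Q₃ ⟶ Q₁⟦(1 : ℤ)⟧),
      Triangle.mk α b γ ∈ distTriang (DCoh.D X) :=
    ⟨_, _, _, inv_rot_of_distTriang _ hS0⟩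
  let S := Triangle.mk α b γ
  have hb : b ≫ ε₃ = ε₂ ≫ T.mor₂ := hb
  obtain ⟨ε₁, hε₁, hε₁'⟩ : ∃ ε₁ : Q₁ ⟶ T.obj₁, α ≫ ε₂ = ε₁ ≫ T.mor₁ ∧ γ ≫ ε₁⟦(1 : ℤ)⟧' = ε₃ ≫ T.mor₃ :=
    complete_distinguished_triangle_morphism₁ S T hS hT ε₂ ε₃ hb
  haveI := isWeakSerre_qcoh X
  let S' := S.invRotate
  have hS' := inv_rot_of_distTriang _ hS
  let T' := T.invRotate
  have hT' := inv_rot_of_distTriang _ hT
  have qS1 : DCoh.IsQCohD Q₁ := fun i => Mod48.prop_homology_obj₂ (Coh.IsQCoh : ObjectProperty X.Modules) _ hS'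
    (fun k => DCX42.isQCohD_shift q3 (-1) k) q2 i
  refine ⟨Q₁, ε₁, qS1, ?_, ?_, fun P hP => ?_⟩
  · refine TStructure.t.isGE₂ _ hS' a ?_ g2
    haveI := TStructure.t.isGE_shift Q₃ a (-1) (a + 1) (by omega)
    exact TStructure.t.isGE_of_ge (Q₃⟦(-1 : ℤ)⟧) a (a + 1) (by omega)
  · refine TStructure.t.isLE₂ _ hS' c ?_ (TStructure.t.isLE_of_le Q₂ c₂ c hc₂)
    haveI := TStructure.t.isLE_shift Q₃ c₃ (-1) (c₃ + 1) (by omega)
    exact TStructure.t.isLE_of_le (Q₃⟦(-1 : ℤ)⟧) (c₃ + 1) c hc₃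
  have b2 := r2 P hP
  have b3 := r3 P hP
  let F := shiftFunctor (DCoh.D X) (1 : ℤ)
  have hP1 : DCoh.IsQCohD (F.obj P) := DCX42.isQCohD_shift hP 1
  have b2' := r2 (F.obj P) hP1
  have b3' := r3 (F.obj P) hP1
  constructor
  · intro g g' hg
    rw [← sub_eq_zero]
    have hd : (g - g') ≫ ε₁ = 0 := by
      rw [Preadditive.sub_comp, sub_eq_zero]
      exact hg
    generalize g - g' = d at hd ⊢
    have hdα : d ≫ α = 0 := b2.1 (show (d ≫ α) ≫ ε₂ = 0 ≫ ε₂ by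
      rw [Category.assoc, hε₁, reassoc_of% hd, zero_comp, zero_comp])
    obtain ⟨k, hk⟩ : ∃ k : F.obj P ⟶ Q₃, F.map d = k ≫ γ :=
      Triangle.coyoneda_exact₁ S hS (F.map d) (by
        change F.map d ≫ F.map α = 0
        rw [← F.map_comp, hdα, F.map_zero])
    have hk0 : (k ≫ ε₃) ≫ T.mor₃ = 0 := by
      rw [Category.assoc, ← hε₁', ← Category.assoc, ← hk]
      change F.map d ≫ F.map ε₁ = 0
      rw [← F.map_comp, hd, F.map_zero]
    obtain ⟨l, hl⟩ := Triangle.coyoneda_exact₃ T hT (k ≫ ε₃) hk0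
    obtain ⟨l₀, hl₀⟩ := b2'.2 l
    have hlk : k = l₀ ≫ b := b3'.1 (show k ≫ ε₃ = (l₀ ≫ b) ≫ ε₃ by
      rw [hl, Category.assoc, hb, ← Category.assoc, show l₀ ≫ ε₂ = l from hl₀])
    refine F.map_injective ?_
    have hz : b ≫ γ = 0 := comp_distTriang_mor_zero₂₃ S hS
    rw [hk, hlk, Category.assoc, hz, comp_zero, F.map_zero]
  · intro z
    obtain ⟨g₂, hg₂⟩ := b2.2 (z ≫ T.mor₁)
    have hg₂ : g₂ ≫ ε₂ = z ≫ T.mor₁ := hg₂
    have hg₂b : g₂ ≫ b = 0 := b3.1 (show (g₂ ≫ b) ≫ ε₃ = 0 ≫ ε₃ by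
      rw [Category.assoc, hb, reassoc_of% hg₂, comp_distTriang_mor_zero₁₂ T hT, comp_zero, zero_comp])
    obtain ⟨g, hg⟩ : ∃ g : P ⟶ Q₁, g₂ = g ≫ α := Triangle.coyoneda_exact₂ S hS g₂ hg₂b
    have hz : (z - g ≫ ε₁) ≫ T.mor₁ = 0 := by
      rw [Preadditive.sub_comp, Category.assoc, ← hε₁, ← Category.assoc, ← hg]
      exact sub_eq_zero.2 hg₂.symm
    obtain ⟨w, hw⟩ : ∃ w : F.obj P ⟶ T.obj₃, F.map (z - g ≫ ε₁) = w ≫ T.mor₃ :=
      Triangle.coyoneda_exact₁ T hT (F.map (z - g ≫ ε₁)) (by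
        change F.map (z - g ≫ ε₁) ≫ F.map T.mor₁ = 0
        rw [← F.map_comp, hz, F.map_zero])
    obtain ⟨w₀, hw₀⟩ := b3'.2 w
    obtain ⟨g', hg'⟩ := F.map_surjective (w₀ ≫ γ)
    refine ⟨g + g', F.map_injective ?_⟩
    change F.map ((g + g') ≫ ε₁) = F.map z
    have h1 : F.map g' ≫ F.map ε₁ = F.map (z - g ≫ ε₁) := by
      rw [hg', Category.assoc, hw, ← show w₀ ≫ ε₃ = w from hw₀, Category.assoc, ← hε₁']
    rw [Preadditive.add_comp, F.map_add, F.map_comp g' ε₁, h1, ← F.map_add]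
    congr 1
    abel

/-- Replacements push forward along quasi-compact open immersions. -/
theorem hasRepl_push (j : W ⟶ X) [IsOpenImmersion j] [QuasiCompact j] [DCoh.HasRpush j] (K : DCoh.D W)
    (d : ℤ) (hd : ∀ (L : DCoh.D W), DCoh.IsQCohD L → ∀ b : ℤ, L.IsLE b → ∀ i : ℤ, b + d < i →
      IsZero (DCoh.HD ((DCoh.Rpush j).obj L) i))
    {a c : ℤ} (h : HasRepl K a c) : HasRepl ((DCoh.Rpush j).obj K) a (c + d) := by
  obtain ⟨Q, ε, hq, hge, hle, hr⟩ := h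
  refine ⟨(DCoh.Rpush j).obj Q, (DCoh.Rpush j).map ε, isQCohD_Rpush j Q hq, PropPush72.isGE_Rpush j Q a,
    (DerivedCategory.isLE_iff _ _).2 fun i hi => hd Q hq c hle i hi, fun P hP => ?_⟩
  haveI := DCK91.hasLpull j
  obtain ⟨e⟩ := DCX42.nonempty_Lpull_iso_resD j
  let A := (DCX42.LpullRpushAdj j).ofNatIsoLeft e
  have := hr ((DCX42.resD j).obj P) (DCX42.isQCohD_resD hP j)
  have hfun : (fun g : P ⟶ (DCoh.Rpush j).obj Q => g ≫ (DCoh.Rpush j).map ε) =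
      A.homEquiv _ _ ∘ (fun g => g ≫ ε) ∘ (A.homEquiv _ _).symm := by
    funext g
    simp only [Function.comp_apply]
    rw [Adjunction.homEquiv_naturality_right, Equiv.apply_symm_apply]
  rw [hfun]
  exact (Equiv.bijective _).comp (this.comp (Equiv.bijective _))

/-- Change of the open immersion by an isomorphism of sources. -/
theorem nonempty_pushRes_congr {W' : Scheme.{u}} (j : W ⟶ X) [IsOpenImmersion j] (g : W' ⟶ W) [IsIso g]
    (j' : W' ⟶ X) [IsOpenImmersion j'] (h : g ≫ j = j') [DCoh.HasRpush j] [DCoh.HasRpush j'] (K : DCoh.D X) :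
    Nonempty ((DCoh.Rpush j').obj ((DCX42.resD j').obj K) ≅ (DCoh.Rpush j).obj ((DCX42.resD j).obj K)) := by
  subst h
  haveI := DCX42.hasRpush g
  haveI := DCK91.hasLpull g
  obtain ⟨eg⟩ := DCX42.nonempty_Lpull_iso_resD g
  let A := (DCX42.LpullRpushAdj g).ofNatIsoLeft eg
  let E : DCoh.D W ≌ DCoh.D W' := CategoryTheory.Equivalence.mk (DCX42.resD g) (DCX42.resD (inv g))
    ((resDId W).symm ≪≫ DCX42.resDCongr (IsIso.inv_hom_id g).symm ≪≫ (DCX42.resDComp (inv g) g).symm)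
    (DCX42.resDComp g (inv g) ≪≫ DCX42.resDCongr (IsIso.hom_inv_id g) ≪≫ resDId W')
  haveI : (DCX42.resD g).IsEquivalence := E.isEquivalence_functor
  haveI : IsIso A.unit := inferInstance
  obtain ⟨ec⟩ := DCX42.Rpush_comp g j
  exact ⟨(DCoh.Rpush (g ≫ j)).mapIso ((DCX42.resDComp g j).app K).symm ≪≫ (ec.app _).symm ≪≫
    (DCoh.Rpush j).mapIso ((asIso A.unit).app _).symm⟩

end Groth.Agent.QCohPush72
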