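import Groth.Agent.TorStalk41.Stalk
import Groth.Agent.PerfFib24.RelTorStalk
import Groth.Agent.DCX42.Res

/-!
# Stalkwise tor amplitude on the derived category
-/

set_option autoImplicit false
set_option linter.style.haveILetI false
set_option backward.isDefEq.respectTransparency.types false

noncomputable section

universe u

open CategoryTheory CategoryTheory.Limits CategoryTheory.Pretriangulated AlgebraicGeometry

attribute [local instance] HasDerivedCategory.standard

namespace Groth.Agent.QCohPush72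

open Groth.Agent.DR39

variable {X Y S : Scheme.{u}}

/-- Stalks over the base, on the derived category. -/
abbrev stalkD (q : Y ⟶ S) (y : Y) : DCoh.D Y ⥤ Dual.D (S.presheaf.stalk (q.base y)) :=
  (TorStalk41.SO q y).mapDerivedCategory

/-- Tor amplitude in `[a, b]` at `y` over the base. -/
def STAAt (q : Y ⟶ S) (a b : ℤ) (K : DCoh.D Y) (y : Y) : Prop := TA a b ((stalkD q y).obj K)

theorem staAt_toD_iff (q : Y ⟶ S) (a b : ℤ) (F : CochainComplex Y.Modules ℤ) (y : Y) :
    STAAt q a b (DCoh.toD Y F) y ↔ DerSch.HasTorAmplitudeAt q a b F y :=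
  ⟨fun h => TA.of_iso h ((TorStalk41.SO q y).mapDerivedCategoryFactors.app F),
    fun h => TA.of_iso h ((TorStalk41.SO q y).mapDerivedCategoryFactors.app F).symm⟩

theorem STAAt.of_iso {q : Y ⟶ S} {a b : ℤ} {K L : DCoh.D Y} {y : Y} (h : STAAt q a b K y) (e : K ≅ L) :
    STAAt q a b L y :=
  TA.of_iso h ((stalkD q y).mapIso e)

theorem STAAt.mono {q : Y ⟶ S} {a b a' b' : ℤ} {K : DCoh.D Y} {y : Y} (h : STAAt q a b K y)
    (ha : a' ≤ a) (hb : b ≤ b') : STAAt q a' b' K y :=
  TA.mono h ha hb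

theorem staAt_iso_iff {q : Y ⟶ S} {a b : ℤ} {K L : DCoh.D Y} {y : Y} (e : K ≅ L) :
    STAAt q a b K y ↔ STAAt q a b L y :=
  ⟨fun h => h.of_iso e, fun h => h.of_iso e.symm⟩

/-- A representing complex computes the stalkwise amplitude. -/
theorem hasTorAmplitudeD_iff (q : Y ⟶ S) (a b : ℤ) (K : DCoh.D Y) :
    DerSch.HasTorAmplitudeD q a b K ↔ ∀ y, STAAt q a b K y :=
  ⟨fun h y => ((staAt_toD_iff q a b _ y).2 (h _ ⟨DCX42.rep K⟩ y)).of_iso (DCX42.rep K),
    fun h F ⟨e⟩ y => (staAt_toD_iff q a b F y).1 ((h y).of_iso e.symm)⟩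

/-- Stalkwise amplitude along an open immersion of the source. -/
theorem staAt_resD_iff (q : Y ⟶ S) {U : Scheme.{u}} (j : U ⟶ Y) [IsOpenImmersion j] (a b : ℤ)
    (K : DCoh.D Y) (u : U) : STAAt (j ≫ q) a b ((DCX42.resD j).obj K) u ↔ STAAt q a b K (j u) := by
  rw [staAt_iso_iff ((DCX42.resD j).mapIso (DCX42.rep K).symm ≪≫ DCX42.resQ j _),
    staAt_iso_iff (DCX42.rep K).symm (y := j u), staAt_toD_iff, staAt_toD_iff]
  exact PerfFib24.hasTorAmplitudeAt_restrict_iff q j u _

/-- Tor amplitude over a ring is invariant under a bijective change of rings. -/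
theorem ta_restrict_of_bijective {A B : Type u} [CommRing A] [CommRing B] (φ : A →+* B)
    (hφ : Function.Bijective φ) {a b : ℤ} {M : DRing.Cx B} (h : TA a b ((QA B).obj M)) :
    TA a b ((QA A).obj ((DRing.restrictCx φ).obj M)) := by
  obtain ⟨E, hv, hf, ⟨e⟩⟩ := h
  refine ⟨(DRing.restrictCx φ).obj E, fun i hi => (ModuleCat.restrictScalars φ).map_isZero (hv i hi),
    fun i => TorStalk41.flat_restrictScalars φ (RingHom.Flat.of_bijective hφ) _ (hf i), ⟨?_⟩⟩
  exact ((ModuleCat.restrictScalars.{u} φ).mapDerivedCategoryFactors.app E).symm ≪≫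
    (ModuleCat.restrictScalars.{u} φ).mapDerivedCategory.mapIso e ≪≫
    (ModuleCat.restrictScalars.{u} φ).mapDerivedCategoryFactors.app M

/-- Stalks over a larger base. -/
def soPostIso (q : Y ⟶ S) {S' : Scheme.{u}} (k : S ⟶ S') (y : Y) :
    TorStalk41.SO (q ≫ k) y ≅
      TorStalk41.SO q y ⋙ ModuleCat.restrictScalars (k.stalkMap (q.base y)).hom :=
  Functor.isoWhiskerLeft _ (ModuleCat.restrictScalarsComp' (k.stalkMap (q.base y)).hom (q.stalkMap y).hom
    ((q ≫ k).stalkMap y).hom (by rw [Scheme.Hom.stalkMap_comp]; rfl)) ≪≫ (Functor.associator _ _ _).symm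

/-- Stalkwise amplitude along an open immersion of the base. -/
theorem hasTorAmplitudeAt_comp_iff (q : Y ⟶ S) {S' : Scheme.{u}} (k : S ⟶ S') [IsOpenImmersion k] (a b : ℤ)
    (F : CochainComplex Y.Modules ℤ) (y : Y) :
    DerSch.HasTorAmplitudeAt (q ≫ k) a b F y ↔ DerSch.HasTorAmplitudeAt q a b F y := by
  let φ := (k.stalkMap (q.base y)).hom
  have hφ : Function.Bijective φ := ConcreteCategory.bijective_of_isIso (k.stalkMap (q.base y))
  let M := (TorStalk41.SOc q y).obj F
  let e : (TorStalk41.SOc (q ≫ k) y).obj F ≅ (DRing.restrictCx φ).obj M :=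
    (NatIso.mapHomologicalComplex (soPostIso q k y) (ComplexShape.up ℤ)).app F
  constructor
  · intro h
    let ψ := (RingEquiv.ofBijective φ hφ).symm.toRingHom
    let N := (TorStalk41.SOc (q ≫ k) y).obj F
    have h' := ta_restrict_of_bijective ψ (RingEquiv.ofBijective φ hφ).symm.bijective (M := N) h
    let eψ := ModuleCat.restrictScalarsComp' ψ φ (RingHom.id _)
      (RingHom.ext fun z => ((RingEquiv.ofBijective φ hφ).apply_symm_apply z).symm)
    exact TA.of_iso h' ((QA _).mapIso ((DRing.restrictCx ψ).mapIso e ≪≫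
      (NatIso.mapHomologicalComplex (eψ.symm ≪≫ ModuleCat.restrictScalarsId (R := _)) (ComplexShape.up ℤ)).app M ≪≫
      (Functor.mapHomologicalComplexIdIso _ (ComplexShape.up ℤ)).app M))
  · intro h
    exact TA.of_iso (ta_restrict_of_bijective φ hφ (M := M) h) ((QA _).mapIso e.symm)

/-- Stalkwise amplitude along an open immersion of the base. -/
theorem staAt_comp_iff (q : Y ⟶ S) {S' : Scheme.{u}} (k : S ⟶ S') [IsOpenImmersion k] (a b : ℤ)
    (K : DCoh.D Y) (y : Y) : STAAt (q ≫ k) a b K y ↔ STAAt q a b K y := by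
  rw [staAt_iso_iff (DCX42.rep K).symm, staAt_iso_iff (DCX42.rep K).symm (q := q),
    staAt_toD_iff, staAt_toD_iff]
  exact hasTorAmplitudeAt_comp_iff q k a b _ y

/-- Two out of three: the first term. -/
theorem staAt_obj₁ {q : Y ⟶ S} (T : Triangle (DCoh.D Y)) (hT : T ∈ distTriang (DCoh.D Y)) {a b c : ℤ} {y : Y}
    (h2 : STAAt q a b T.obj₂ y) (h3 : STAAt q a c T.obj₃ y) : STAAt q a (max b c + 1) T.obj₁ y := by
  have hT' := (stalkD q y).map_distinguished T hT
  have h := TA.obj₁ hT' (a := a - 1) (b := max b c)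
    (TA.mono h2 (by omega) (by omega)) (TA.mono h3 (by omega) (by omega))
  exact TA.mono h (by omega) le_rfl

/-- Two out of three: the middle term. -/
theorem staAt_obj₂ {q : Y ⟶ S} (T : Triangle (DCoh.D Y)) (hT : T ∈ distTriang (DCoh.D Y)) {a b c : ℤ} {y : Y}
    (h1 : STAAt q a b T.obj₁ y) (h3 : STAAt q a c T.obj₃ y) : STAAt q a (max b c) T.obj₂ y := by
  have hT' := (stalkD q y).map_distinguished T hT
  exact TA.obj₂ hT' (TA.mono h1 le_rfl (le_max_left _ _)) (TA.mono h3 le_rfl (le_max_right _ _))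

end Groth.Agent.QCohPush72
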