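import Groth.Agent.QCohPush72.PerfPush
import Groth.Agent.DCX42.ProjFormula

/-!
# Objects supported in an open subset
-/

set_option autoImplicit false
set_option linter.style.haveILetI false
set_option backward.isDefEq.respectTransparency.types false
set_option maxHeartbeats 1000000

noncomputable section

universe u

open CategoryTheory CategoryTheory.Limits CategoryTheory.Pretriangulated DerivedCategory AlgebraicGeometry
  TopologicalSpace
open scoped ZeroObject

attribute [local instance] HasDerivedCategory.standard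

namespace Groth.Agent.QCohPush72

variable {X Y : Scheme.{u}}

/-- Restricting a direct image along an open immersion gives back the object. -/
theorem nonempty_resD_Rpush_self (j : Y ⟶ X) [IsOpenImmersion j] [DCoh.HasRpush j] (F : DCoh.D Y) :
    Nonempty ((DCX42.resD j).obj ((DCoh.Rpush j).obj F) ≅ F) := by
  obtain ⟨I, hI, ⟨e⟩⟩ := DCX42.exists_kinj F
  obtain ⟨eI⟩ := DCX42.nonempty_Rpush_model j I hI
  exact ⟨(DCX42.resD j).mapIso ((DCoh.Rpush j).mapIso e.symm ≪≫ eI) ≪≫ DCX42.resQ j _ ≪≫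
    DerivedCategory.Q.mapIso (HomologicalComplex.Hom.isoOfComponents
      (fun n => (Scheme.Modules.restrictFunctorAdjCounitIso j).app (I.X n))
      (fun n k _ => ((Scheme.Modules.restrictFunctorAdjCounitIso j).hom.naturality (I.d n k)).symm)) ≪≫ e⟩

/-- Restricting an extension by zero gives back the object. -/
theorem nonempty_resD_extZeroD (j : Y ⟶ X) [IsOpenImmersion j] [PreservesFiniteLimits (CxOX.extZero j)]
    (F : DCoh.D Y) : Nonempty ((DCX42.resD j).obj ((CxOX.extZeroD j).obj F) ≅ F) :=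
  ⟨(DCX42.resD j).mapIso ((CxOX.extZeroD j).mapIso (DCX42.rep F).symm ≪≫ (DCX42.extFac j).app _) ≪≫
    DCX42.resQ j _ ≪≫ DerivedCategory.Q.mapIso ((DCX42.extUnitIso j).app _) ≪≫ DCX42.rep F⟩

/-- An object with cohomology supported outside `V` restricts to zero on `V`. -/
theorem isZero_resD_of_support (j : Y ⟶ X) [IsOpenImmersion j] (K : DCoh.D X)
    (h : ∀ (i : ℤ) (y : Y), j.base y ∉ CohB1.support (DCoh.HD K i)) : IsZero ((DCX42.resD j).obj K) := by
  refine Mod48.isZero_of_isZero_homology fun i => ?_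
  refine IsZero.of_iso ?_ ((Mod48.homologyMapDerivedIso (Scheme.Modules.restrictFunctor j) i).app K)
  refine QC70.isZero_of_support_eq_empty (Set.eq_empty_iff_forall_notMem.mpr fun y hy => h i y fun hs => ?_)
  exact hy (((Scheme.Modules.restrictStalkNatIso j y).app
    (DCoh.HD K i)).addCommGroupIsoToAddEquiv.toEquiv.subsingleton_congr.mpr hs)

/-- An object killed on `V` is pushed from `U`. -/
theorem nonempty_iso_Rpush_of_isZero_resD (U V : X.Opens) (hUV : U ⊔ V = ⊤) [DCoh.HasRpush U.ι]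
    (K : DCoh.D X) (hK : IsZero ((DCX42.resD V.ι).obj K)) :
    Nonempty (K ≅ (DCoh.Rpush U.ι).obj ((DCX42.resD U.ι).obj K)) := by
  haveI := DCX42.hasRpush V.ι
  haveI := DCX42.hasRpush (U ⊓ V).ι
  obtain ⟨a, b, c, hT⟩ := DCX42.exists_mv_triangle U V hUV K
  have hW : IsZero ((DCX42.resD (U ⊓ V).ι).obj K) :=
    ((DCX42.resD (X.homOfLE (inf_le_right : U ⊓ V ≤ V))).map_isZero hK).of_iso
      (((DCX42.resDCongr (X.homOfLE_ι (inf_le_right : U ⊓ V ≤ V))).app K).symm ≪≫
        ((DCX42.resDComp (X.homOfLE (inf_le_right : U ⊓ V ≤ V)) V.ι).app K).symm)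
  haveI := PropPush72.additive_Rpush V.ι
  haveI := PropPush72.additive_Rpush (U ⊓ V).ι
  have z3 : IsZero ((DCoh.Rpush (U ⊓ V).ι).obj ((DCoh.restrictD (U ⊓ V).ι).obj K)) :=
    (DCoh.Rpush (U ⊓ V).ι).map_isZero hW
  haveI : IsIso a := (Triangle.isZero₃_iff_isIso₁ _ hT).1 z3
  exact ⟨asIso a ≪≫ biprod.uniqueUpToIso _ _ (BinaryBiproduct.isBilimit _ _) ≪≫
    (isoBiprodZero ((DCoh.Rpush V.ι).map_isZero hK)).symm⟩

/-- Objects supported in a closed subset of `U` are pushed from `U`. -/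
theorem nonempty_iso_Rpush_of_support (U : X.Opens) [DCoh.HasRpush U.ι] (T : Set X) (hT : IsClosed T)
    (hTU : T ⊆ (U : Set X)) (K : DCoh.D X) (h : ∀ i : ℤ, CohB1.support (DCoh.HD K i) ⊆ T) :
    Nonempty (K ≅ (DCoh.Rpush U.ι).obj ((DCX42.resD U.ι).obj K)) := by
  let V : X.Opens := ⟨Tᶜ, hT.isOpen_compl⟩
  have hUV : U ⊔ V = ⊤ := by
    ext x
    simp only [Opens.coe_sup, Opens.coe_top, Set.mem_univ, iff_true]
    by_cases hx : x ∈ T
    exacts [Or.inl (hTU hx), Or.inr hx]
  exact nonempty_iso_Rpush_of_isZero_resD U V hUV K (isZero_resD_of_support V.ι K fun i y hy => y.2 (h i hy))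

/-- The support of the cohomology of an extension by zero. -/
theorem support_HD_extZeroD_subset (U : X.Opens) [PreservesFiniteLimits (CxOX.extZero U.ι)]
    (F : DCoh.D U.toScheme) (i : ℤ) :
    CohB1.support (DCoh.HD ((CxOX.extZeroD U.ι).obj F) i) ⊆ U.ι.base '' CohB1.support (DCoh.HD F i) := by
  intro x hx
  let G := (homologyFunctor U.toScheme.Modules i).obj F
  have e : DCoh.HD ((CxOX.extZeroD U.ι).obj F) i ≅ (CxOX.extZero U.ι).obj G :=
    (Mod48.homologyMapDerivedIso (CxOX.extZero U.ι) i).app F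
  by_cases hr : x ∈ Set.range U.ι.base
  · obtain ⟨y, rfl⟩ := hr
    refine ⟨y, fun hs => hx ?_, rfl⟩
    let eU : (Scheme.Modules.restrictFunctor U.ι).obj (DCoh.HD ((CxOX.extZeroD U.ι).obj F) i) ≅ G :=
      ((Mod48.homologyMapDerivedIso (Scheme.Modules.restrictFunctor U.ι) i).app _).symm ≪≫
        (homologyFunctor _ i).mapIso (nonempty_resD_extZeroD U.ι F).some
    refine ((Scheme.Modules.restrictStalkNatIso U.ι y).app _).addCommGroupIsoToAddEquiv.toEquiv.subsingleton_congr.mp ?_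
    exact ((TopCat.Presheaf.stalkFunctor AddCommGrpCat.{u} y).mapIso
      ((Scheme.Modules.toPresheaf U.toScheme).mapIso eU)).addCommGroupIsoToAddEquiv.toEquiv.subsingleton_congr.mpr hs
  · refine absurd ?_ hx
    exact ((TopCat.Presheaf.stalkFunctor AddCommGrpCat.{u} x).mapIso
      ((Scheme.Modules.toPresheaf X).mapIso e)).addCommGroupIsoToAddEquiv.toEquiv.subsingleton_congr.mpr
        (QC70.subsingleton_stalk_extZero U.ι G hr)

theorem isPerfect_of_isZero {K : DCoh.D X} (hK : IsZero K) : DCoh.IsPerfect K := by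
  rw [DCX42.isPerfect_iff]
  intro x
  refine ⟨⊤, trivial, 0, ⟨⟨0, 0, fun i _ => ?_⟩, fun i => DCX42.isFinLocFree_of_isZero ?_⟩,
    ⟨((DCX42.resD _).map_isZero hK).iso (Q.map_isZero (isZero_zero _))⟩⟩
  all_goals exact (HomologicalComplex.eval _ _ i).map_isZero (isZero_zero _)

/-- Pushforwards of perfect objects with support closed downstairs are perfect. -/
theorem isPerfect_Rpush_of_support (U : X.Opens) [DCoh.HasRpush U.ι] (E : DCoh.D U.toScheme)
    (hE : DCoh.IsPerfect E) (T : Set U.toScheme) (hjT : IsClosed (U.ι.base '' T))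
    (hsupp : ∀ i : ℤ, CohB1.support (DCoh.HD E i) ⊆ T) : DCoh.IsPerfect ((DCoh.Rpush U.ι).obj E) := by
  let V : X.Opens := ⟨(U.ι.base '' T)ᶜ, hjT.isOpen_compl⟩
  refine DCX42.isPerfect_of_cover _ fun x => ?_
  by_cases hx : x ∈ V
  · refine ⟨V.toScheme, V.ι, inferInstance, ⟨⟨x, hx⟩, rfl⟩, isPerfect_of_isZero ?_⟩
    haveI := DCX42.hasRpush (U.ι ∣_ V)
    obtain ⟨e⟩ := DCX42.nonempty_Rpush_restrict U.ι V
    refine IsZero.of_iso ?_ (e.app E)
    haveI := PropPush72.additive_Rpush (U.ι ∣_ V)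
    refine (DCoh.Rpush (U.ι ∣_ V)).map_isZero (isZero_resD_of_support (U.ι ⁻¹ᵁ V).ι E fun i y hy => ?_)
    exact y.2 ⟨_, hsupp i hy, rfl⟩
  · have hx' : x ∈ U := by
      obtain ⟨y, -, rfl⟩ := not_not.1 hx
      exact y.2
    refine ⟨U.toScheme, U.ι, inferInstance, ⟨⟨x, hx'⟩, rfl⟩, ?_⟩
    obtain ⟨e⟩ := nonempty_resD_Rpush_self U.ι E
    exact DCX42.isPerfect_of_iso e.symm hE

end Groth.Agent.QCohPush72
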