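import Groth.Agent.QCohPush72.PerfPush
import Groth.Agent.QCohTens72.Main
import Groth.Agent.IntMult12.CohTensorD
import Groth.Agent.DCX42.RHomTri

/-!
# `- ⊗^L G` for a module as the derived tensor product with a complex in degree zero
-/

set_option autoImplicit false
set_option linter.style.haveILetI false
set_option backward.isDefEq.respectTransparency.types false

noncomputable section

universe u

open CategoryTheory CategoryTheory.Limits DerivedCategory AlgebraicGeometry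
open scoped ZeroObject

attribute [local instance] HasDerivedCategory.standard

namespace Groth.Agent.QCohPush72

variable {X : Scheme.{u}}

/-- The complex with `G` in degree `0`. -/
abbrev sgl0 (G : X.Modules) : CochainComplex X.Modules ℤ :=
  (HomologicalComplex.single X.Modules (ComplexShape.up ℤ) 0).obj G

/-- `E ⊗^L G` is `E ⊗^L G[0]`. -/
theorem nonempty_ltm_ltc (G : X.Modules) [DCoh.HasLTensorMod G] [DCoh.HasLTensorCx (sgl0 G)]
    (E : DCoh.D X) : Nonempty ((DCoh.LTensorMod G).obj E ≅ (DCoh.LTensorCx (sgl0 G)).obj E) := by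
  obtain ⟨P, p, ⟨hP, hPf⟩, hp⟩ := DCK91.res₀ X (DerivedCategory.Q.objPreimage E)
  let e : DCoh.toD X P ≅ E := (@asIso _ _ _ _ _ hp) ≪≫ DerivedCategory.Q.objObjPreimageIso E
  obtain ⟨c⟩ := TorStalk41.nonempty_ltensorIso (sgl0 G) P hP
  exact ⟨(DCoh.LTensorMod G).mapIso e.symm ≪≫ DCK91.ltmIso G P hP hPf ≪≫
    DerivedCategory.Q.mapIso (Mod48.tcSingleIso (O := X.sheaf) P G) ≪≫ c.symm ≪≫
    (DCoh.LTensorCx (sgl0 G)).mapIso e⟩

theorem isQCohD_sgl0 (G : X.Modules) (hG : Coh.IsQCoh G) : DCoh.IsQCohD (DCoh.toD X (sgl0 G)) := fun i => by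
  refine QC70.isQuasicoherent_of_iso ((homologyFunctorFactors X.Modules i).app (sgl0 G)).symm
    (DCX42.isQCoh_homology _ (fun j => ?_) i)
  by_cases h : j = 0
  · subst h
    exact QC70.isQuasicoherent_of_iso (HomologicalComplex.singleObjXSelf (ComplexShape.up ℤ) 0 G).symm hG
  · exact QC70.isQuasicoherent_of_isZero (HomologicalComplex.isZero_single_obj_X _ _ _ _ h)

/-- `- ⊗^L G` preserves quasi-coherent cohomology. -/
theorem isQCohD_LTensorMod (G : X.Modules) [DCoh.HasLTensorMod G] (hG : Coh.IsQCoh G) {E : DCoh.D X}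
    (hE : DCoh.IsQCohD E) : DCoh.IsQCohD ((DCoh.LTensorMod G).obj E) := by
  haveI := DCX42.RHomCalc.hasLT (sgl0 G)
  obtain ⟨e⟩ := nonempty_ltm_ltc G E
  exact DCX42.isQCohD_of_iso e.symm (QCohTens72.isQCohD_LTensorCx _ (isQCohD_sgl0 G hG) hE)

/-- `- ⊗^L G` is right t-exact. -/
theorem isLE_LTensorMod (G : X.Modules) [DCoh.HasLTensorMod G] {E : DCoh.D X} {n : ℤ} (h : E.IsLE n) :
    ((DCoh.LTensorMod G).obj E).IsLE n := by
  obtain ⟨F, hF, ⟨e⟩⟩ := exists_iso_Q_obj_of_isLE E n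
  obtain ⟨P, c, hP, hfl, hc⟩ := DCK91.exists_flat_res_le (O := X.sheaf) F n
    (inferInstanceAs (CochainComplex.IsLE (C := X.Modules) F n))
  have hk := DCK91.kff_of_le (X := X) P n hP fun i => DCK91.flatMod_of_isFlat _ (hfl i)
  have : IsIso (DerivedCategory.Q.map (C := CochainComplex X.Modules ℤ) c) :=
    (DerivedCategory.isIso_Q_map_iff_quasiIso X.Modules c).2 hc
  refine ⟨_, (DCoh.LTensorMod G).mapIso (e ≪≫
    (asIso (DerivedCategory.Q.map (C := CochainComplex X.Modules ℤ) c)).symm) ≪≫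
      DCK91.ltmIso G P hk.1 hk.2, ?_⟩
  rw [CochainComplex.isStrictlyLE_iff]
  exact fun i hi => (DCoh.tensorRightMod G).map_isZero (hP i hi)

/-- `- ⊗^L G` preserves coherence and boundedness above. -/
theorem isCohD_LTensorMod_of_isLE [IsLocallyNoetherian X] (G : X.Modules) [DCoh.HasLTensorMod G]
    (hG : Coh.IsCoh G) {E : DCoh.D X} {n : ℤ} (hn : E.IsLE n) (hE : DCoh.IsCohD E) :
    DCoh.IsCohD ((DCoh.LTensorMod G).obj E) := by
  haveI := DCX42.RHomCalc.hasLT (sgl0 G)
  obtain ⟨e⟩ := nonempty_ltm_ltc G E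
  have hz : ∀ i, i ≠ 0 → IsZero (DCoh.HD (DCoh.toD X (sgl0 G)) i) := fun i hi =>
    DCK91.isZero_HD_toD _ i (HomologicalComplex.isZero_single_obj_X _ _ _ _ hi)
  have hs : DCoh.IsCohD (DCoh.toD X (sgl0 G)) := fun i => by
    by_cases hi : i = 0
    · subst hi
      exact QC70.isCoh_of_iso ((homologyFunctorFactors X.Modules 0).app (sgl0 G) ≪≫
        HomologicalComplex.singleObjHomologySelfIso (ComplexShape.up ℤ) 0 G).symm hG
    · exact QC70.isCoh_of_isZero (hz i hi)
  have h := (IntMult12.isCohD_lTensor (sgl0 G) E hE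
    ⟨n, fun i hi => haveI := hn; DerivedCategory.isZero_of_isLE E n i hi⟩ hs
    ⟨0, fun i hi => hz i (by omega)⟩).1
  exact fun i => QC70.isCoh_of_iso ((homologyFunctor X.Modules i).mapIso e).symm (h i)

end Groth.Agent.QCohPush72
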