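import Groth.Agent.QCohPush72.AffineUnit

/-!
# The unit of `Rf_*` on complexes
-/

set_option autoImplicit false
set_option backward.isDefEq.respectTransparency.types false

noncomputable section

universe u

open CategoryTheory CategoryTheory.Limits DerivedCategory AlgebraicGeometry

attribute [local instance] HasDerivedCategory.standard

namespace Groth.Agent.QCohPush72

variable {X Y : Scheme.{u}}

/-- The unit `f_*K ⟶ Rf_*K` for a complex `K`. -/
def unitQ' (f : X ⟶ Y) [DCoh.HasRpush f] (K : CochainComplex X.Modules ℤ) :
    Q.obj (((Scheme.Modules.pushforward f).mapHomologicalComplex (ComplexShape.up ℤ)).obj K) ⟶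
      (DCoh.Rpush f).obj (Q.obj K) :=
  (PropPush72.αu f).app ((HomotopyCategory.quotient X.Modules (ComplexShape.up ℤ)).obj K)

theorem unitQ'_natural (f : X ⟶ Y) [DCoh.HasRpush f] {K L : CochainComplex X.Modules ℤ} (g : K ⟶ L) :
    Q.map (((Scheme.Modules.pushforward f).mapHomologicalComplex (ComplexShape.up ℤ)).map g) ≫ unitQ' f L =
      unitQ' f K ≫ (DCoh.Rpush f).map (Q.map g) :=
  (PropPush72.αu f).naturality ((HomotopyCategory.quotient X.Modules (ComplexShape.up ℤ)).map g)

end Groth.Agent.QCohPush72
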