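import Groth.Agent.QCohPush72.StalkTA
import Groth.Agent.QCohPush72.FlatAmp
import Groth.Agent.QCohPush72.Support
import Groth.Agent.QCohPush72.Bound
import Groth.Agent.DCX42.TildePC
import Groth.Agent.DCX42.KInjPush
import Groth.Agent.S7268
import Groth.Agent.PerfFib24.TorTilde

/-!
# Tor amplitude over a base of derived direct images
-/

set_option autoImplicit false
set_option linter.style.haveILetI false
set_option backward.isDefEq.respectTransparency.types false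
set_option maxHeartbeats 1000000

noncomputable section

universe u

open CategoryTheory CategoryTheory.Limits CategoryTheory.Pretriangulated DerivedCategory AlgebraicGeometry
  TopologicalSpace
open scoped ZeroObject

attribute [local instance] HasDerivedCategory.standard

namespace Groth.Agent.QCohPush72

variable {X Y S : Scheme.{u}}

theorem hasTorAmplitude_tilde_iff {R A : Type u} [CommRing R] [CommRing A] (φ : R →+* A)
    (M : Dual.D A) (a b : ℤ) :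
    (∀ x, STAAt (Spec.map (CommRingCat.ofHom φ)) a b (DCX42.tD A M) x) ↔
      DRing.HasTorAmplitudeIn R a b ((DRing.restrictD φ).obj M) := by
  haveI := DCX42.preservesFiniteLimits_tilde_functor (CommRingCat.of A)
  let K := DCX42.tD A M
  let F := DerivedCategory.Q.objPreimage K
  rw [← hasTorAmplitudeD_iff]
  have h := PerfFib24.hasTorAmplitude_tilde_iff (CommRingCat.ofHom φ) M F (DCX42.rep K) a b
  exact ⟨fun hD => h.1 (hD F ⟨DCX42.rep K⟩),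
    fun hM => TorStalk41.hasTorAmplitudeD_of_rep _ F (DCX42.rep K) (h.2 hM)⟩

/-- Restrictions along inverse isomorphisms cancel. -/
theorem nonempty_resD_cancel {U V : Scheme.{u}} (e : U ≅ V) (K : DCoh.D U) :
    Nonempty ((DCX42.resD e.hom).obj ((DCX42.resD e.inv).obj K) ≅ K) := by
  obtain ⟨eid⟩ := nonempty_resD_id K
  exact ⟨(DCX42.resDComp e.hom e.inv).app K ≪≫ (DCX42.resDCongr e.hom_inv_id).app K ≪≫ eid⟩

/-- Direct image along an isomorphism. -/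
theorem nonempty_Rpush_iso {U V : Scheme.{u}} (e : U ≅ V) [DCoh.HasRpush e.hom] (K : DCoh.D U) :
    Nonempty ((DCoh.Rpush e.hom).obj K ≅ (DCX42.resD e.inv).obj K) := by
  obtain ⟨e₁⟩ := nonempty_resD_Rpush_self e.hom K
  obtain ⟨e₂⟩ := nonempty_resD_cancel e.symm ((DCoh.Rpush e.hom).obj K)
  exact ⟨e₂.symm ≪≫ (DCX42.resD e.inv).mapIso e₁⟩

/-- Restriction of scalars along a composite. -/
theorem nonempty_restrictD_comp {R A B : Type u} [CommRing R] [CommRing A] [CommRing B] (ψ : R →+* A) (φ : A →+* B)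
    (M : Dual.D B) :
    Nonempty ((DRing.restrictD ψ).obj ((DRing.restrictD φ).obj M) ≅ (DRing.restrictD (φ.comp ψ)).obj M) := by
  let P := DerivedCategory.Q.objPreimage M
  let e : DerivedCategory.Q.obj P ≅ M := DerivedCategory.Q.objObjPreimageIso M
  obtain ⟨e₁⟩ := DR39.resCx_comp ψ φ _ rfl P
  exact ⟨(DRing.restrictD ψ).mapIso ((DRing.restrictD φ).mapIso e.symm ≪≫ DR39.restrictDIso φ P) ≪≫
    DR39.restrictDIso ψ _ ≪≫ DerivedCategory.Q.mapIso e₁ ≪≫ (DR39.restrictDIso (φ.comp ψ) P).symm ≪≫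
    (DRing.restrictD (φ.comp ψ)).mapIso e⟩

/-- Direct image between spectra. -/
theorem staAt_Rpush_Spec {R A B : Type u} [CommRing R] [CommRing A] [CommRing B] (φ : A →+* B) (ψ : R →+* A)
    [DCoh.HasRpush (Spec.map (CommRingCat.ofHom φ))]
    (E : DCoh.D (Spec (CommRingCat.of B))) (hE : DCoh.IsQCohD E) (a b : ℤ)
    (h : ∀ x, STAAt (Spec.map (CommRingCat.ofHom φ) ≫ Spec.map (CommRingCat.ofHom ψ)) a b E x) :
    ∀ y, STAAt (Spec.map (CommRingCat.ofHom ψ)) a b ((DCoh.Rpush (Spec.map (CommRingCat.ofHom φ))).obj E) y := by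
  haveI := DCX42.preservesFiniteLimits_tilde_functor (CommRingCat.of A)
  haveI := DCX42.preservesFiniteLimits_tilde_functor (CommRingCat.of B)
  obtain ⟨M, ⟨e⟩⟩ := ((DCX42.tildeD_fullyFaithful_essImage (CommRingCat.of B)).2.2 E).1 hE
  obtain ⟨η⟩ := Groth.Agent.S7268.result φ
  let e' : DCX42.tD A ((DRing.restrictD φ).obj M) ≅ (DCoh.Rpush (Spec.map (CommRingCat.ofHom φ))).obj E :=
    (η.app M).symm ≪≫ (DCoh.Rpush _).mapIso e
  have h1 : DRing.HasTorAmplitudeIn R a b ((DRing.restrictD (φ.comp ψ)).obj M) := by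
    refine (hasTorAmplitude_tilde_iff (φ.comp ψ) M a b).1 fun x => ?_
    rw [CommRingCat.ofHom_comp, Spec.map_comp]
    exact (h x).of_iso e.symm
  intro y
  exact ((hasTorAmplitude_tilde_iff ψ ((DRing.restrictD φ).obj M) a b).2
    (DR39.TA.of_iso h1 (nonempty_restrictD_comp ψ φ M).some.symm) y).of_iso e'

/-- Direct image between affine schemes over an affine base, in given charts. -/
theorem staAt_Rpush_chart {R A B : Type u} [CommRing R] [CommRing A] [CommRing B] (φ : A →+* B) (ψ : R →+* A)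
    {U W : Scheme.{u}} (eU : U ≅ Spec (CommRingCat.of B)) (eW : W ≅ Spec (CommRingCat.of A))
    (eS : S ≅ Spec (CommRingCat.of R)) (g : U ⟶ W) (q : W ⟶ S)
    (hg : g = eU.hom ≫ Spec.map (CommRingCat.ofHom φ) ≫ eW.inv)
    (hq : eW.inv ≫ q = Spec.map (CommRingCat.ofHom ψ) ≫ eS.inv)
    [DCoh.HasRpush g] (E : DCoh.D U) (hE : DCoh.IsQCohD E) (a b : ℤ)
    (h : ∀ x, STAAt (g ≫ q) a b E x) : ∀ y, STAAt q a b ((DCoh.Rpush g).obj E) y := by
  subst hg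
  let gS := Spec.map (CommRingCat.ofHom φ)
  let qS := Spec.map (CommRingCat.ofHom ψ)
  haveI := DCX42.hasRpush eU.hom
  haveI := DCX42.hasRpush gS
  haveI := DCX42.hasRpush eW.inv
  haveI := DCX42.hasRpush (gS ≫ eW.inv)
  obtain ⟨ec⟩ := DCX42.Rpush_comp eU.hom (gS ≫ eW.inv)
  obtain ⟨ec'⟩ := DCX42.Rpush_comp gS eW.inv
  obtain ⟨eI⟩ := nonempty_Rpush_iso eU E
  let E' := (DCX42.resD eU.inv).obj E
  let e₀ : (DCoh.Rpush (eU.hom ≫ gS ≫ eW.inv)).obj E ≅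
      (DCoh.Rpush eW.inv).obj ((DCoh.Rpush gS).obj E') :=
    ((ec.app E : (DCoh.Rpush (gS ≫ eW.inv)).obj ((DCoh.Rpush eU.hom).obj E) ≅ _)).symm ≪≫
      (DCoh.Rpush (gS ≫ eW.inv)).mapIso eI ≪≫
      ((ec'.app E' : (DCoh.Rpush eW.inv).obj ((DCoh.Rpush gS).obj E') ≅ (DCoh.Rpush (gS ≫ eW.inv)).obj E')).symm
  have hE' : ∀ x, STAAt (gS ≫ qS) a b E' x := fun x => by
    have h1 := (staAt_resD_iff ((eU.hom ≫ gS ≫ eW.inv) ≫ q) eU.inv a b E x).2 (h _)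
    have e : eU.inv ≫ (eU.hom ≫ gS ≫ eW.inv) ≫ q = (gS ≫ qS) ≫ eS.inv := by
      simp [gS, qS, hq]
    rw [e] at h1
    exact (staAt_comp_iff (gS ≫ qS) eS.inv a b E' x).1 h1
  have key := staAt_Rpush_Spec φ ψ E' (DCX42.isQCohD_resD hE _) a b hE'
  intro y
  obtain ⟨z, rfl⟩ : ∃ z, eW.inv z = y := ⟨eW.hom y, by rw [← Scheme.Hom.comp_apply, Iso.hom_inv_id]; rfl⟩
  refine (staAt_resD_iff q eW.inv a b _ z).1 ?_
  rw [hq, staAt_comp_iff]
  obtain ⟨e₁⟩ := nonempty_resD_Rpush_self eW.inv ((DCoh.Rpush gS).obj E')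
  exact (key z).of_iso ((DCX42.resD _).mapIso e₀ ≪≫ e₁).symm

/-- Direct image between affine schemes over an affine base. -/
theorem staAt_Rpush_affine {U W : Scheme.{u}} [IsAffine U] [IsAffine W] [IsAffine S] (g : U ⟶ W) (q : W ⟶ S)
    [DCoh.HasRpush g] (E : DCoh.D U) (hE : DCoh.IsQCohD E) (a b : ℤ)
    (h : ∀ x, STAAt (g ≫ q) a b E x) : ∀ y, STAAt q a b ((DCoh.Rpush g).obj E) y :=
  staAt_Rpush_chart (R := Γ(S, ⊤)) (A := Γ(W, ⊤)) (B := Γ(U, ⊤)) g.appTop.hom q.appTop.hom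
    U.isoSpec W.isoSpec S.isoSpec g q
    (by
      have hgn := Scheme.isoSpec_hom_naturality g
      exact ((reassoc_of% hgn) W.isoSpec.inv).trans (by simp) |>.symm)
    (Scheme.isoSpec_inv_naturality q).symm E hE a b h

/-- A property stable under the operations of a Mayer-Vietoris induction. -/
structure IsMVProp (P : DCoh.D Y → Prop) : Prop where
  of_iso : ∀ {K L : DCoh.D Y}, P K → (K ≅ L) → P L
  biprod : ∀ {K L : DCoh.D Y}, P K → P L → P (K ⊞ L)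
  obj₁ : ∀ (T : Triangle (DCoh.D Y)), T ∈ distTriang (DCoh.D Y) → P T.obj₂ → P T.obj₃ → P T.obj₁

/-- `P` holds for `R(j ≫ f)_*` for every open immersion with range `U`. -/
def GoodP (P : DCoh.D Y → Prop) (f : X ⟶ Y) (E : DCoh.D X) (U : X.Opens) : Prop :=
  ∀ (Z : Scheme.{u}) (j : Z ⟶ X) [IsOpenImmersion j], j.opensRange = U → ∀ [DCoh.HasRpush (j ≫ f)],
    P ((DCoh.Rpush (j ≫ f)).obj ((DCX42.resD j).obj E))

theorem goodP_sup {P : DCoh.D Y → Prop} (hP : IsMVProp P) (f : X ⟶ Y) (E : DCoh.D X) (U V : X.Opens)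
    (hU : GoodP P f E U) (hV : GoodP P f E V) (hUV : GoodP P f E (U ⊓ V)) : GoodP P f E (U ⊔ V) :=
  fun Z j _ hj _ => by
  have hsup : j ⁻¹ᵁ U ⊔ j ⁻¹ᵁ V = ⊤ := by
    refine top_unique fun z _ => ?_
    have : j z ∈ U ⊔ V := hj ▸ ⟨z, rfl⟩
    exact this
  have hle : ∀ W : X.Opens, W ≤ U ⊔ V → ((j ⁻¹ᵁ W).ι ≫ j).opensRange = W := fun W hW => by
    rw [Scheme.Hom.opensRange_comp, Scheme.Opens.opensRange_ι, j.image_preimage_eq_opensRange_inf, hj]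
    exact inf_eq_right.mpr hW
  have piece : ∀ W : X.Opens, W ≤ U ⊔ V → GoodP P f E W → ∀ [DCoh.HasRpush ((j ⁻¹ᵁ W).ι ≫ j ≫ f)],
      P ((DCoh.Rpush ((j ⁻¹ᵁ W).ι ≫ j ≫ f)).obj
        ((DCoh.restrictD (j ⁻¹ᵁ W).ι).obj ((DCX42.resD j).obj E))) := fun W hW h _ => by
    haveI : DCoh.HasRpush (((j ⁻¹ᵁ W).ι ≫ j) ≫ f) := DCX42.hasRpush _
    have h1 := h _ ((j ⁻¹ᵁ W).ι ≫ j) (hle W hW)
    have h2 : ∀ (g : (j ⁻¹ᵁ W).toScheme ⟶ Y) [DCoh.HasRpush g], ((j ⁻¹ᵁ W).ι ≫ j) ≫ f = g →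
        P ((DCoh.Rpush g).obj ((DCX42.resD ((j ⁻¹ᵁ W).ι ≫ j)).obj E)) := by
      rintro g _ rfl
      exact h1
    exact hP.of_iso (h2 _ (Category.assoc _ _ _))
      ((DCoh.Rpush _).mapIso ((DCX42.resDComp (j ⁻¹ᵁ W).ι j).app E).symm)
  haveI := DCX42.hasRpush ((j ⁻¹ᵁ U).ι ≫ j ≫ f)
  haveI := DCX42.hasRpush ((j ⁻¹ᵁ V).ι ≫ j ≫ f)
  haveI := DCX42.hasRpush ((j ⁻¹ᵁ U ⊓ j ⁻¹ᵁ V).ι ≫ j ≫ f)
  haveI := DCX42.hasRpush (j ⁻¹ᵁ U).ι
  haveI := DCX42.hasRpush (j ⁻¹ᵁ V).ι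
  haveI := DCX42.hasRpush (j ⁻¹ᵁ U ⊓ j ⁻¹ᵁ V).ι
  let E' := (DCX42.resD j).obj E
  obtain ⟨a, b, c, hT⟩ := DCX42.exists_mv_triangle (j ⁻¹ᵁ U) (j ⁻¹ᵁ V) hsup E'
  obtain ⟨eU⟩ := DCX42.Rpush_comp (j ⁻¹ᵁ U).ι (j ≫ f)
  obtain ⟨eV⟩ := DCX42.Rpush_comp (j ⁻¹ᵁ V).ι (j ≫ f)
  obtain ⟨eW⟩ := DCX42.Rpush_comp (j ⁻¹ᵁ U ⊓ j ⁻¹ᵁ V).ι (j ≫ f)
  obtain ⟨a', b', c', hT'⟩ := DCX42.exists_triangle_push (DCoh.Rpush (j ≫ f)) (PropPush72.αu (j ≫ f))
    (PropPush72.hα (j ≫ f)) hT (Iso.refl _) (eU.app _) (eV.app _) (eW.app _)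
  refine hP.obj₁ _ hT' (hP.biprod (piece U le_sup_left hU) (piece V le_sup_right hV)) ?_
  haveI : DCoh.HasRpush ((j ⁻¹ᵁ (U ⊓ V)).ι ≫ j ≫ f) := DCX42.hasRpush _
  exact piece (U ⊓ V) (inf_le_left.trans le_sup_left) hUV

/-- `P` holds for `Rf_*E` if it holds on the affine opens. -/
theorem mvProp_Rpush {P : DCoh.D Y → Prop} (hP : IsMVProp P) (f : X ⟶ Y) [CompactSpace X]
    [QuasiSeparatedSpace X] [DCoh.HasRpush f] (E : DCoh.D X)
    (h : ∀ U : X.Opens, IsAffineOpen U → GoodP P f E U) : P ((DCoh.Rpush f).obj E) := by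
  have htop : GoodP P f E ⊤ := Coh69.qc_induction (GoodP P f E) h
    (fun U V _ _ => goodP_sup hP f E U V) ⊤ (by simpa using isCompact_univ)
  haveI := DCX42.hasRpush (𝟙 X ≫ f)
  have h1 := htop X (𝟙 X) (Scheme.Hom.opensRange_of_isIso _)
  have h2 : ∀ (g : X ⟶ Y) [DCoh.HasRpush g], 𝟙 X ≫ f = g →
      P ((DCoh.Rpush g).obj ((DCX42.resD (𝟙 X)).obj E)) := by
    rintro g _ rfl
    exact h1
  obtain ⟨e⟩ := nonempty_resD_id E
  exact hP.of_iso (h2 f (Category.id_comp f)) ((DCoh.Rpush f).mapIso e)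

/-- Tor amplitude with some upper bound is a Mayer-Vietoris property. -/
theorem isMVProp_sta (q : Y ⟶ S) (a : ℤ) : IsMVProp fun K => ∃ b, ∀ y, STAAt q a b K y where
  of_iso := fun ⟨b, h⟩ e => ⟨b, fun y => (h y).of_iso e⟩
  biprod := fun {K L} ⟨b, h⟩ ⟨c, h'⟩ => ⟨max b c, fun y =>
    staAt_obj₂ _ (binaryBiproductTriangle_distinguished K L) (h y) (h' y)⟩
  obj₁ := fun T hT ⟨b, h⟩ ⟨c, h'⟩ => ⟨max b c + 1, fun y => staAt_obj₁ T hT (h y) (h' y)⟩

/-- The lower bound over an affine base. -/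
theorem exists_sta_Rpush_affineBase [IsAffine Y] [IsAffine S] (f : X ⟶ Y) [CompactSpace X]
    [QuasiSeparatedSpace X] [DCoh.HasRpush f] (q : Y ⟶ S) (E : DCoh.D X) (hE : DCoh.IsQCohD E) (a b : ℤ)
    (h : ∀ x, STAAt (f ≫ q) a b E x) : ∃ b', ∀ y, STAAt q a b' ((DCoh.Rpush f).obj E) y :=
  mvProp_Rpush (isMVProp_sta q a) f E fun U hU Z j _ hj _ => by
    haveI : IsAffine U.toScheme := hU
    haveI : IsAffine Z := IsAffine.of_isIso (j.isoOpensRange ≪≫ X.isoOfEq hj).hom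
    refine ⟨b, staAt_Rpush_affine (j ≫ f) q _ (DCX42.isQCohD_resD hE j) a b fun x => ?_⟩
    rw [Category.assoc]
    exact (staAt_resD_iff (f ≫ q) j a b E x).2 (h _)

/-- Cohomology of stalks. -/
theorem nonempty_HF_stalkD (q : Y ⟶ S) (K : DCoh.D Y) (y : Y) (i : ℤ) :
    Nonempty ((DR39.HF _ i).obj ((stalkD q y).obj K) ≅ (TorStalk41.SO q y).obj (DCoh.HD K i)) :=
  ⟨(Mod48.homologyMapDerivedIso (TorStalk41.SO q y) i).app K⟩

/-- The upper bound is the bound on the cohomology. -/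
theorem STAAt.sharpen {q : Y ⟶ S} {a b : ℤ} {K : DCoh.D Y} {y : Y} (h : STAAt q a b K y) (c : ℤ)
    (hK : ∀ i, c < i → IsZero (DCoh.HD K i)) : STAAt q a c K y := by
  obtain ⟨E, hv, hf, ⟨e⟩⟩ := id h
  refine (DR39.ta_iff a c E (DR39.isKFlat_of_flat b (fun i hi => hv i (Or.inr hi)) hf) e).2
    ⟨fun i hi => ?_, DR39.TA.lowEx h (DR39.isKFlat_of_flat b (fun i hi => hv i (Or.inr hi)) hf) e⟩
  obtain ⟨ei⟩ := nonempty_HF_stalkD q K y i
  exact ((TorStalk41.SO q y).map_isZero (hK i (by omega))).of_iso ei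

/-- Tor amplitude at all points bounds the cohomology. -/
theorem isZero_HD_of_sta (q : Y ⟶ S) {a b : ℤ} {K : DCoh.D Y} (h : ∀ y, STAAt q a b K y) (i : ℤ) (hi : b < i) :
    IsZero (DCoh.HD K i) := by
  refine DCK91.isZero_of_stalks fun y => DR39.isZero_of_isZero_restrict (q.stalkMap y).hom _ ?_
  obtain ⟨e⟩ := nonempty_HF_stalkD q K y i
  exact (DR39.TA.acyc (h y) i (by omega)).of_iso e.symm

/-- Vanishing above the bound for bounded objects. -/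
theorem isZero_HD_Rpush_bounded (f : X ⟶ Y) [DCoh.HasRpush f] (d : ℤ)
    (hN : ∀ (F : X.Modules), Coh.IsQCoh F → ∀ i : ℤ, d < i →
      IsZero ((homologyFunctor Y.Modules i).obj ((DCoh.Rpush f).obj ((singleFunctor X.Modules 0).obj F))))
    (K : DCoh.D X) (hK : DCoh.IsQCohD K) (c b : ℤ) (hc : K.IsGE c) (hb : ∀ i, b < i → IsZero (DCoh.HD K i))
    (j : ℤ) (hj : b + d < j) : IsZero (DCoh.HD ((DCoh.Rpush f).obj K) j) := by
  haveI hb' : K.IsLE b := (DerivedCategory.isLE_iff _ _).2 hb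
  let adjf := Scheme.Modules.pullbackPushforwardAdjunction f
  haveI := adjf.isLeftAdjoint
  haveI : (Scheme.Modules.pullback f).PreservesZeroMorphisms :=
    Functor.preservesZeroMorphisms_of_isLeftAdjoint _
  haveI := Mod48.LocGen.preservesZeroMorphisms_push (A := X.Modules) (B := Y.Modules) (DCoh.Rpush f)
    (PropPush72.αu f) (PropPush72.hα f) CohDer42.RdAdj.enoughKInj j
  let S : ObjectProperty (DCoh.D X) := fun Z =>
    IsZero ((homologyFunctor Y.Modules j).obj ((DCoh.Rpush f).obj Z))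
  haveI : S.IsClosedUnderIsomorphisms :=
    ⟨fun e h => h.of_iso ((homologyFunctor Y.Modules j).mapIso ((DCoh.Rpush f).mapIso e)).symm⟩
  have hz : ∀ Z, IsZero Z → S Z := fun Z hZ => ((DCoh.Rpush f) ⋙ homologyFunctor Y.Modules j).map_isZero hZ
  change S _
  refine Mod48.bounded_induction S hz (fun T hT h₁ h₃ => ?_) (b + 1 - c).toNat c _ hc
    (TStructure.t.isLE_of_le _ b _ (by omega)) fun q => ?_
  · obtain ⟨w, e⟩ := Mod48.LocGen.exact_homology_push (A := X.Modules) (B := Y.Modules) (DCoh.Rpush f)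
      (PropPush72.αu f) (PropPush72.hα f) adjf (Mod48.modGen Y.sheaf) CohDer42.RdAdj.enoughKInj T hT j
    exact e.isZero_X₂ (IsZero.eq_of_src h₁ _ _) (IsZero.eq_of_tgt h₃ _ _)
  · by_cases hq : q ≤ b
    · obtain ⟨e⟩ := Mod48.LocGen.nonempty_homology_push_single_iso (A := X.Modules) (B := Y.Modules)
        (DCoh.Rpush f) (PropPush72.αu f) (PropPush72.hα f) CohDer42.RdAdj.enoughKInj
        ((homologyFunctor X.Modules q).obj K) q j (j - q) (by omega)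
      exact (hN _ (hK q) _ (by omega)).of_iso e
    · exact hz _ ((singleFunctor X.Modules q).map_isZero (DerivedCategory.isZero_of_isLE _ b q (by omega)))

/-- Tor amplitude over the base of `Rf_*E` on a suitable affine open. -/
theorem exists_sta_Rpush_nhd (f : X ⟶ Y) [QuasiCompact f] [QuasiSeparated f] [DCoh.HasRpush f] (q : Y ⟶ S)
    {S0 : S.Opens} (hS0 : IsAffineOpen S0) {W : Y.Opens} (hW : IsAffineOpen W) (hWle : W ≤ q ⁻¹ᵁ S0)
    (E : DCoh.D X) (hE : DCoh.IsQCohD E) (a b : ℤ) (h : ∀ x, f x ∈ W → STAAt (f ≫ q) a b E x) :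
    ∃ b', ∀ y ∈ W, STAAt q a b' ((DCoh.Rpush f).obj E) y := by
  haveI : IsAffine S0.toScheme := hS0
  haveI : IsAffine W.toScheme := hW
  haveI : CompactSpace (f ⁻¹ᵁ W).toScheme := QuasiCompact.compactSpace_of_compactSpace (f ∣_ W)
  haveI : QuasiSeparatedSpace (f ⁻¹ᵁ W).toScheme := quasiSeparatedSpace_of_quasiSeparated (f ∣_ W)
  haveI := DCX42.hasRpush (f ∣_ W)
  let q' := q.resLE S0 W hWle
  let E' := (DCX42.resD (f ⁻¹ᵁ W).ι).obj E
  have hE' : ∀ x, STAAt (f ∣_ W ≫ q') a b E' x := fun x => by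
    refine (staAt_comp_iff (f ∣_ W ≫ q') S0.ι a b E' x).1 ?_
    rw [Category.assoc, Scheme.Hom.resLE_comp_ι, morphismRestrict_ι_assoc]
    exact (staAt_resD_iff (f ≫ q) (f ⁻¹ᵁ W).ι a b E x).2 (h _ x.2)
  obtain ⟨b', hb'⟩ := exists_sta_Rpush_affineBase (f ∣_ W) q' E' (DCX42.isQCohD_resD hE _) a b hE'
  obtain ⟨e⟩ := DCX42.nonempty_Rpush_restrict f W
  refine ⟨b', fun y hyW => (staAt_resD_iff q W.ι a b' _ ⟨y, hyW⟩).1 ?_⟩
  have h1 := (staAt_comp_iff q' S0.ι a b' _ ⟨y, hyW⟩).2 (hb' _)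
  rw [Scheme.Hom.resLE_comp_ι] at h1
  exact h1.of_iso (e.app E).symm

/-- Tor amplitude over the base of `Rf_*E`, at every point. -/
theorem exists_sta_Rpush (f : X ⟶ Y) [QuasiCompact f] [QuasiSeparated f] [DCoh.HasRpush f] (q : Y ⟶ S)
    (E : DCoh.D X) (hE : DCoh.IsQCohD E) (a b : ℤ) (h : ∀ x, STAAt (f ≫ q) a b E x) (y : Y) :
    ∃ b', STAAt q a b' ((DCoh.Rpush f).obj E) y := by
  obtain ⟨S0, hS0, hs, -⟩ := exists_isAffineOpen_mem_and_subset (x := q y) (U := (⊤ : S.Opens)) trivial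
  obtain ⟨W, hW, hyW, hWle⟩ := exists_isAffineOpen_mem_and_subset (x := y) (U := q ⁻¹ᵁ S0) hs
  obtain ⟨b', hb'⟩ := exists_sta_Rpush_nhd f q hS0 hW hWle E hE a b fun x _ => h x
  exact ⟨b', hb' y hyW⟩

/-- Tor amplitude over the base of `Rf_*E`. -/
theorem sta_Rpush (f : X ⟶ Y) [QuasiCompact f] [QuasiSeparated f] [DCoh.HasRpush f] (q : Y ⟶ S) (d : ℤ)
    (hN : ∀ (F : X.Modules), Coh.IsQCoh F → ∀ i : ℤ, d < i →
      IsZero ((homologyFunctor Y.Modules i).obj ((DCoh.Rpush f).obj ((singleFunctor X.Modules 0).obj F))))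
    (E : DCoh.D X) (hE : DCoh.IsQCohD E) (c : ℤ) [E.IsGE c] (a b : ℤ)
    (h : ∀ x, STAAt (f ≫ q) a b E x) (y : Y) : STAAt q a (b + d) ((DCoh.Rpush f).obj E) y := by
  obtain ⟨b', hb'⟩ := exists_sta_Rpush f q E hE a b h y
  exact hb'.sharpen (b + d) fun i hi =>
    isZero_HD_Rpush_bounded f d hN E hE c b ‹_› (isZero_HD_of_sta (f ≫ q) h) i hi

end Groth.Agent.QCohPush72
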