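import Groth.Agent.QCohPush72.TorPush
import Groth.Agent.TorStalk41.Pull
import Groth.Agent.DCK91.Amp

/-!
# Finite tor dimension of derived direct images
-/

set_option autoImplicit false
set_option linter.style.haveILetI false
set_option backward.isDefEq.respectTransparency.types false
set_option maxHeartbeats 1000000

noncomputable section

universe u

open CategoryTheory CategoryTheory.Limits CategoryTheory.Pretriangulated DerivedCategory AlgebraicGeometry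
  TopologicalSpace

attribute [local instance] HasDerivedCategory.standard

namespace Groth.Agent.QCohPush72

variable {X Y S : Scheme.{u}}

/-- Local intervals give an interval on a quasi-compact set. -/
theorem exists_interval_of_local {ι : Type*} [TopologicalSpace ι] (P : ℤ → ℤ → ι → Prop)
    (hmono : ∀ a b a' b' i, a' ≤ a → b ≤ b' → P a b i → P a' b' i)
    (h : ∀ i, ∃ V : Set ι, IsOpen V ∧ i ∈ V ∧ ∃ a b, ∀ j ∈ V, P a b j) (K : Set ι) (hK : IsCompact K) :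
    ∃ a b, ∀ j ∈ K, P a b j := by
  refine IsCompact.induction_on hK (p := fun s => ∃ a b, ∀ j ∈ s, P a b j) ⟨0, 0, fun j hj => hj.elim⟩
    (fun s t hst ⟨a, b, h⟩ => ⟨a, b, fun j hj => h j (hst hj)⟩)
    (fun s t ⟨a, b, h⟩ ⟨c, d, h'⟩ => ⟨min a c, max b d, fun j hj => ?_⟩) fun i _ => ?_
  · rcases hj with hj | hj
    · exact hmono a b _ _ j (min_le_left _ _) (le_max_left _ _) (h j hj)
    · exact hmono c d _ _ j (min_le_right _ _) (le_max_right _ _) (h' j hj)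
  · obtain ⟨V, hV, hi, hP⟩ := h i
    exact ⟨V, mem_nhdsWithin_of_mem_nhds (hV.mem_nhds hi), hP⟩

/-- Locally finite stalkwise tor amplitude is inherited by `Rf_*`. -/
theorem locFinite_Rpush (f : X ⟶ Y) [QuasiCompact f] [QuasiSeparated f] [DCoh.HasRpush f] (q : Y ⟶ S)
    (E : DCoh.D X) (hE : DCoh.IsQCohD E)
    (h : ∀ x, ∃ V : X.Opens, x ∈ V ∧ ∃ a b, ∀ x' ∈ V, STAAt (f ≫ q) a b E x') (y : Y) :
    ∃ W : Y.Opens, y ∈ W ∧ ∃ a b, ∀ y' ∈ W, STAAt q a b ((DCoh.Rpush f).obj E) y' := by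
  obtain ⟨S0, hS0, hs, -⟩ := exists_isAffineOpen_mem_and_subset (x := q y) (U := (⊤ : S.Opens)) trivial
  obtain ⟨W, hW, hyW, hWle⟩ := exists_isAffineOpen_mem_and_subset (x := y) (U := q ⁻¹ᵁ S0) hs
  obtain ⟨a, b, hab⟩ := exists_interval_of_local (fun a b x => STAAt (f ≫ q) a b E x)
    (fun a b a' b' x ha hb h => h.mono ha hb)
    (fun x => by
      obtain ⟨V, hx, hV⟩ := h x
      exact ⟨V, V.2, hx, hV⟩)
    (f ⁻¹ᵁ W : Set X) (QuasiCompact.isCompact_preimage (W : Set Y) W.2 hW.isCompact)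
  obtain ⟨b', hb'⟩ := exists_sta_Rpush_nhd f q hS0 hW hWle E hE a b fun x hx => hab x hx
  exact ⟨W, hyW, a, b', hb'⟩

/-- Flatness over the base in degrees `[a, b]` gives stalkwise amplitude. -/
theorem staAt_of_relFlatAmp (f : X ⟶ Y) {a b : ℤ} {E : DCoh.D X} (h : DCoh.HasRelFlatAmplitudeIn f a b E)
    (x : X) : STAAt f a b E x := by
  obtain ⟨P, hP, hPf, ⟨e⟩⟩ := h
  refine ((staAt_toD_iff f a b P x).2 ?_).of_iso e
  exact ⟨(TorStalk41.SOc f x).obj P, fun i hi => (TorStalk41.SO f x).map_isZero (hP i hi),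
    fun i => hPf i x, ⟨Iso.refl _⟩⟩

/-- Absolute stalkwise amplitude gives tor amplitude. -/
theorem torAmp_of_sta_id {a b : ℤ} {K : DCoh.D Y} (h : ∀ y, STAAt (𝟙 Y) a b K y) :
    DCoh.HasTorAmplitudeIn a b K := by
  obtain ⟨P, hv, hf, ⟨e⟩⟩ := TorStalk41.flatAmp_of_hasTorAmplitude_id
    (F := DerivedCategory.Q.objPreimage K)
    fun y => (staAt_toD_iff _ a b _ y).1 ((h y).of_iso (DCX42.rep K).symm)
  exact DCK91.torAmp_of_flatAmp ⟨P, hv, hf, ⟨e ≪≫ DCX42.rep K⟩⟩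

/-- Absolute locally finite tor dimension, stalkwise. -/
theorem sta_id_of_locTorDim {E : DCoh.D X} (h : DCoh.LocHasFiniteTorDim E) (x : X) :
    ∃ V : X.Opens, x ∈ V ∧ ∃ a b, ∀ x' ∈ V, STAAt (𝟙 X) a b E x' := by
  obtain ⟨V, a, b, hx, hV⟩ := h x
  refine ⟨V, hx, a, b, fun x' hx' => ?_⟩
  let F := DerivedCategory.Q.objPreimage E
  have hid : ∀ v : V.toScheme, ((𝟙 V.toScheme : V.toScheme ⟶ V.toScheme).stalkMap v).hom.Flat := fun v => by
    rw [TorStalk41.stalkMap_id_hom]; exact RingHom.Flat.id _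
  have h1 : STAAt (𝟙 V.toScheme) a b (DCoh.toD _ ((DCoh.restrictCx V).obj F)) ⟨x', hx'⟩ :=
    (staAt_toD_iff _ a b _ _).2 (TorStalk41.hasTorAmplitude_of_flatAmp _ hid (hV F ⟨DCX42.rep E⟩) _)
  have h2 := (staAt_comp_iff (𝟙 V.toScheme) V.ι a b _ ⟨x', hx'⟩).2 h1
  rw [Category.id_comp, ← Category.comp_id V.ι] at h2
  exact (staAt_resD_iff (𝟙 X) V.ι a b E ⟨x', hx'⟩).1
    (h2.of_iso ((DCX42.resQ V.ι F).symm ≪≫ (DCX42.resD V.ι).mapIso (DCX42.rep E)))

/-- Stalkwise absolute amplitude gives locally finite tor dimension. -/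
theorem locTorDim_of_sta_id {K : DCoh.D Y}
    (h : ∀ y, ∃ W : Y.Opens, y ∈ W ∧ ∃ a b, ∀ y' ∈ W, STAAt (𝟙 Y) a b K y') : DCoh.LocHasFiniteTorDim K := by
  intro y
  obtain ⟨W, hy, a, b, hW⟩ := h y
  refine ⟨W, a, b, hy, fun F' ⟨e⟩ => TorStalk41.flatAmp_of_hasTorAmplitude_id fun w => ?_⟩
  refine (staAt_toD_iff _ a b _ w).1 ((staAt_comp_iff (𝟙 W.toScheme) W.ι a b _ w).1 ?_)
  rw [Category.id_comp, ← Category.comp_id W.ι]
  exact ((staAt_resD_iff (𝟙 Y) W.ι a b K w).2 (hW _ w.2)).of_iso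
    ((DCX42.resD W.ι).mapIso e.symm ≪≫ DCX42.resQ W.ι F')

/-- Locally finite tor dimension over a morphism of locally finite tor dimension. -/
theorem sta_of_id_of_locFiniteTorDim (f : X ⟶ Y) (hf : DerSch.LocFiniteTorDim f) {E : DCoh.D X}
    (h : DCoh.LocHasFiniteTorDim E) (x : X) :
    ∃ V : X.Opens, x ∈ V ∧ ∃ a b, ∀ x' ∈ V, STAAt f a b E x' := by
  obtain ⟨V, hx, a, b, hV⟩ := sta_id_of_locTorDim h x
  obtain ⟨W, p, r, hxW, hW⟩ := hf x
  refine ⟨V ⊓ W, ⟨hx, hxW⟩, a + p, b + max r 0, fun x' hx' => ?_⟩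
  refine ((staAt_toD_iff f _ _ (DerivedCategory.Q.objPreimage E) x').2 ?_).of_iso (DCX42.rep E)
  have hX := (staAt_toD_iff _ a b (DerivedCategory.Q.objPreimage E) x').1 ((hV x' hx'.1).of_iso (DCX42.rep E).symm)
  have hB : DR39.TA p r (Dual.inD (Y.presheaf.stalk (f.base x')) ((ModuleCat.restrictScalars (f.stalkMap x').hom).obj
      (ModuleCat.of (X.presheaf.stalk x') (X.presheaf.stalk x')))) :=
    DR39.TA.of_iso (hW x' hx'.2) ((DR39.QA _).mapIso
      ((HomologicalComplex.singleMapHomologicalComplex (TorStalk41.SO f x') (ComplexShape.up ℤ) 0).app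
        (Coh.structureModule X) ≪≫
      (HomologicalComplex.single _ (ComplexShape.up ℤ) 0).mapIso
        ((ModuleCat.restrictScalars (f.stalkMap x').hom).mapIso (TorStalk41.stalkUnitIso x'))) ≪≫
      ((SingleFunctors.evaluation _ _ 0).mapIso (DerivedCategory.singleFunctorsPostcompQIso _)).symm.app _)
  have := TorStalk41.ta_res_comp (f.stalkMap x').hom ((𝟙 X : X ⟶ X).stalkMap x').hom (f.stalkMap x').hom
    (by rw [TorStalk41.stalkMap_id_hom]; rfl) ((DCK91.SPc x').obj (DerivedCategory.Q.objPreimage E)) hB hX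
  exact this

end Groth.Agent.QCohPush72
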